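import Cfsg.Agent.Lib.Cls.Basic
import Cfsg.Agent.Lib.Deg.TvGen

/-!
Annihilators of additive subgroups of a finite formed space with respect to an additive character.
-/

set_option autoImplicit false

namespace Cfsg.Agent.MI

open Module Cfsg.Agent.Forms Cfsg.Agent.Forms.Form

variable {F : Type*} [Field F] {P : Param F} {V : Type*} [AddCommGroup V] [Module F V]

/-- a nontrivial additive character adapted to the parameters -/
structure Chr (P : Param F) where
  ψ : AddChar F ℂ
  ne : ψ ≠ 1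
  symm : ∀ a, ψ a = 1 → ψ (P.ε * P.σ a) = 1

namespace Chr

variable (c : Chr P) (f : Form P V)

theorem B_comm {x y : V} : c.ψ (f.B x y) = 1 ↔ c.ψ (f.B y x) = 1 :=
  ⟨fun h => by rw [f.symm]; exact c.symm _ h, fun h => by rw [f.symm]; exact c.symm _ h⟩

theorem eq_zero {a : F} (h : ∀ s, c.ψ (s * a) = 1) : a = 0 := by
  by_contra ha
  apply c.ne
  ext s
  have := h (s / a)
  rwa [div_mul_cancel₀ _ ha] at this

/-- the annihilator -/
def ann (S : AddSubgroup V) : AddSubgroup V where
  carrier := {a | ∀ v ∈ S, c.ψ (f.B v a) = 1}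
  zero_mem' v _ := by simp
  add_mem' {a b} ha hb v hv := by
    rw [B_add_right, AddChar.map_add_eq_mul, ha v hv, hb v hv, one_mul]
  neg_mem' {a} ha v hv := by
    rw [B_neg_right, AddChar.map_neg_eq_inv, ha v hv, inv_one]

variable {c f}

theorem mem_ann {S : AddSubgroup V} {a : V} : a ∈ c.ann f S ↔ ∀ v ∈ S, c.ψ (f.B v a) = 1 := Iff.rfl

theorem mem_ann' {S : AddSubgroup V} {a : V} : a ∈ c.ann f S ↔ ∀ v ∈ S, c.ψ (f.B a v) = 1 :=
  forall₂_congr fun _ _ => c.B_comm f

theorem ann_anti {S T : AddSubgroup V} (h : S ≤ T) : c.ann f T ≤ c.ann f S :=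
  fun _ ha v hv => ha v (h hv)

theorem le_ann_ann (S : AddSubgroup V) : S ≤ c.ann f (c.ann f S) :=
  fun _ hv _ ha => (c.B_comm f).1 (ha _ hv)

theorem mem_ann_of_B {S : AddSubgroup V} {a : V} (h : ∀ v ∈ S, f.B v a = 0) : a ∈ c.ann f S :=
  fun v hv => by rw [h v hv]; simp

theorem B_eq_zero_of_mem_ann {S : AddSubgroup V} {a v : V} (ha : a ∈ c.ann f S)
    (hv : ∀ s : F, s • v ∈ S) : f.B v a = 0 :=
  c.eq_zero fun s => by rw [← B_smul_left]; exact ha _ (hv s)

theorem B_eq_zero_of_smul_mem_ann {S : AddSubgroup V} {a v : V} (ha : ∀ s : F, s • a ∈ c.ann f S)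
    (hv : v ∈ S) : f.B a v = 0 :=
  c.eq_zero fun s => by rw [← B_smul_left]; exact mem_ann'.1 (ha s) v hv

theorem ann_submodule (M : Submodule F V) :
    c.ann f M.toAddSubgroup = (f.orth M).toAddSubgroup := by
  ext a
  exact ⟨fun h => mem_orth'.2 fun w hw => B_eq_zero_of_mem_ann h fun s => M.smul_mem s hw,
    fun h => mem_ann_of_B fun v hv => mem_orth'.1 h v hv⟩

/-- the character `v ↦ ψ (B v a)` -/
def chL (c : Chr P) (f : Form P V) (a : V) : AddChar V ℂ where
  toFun v := c.ψ (f.B v a)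
  map_zero_eq_one' := by simp
  map_add_eq_mul' x y := by rw [B_add_left, AddChar.map_add_eq_mul]

/-- the character `a ↦ ψ (B v a)` -/
def chR (c : Chr P) (f : Form P V) (v : V) : AddChar V ℂ where
  toFun a := c.ψ (f.B v a)
  map_zero_eq_one' := by simp
  map_add_eq_mul' x y := by rw [B_add_right, AddChar.map_add_eq_mul]

theorem card_mul_card_ann [Finite V] (hf : f.Nondeg) (S : AddSubgroup V) :
    Nat.card S * Nat.card (c.ann f S) = Nat.card V := by
  classical
  have := Fintype.ofFinite V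
  have h1 : ∀ a : V, ∑ v : S, c.ψ (f.B v a) = if a ∈ c.ann f S then (Nat.card S : ℂ) else 0 := by
    intro a
    have := AddChar.sum_eq_ite ((c.chL f a).compAddMonoidHom S.subtype)
    rw [Nat.card_eq_fintype_card]
    refine this.trans (if_congr (Iff.symm ?_) rfl rfl)
    constructor
    · intro h; ext v; exact h v v.2
    · intro h v hv; exact DFunLike.congr_fun h ⟨v, hv⟩
  have h2 : ∀ v : S, ∑ a : V, c.ψ (f.B v a) = if v = 0 then (Nat.card V : ℂ) else 0 := by
    intro v
    have := AddChar.sum_eq_ite (c.chR f v)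
    rw [Nat.card_eq_fintype_card]
    refine this.trans (if_congr (Iff.symm ?_) rfl rfl)
    constructor
    · rintro rfl; ext a; simp [chR]
    · intro h
      apply Subtype.ext
      refine hf _ fun y => c.eq_zero fun s => ?_
      have := DFunLike.congr_fun h (P.σ s • y)
      simpa [chR, B_smul_right, P.σσ] using this
  have h3 := Finset.sum_comm (s := Finset.univ) (t := Finset.univ)
    (f := fun (a : V) (v : S) => c.ψ (f.B v a))
  simp only [h1, h2, Finset.sum_ite_eq', Finset.mem_univ, if_true, ← Finset.sum_filter,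
    Finset.sum_const, nsmul_eq_mul] at h3
  have h4 : (Finset.univ.filter fun a => a ∈ c.ann f S).card = Nat.card (c.ann f S) := by
    rw [Nat.card_eq_fintype_card, Fintype.card_subtype]
  rw [h4] at h3
  rw [mul_comm]
  exact_mod_cast h3

theorem ann_ann [Finite V] (hf : f.Nondeg) (S : AddSubgroup V) : c.ann f (c.ann f S) = S := by
  refine (AddSubgroup.eq_of_le_of_card_ge (le_ann_ann S) ?_).symm
  have h1 := card_mul_card_ann (c := c) hf S
  have h2 := card_mul_card_ann (c := c) hf (c.ann f S)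
  have h3 : 0 < Nat.card (c.ann f S) := Nat.card_pos
  rw [mul_comm, ← h2] at h1
  exact (Nat.eq_of_mul_eq_mul_left h3 h1).ge

theorem le_of_ann_le [Finite V] (hf : f.Nondeg) {S T : AddSubgroup V}
    (h : c.ann f S ≤ c.ann f T) : T ≤ S := by
  rw [← ann_ann (c := c) hf S]
  exact (le_ann_ann T).trans (ann_anti h)

theorem mem_of_ann [Finite V] (hf : f.Nondeg) {S : AddSubgroup V} {v : V}
    (h : ∀ a ∈ c.ann f S, c.ψ (f.B v a) = 1) : v ∈ S := by
  rw [← ann_ann (c := c) hf S]
  exact mem_ann'.2 h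

theorem mem_of_ann_B [Finite V] (hf : f.Nondeg) {S : AddSubgroup V} {v : V}
    (h : ∀ a ∈ c.ann f S, f.B v a = 0) : v ∈ S :=
  mem_of_ann (c := c) hf fun a ha => by rw [h a ha]; simp

end Chr

theorem exists_addChar_ne [Finite F] {t : F} (ht : t ≠ 0) : ∃ ψ : AddChar F ℂ, ψ t ≠ 1 := by
  have := Fintype.ofFinite F
  by_contra h
  push Not at h
  exact ht (AddChar.forall_apply_eq_zero.1 h)

theorem exists_chr_sp (F : Type*) [Field F] [Finite F] : Nonempty (Chr (Param.sp F)) := by
  obtain ⟨ψ, h⟩ := exists_addChar_ne (one_ne_zero (α := F))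
  exact ⟨⟨ψ, fun e => h (by rw [e]; rfl), fun a ha => by
    simp [AddChar.map_neg_eq_inv, ha]⟩⟩

theorem exists_chr_tau [Finite F] (P : Param F) (h : ∃ a, P.τ a ≠ 0) :
    ∃ c : Chr P, ∀ a, P.τ a = 0 → c.ψ a = 1 := by
  obtain ⟨a, ha⟩ := h
  obtain ⟨ψ, h⟩ := exists_addChar_ne ha
  exact ⟨⟨ψ.compAddMonoidHom P.τ, fun e => h (DFunLike.congr_fun e a), fun b hb => by
    simpa [P.τ_σ] using hb⟩, fun b hb => by simp [hb]⟩

end Cfsg.Agent.MI
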