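import Cfsg.Agent.Lib.MI.Ann

/-!
The group of Eichler transformations at a singular vector acting on a finite set: stabilisers,
their annihilators (blocks), orbit lengths.
-/

set_option autoImplicit false

namespace Cfsg.Agent.MI

open Module Cfsg.Agent.Forms Cfsg.Agent.Forms.Form Cfsg.Agent.Cls Cfsg.Agent.Deg

variable {F : Type*} [Field F] {P : Param F} {V : Type*} [AddCommGroup V] [Module F V]

/-- the parameters of transvections -/
def Lam (P : Param F) : AddSubgroup F where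
  carrier := {l | Lam0 P l}
  zero_mem' := ⟨by simp, by simp⟩
  add_mem' {a b} ha hb := ⟨by rw [map_add, ha.1, hb.1, add_zero], by
    rw [map_add]; linear_combination ha.2 + hb.2⟩
  neg_mem' ha := ha.neg

theorem mem_Lam {l : F} : l ∈ Lam P ↔ Lam0 P l := Iff.rfl

theorem mem_Lam_iff {l : F} : l ∈ Lam P ↔ P.τ l = 0 := ⟨fun h => h.1, fun h => ⟨h, P.τ_ker l h⟩⟩

theorem norm_mul_mem_Lam {l : F} (a : F) (h : l ∈ Lam P) : a * P.σ a * l ∈ Lam P :=
  mem_Lam_iff.2 (by rw [P.τ_mul, h.1, mul_zero])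

variable {f : Form P V}

theorem isE_tr {u : V} {l : F} (hu : f.Q u = 0) (hl : Lam0 P l) : IsE (tr f u l hu hl) u 0 l :=
  isE_eichler _ _ _

theorem IsE_lam0 {g : f.Isom} {u : V} {l : F} (h : IsE g u 0 l) : Lam0 P l :=
  lam0_of_isLam h.lam f.Q_zero

theorem IsE_smul_left' {g : f.Isom} {u v : V} {l a : F} (ha : a ≠ 0)
    (h : IsE g u (P.σ a • v) (a * P.σ a * l)) : IsE g (a • u) v l := by
  have h1 : IsE g (a⁻¹ • a • u) (P.σ a • v) (a * P.σ a * l) := by rwa [inv_smul_smul₀ ha]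
  have hσ := P.σ_ne_zero ha
  refine (h1.smul_left (inv_ne_zero ha)).congr ?_ ?_
  · rw [map_inv₀, inv_smul_smul₀ hσ]
  · rw [map_inv₀]; field_simp

theorem IsE_add_self {g : f.Isom} {u v : V} {l : F} (hu : f.Q u = 0) (s : F) (h : IsE g u v l) :
    IsE g u (v + s • u) (l - P.σ s + P.ε * s) := by
  have := IsE.add_self (v := v + s • u) (l := l) hu (-s) (by simpa using h)
  refine this.congr rfl ?_
  rw [map_neg]; ring

theorem IsE_apply_orth {g : f.Isom} {u v : V} {l : F} (h : IsE g u v l) {w : V}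
    (hw : f.B w u = 0) : g.1 w = w + (-(P.ε * f.B w v)) • u := by
  rw [h.app, hw]; module

theorem IsE_one_mem (hf : f.Nondeg) {u v : V} {l : F} (hu : f.Q u = 0) (hu0 : u ≠ 0)
    (h : IsE (1 : f.Isom) u v l) : v ∈ F ∙ u := by
  obtain ⟨e, he⟩ := hf.exists_hypPair hu hu0
  have h1 := h.app e
  rw [Isom.one_apply, he.Beu] at h1
  refine Submodule.mem_span_singleton.2 ⟨f.B e v + P.ε * l, ?_⟩
  have h2 : P.ε • v = (P.ε * f.B e v + P.ε * l * P.ε) • u := by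
    linear_combination (norm := module) -h1
  have h3 := congrArg (P.ε • ·) h2
  simp only [smul_smul, P.εε, one_smul] at h3
  refine Eq.trans ?_ h3.symm
  congr 1
  linear_combination (-(f.B e v) - P.ε * l) * P.εε

/-- pairs of parameters of Eichler transformations -/
@[ext] structure Par (f : Form P V) (u : V) where
  v : V
  l : F
  orth : f.B v u = 0
  lam : f.IsLam v l

instance instGroupPar (f : Form P V) (u : V) : Group (Par f u) where
  mul a b := ⟨a.v + b.v, a.l + b.l + f.B b.v a.v, by rw [B_add_left, a.orth, b.orth, add_zero], by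
    have := b.lam.add a.lam; rwa [add_comm b.v, add_comm b.l] at this⟩
  one := ⟨0, 0, f.B_zero_left u, f.isLam_zero_of_Q f.Q_zero⟩
  inv a := ⟨-a.v, P.ε * P.σ a.l, by rw [B_neg_left, a.orth, neg_zero], a.lam.conj.neg⟩
  mul_assoc a b c := Par.ext (add_assoc _ _ _) (by
    change a.l + b.l + f.B b.v a.v + c.l + f.B c.v (a.v + b.v) =
      a.l + (b.l + c.l + f.B c.v b.v) + f.B (b.v + c.v) a.v
    rw [B_add_left, B_add_right]; ring)
  one_mul a := Par.ext (zero_add _) (by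
    change 0 + a.l + f.B a.v 0 = a.l
    simp)
  mul_one a := Par.ext (add_zero _) (by
    change a.l + 0 + f.B 0 a.v = a.l
    simp)
  inv_mul_cancel a := Par.ext (neg_add_cancel _) (by
    change P.ε * P.σ a.l + a.l + f.B a.v (-a.v) = 0
    rw [B_neg_right, ← a.lam.2]; ring)

/-- the Eichler transformation with given parameters -/
def Par.hom {u : V} (hu : f.Q u = 0) : Par f u →* f.Isom where
  toFun a := f.eichler u a.v a.l hu a.orth a.lam
  map_one' := (isE_eichler _ _ _).eq_one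
  map_mul' a b := (f.eichler_mul u a.v b.v a.l b.l hu a.orth b.orth a.lam b.lam).symm

/-- the vector part -/
def Par.vec (f : Form P V) (u : V) : Par f u →* Multiplicative V where
  toFun a := Multiplicative.ofAdd a.v
  map_one' := rfl
  map_mul' _ _ := rfl

instance instFinitePar [Finite F] [Finite V] (f : Form P V) (u : V) : Finite (Par f u) :=
  Finite.of_injective (fun a => (a.v, a.l)) fun _ _ h =>
    Par.ext (congrArg Prod.fst h) (congrArg Prod.snd h)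

theorem card_subgroup_par [Finite F] [Finite V] {u : V} (S : Subgroup (Par f u))
    (A : AddSubgroup V) (T : AddSubgroup F) (hA : ∀ v, v ∈ A ↔ ∃ a ∈ S, a.v = v)
    (hT : ∀ l, l ∈ T ↔ ∃ a ∈ S, a.v = 0 ∧ a.l = l) : Nat.card S = Nat.card A * Nat.card T := by
  let φ := (Par.vec f u).comp S.subtype
  rw [Subgroup.card_eq_card_quotient_mul_card_subgroup φ.ker,
    Nat.card_congr (QuotientGroup.quotientKerEquivRange φ).toEquiv]
  congr 1
  · refine Nat.card_congr (Equiv.ofBijective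
      (fun x => ⟨x.1.toAdd, by
        obtain ⟨_, a, rfl⟩ := x
        exact (hA _).2 ⟨a.1, a.2, rfl⟩⟩) ⟨fun x y h => Subtype.ext ?_, fun ⟨v, hv⟩ => ?_⟩)
    · exact Multiplicative.toAdd.injective (congrArg (fun z : A => z.1) h)
    · obtain ⟨a, ha, rfl⟩ := (hA v).1 hv
      exact ⟨⟨_, ⟨a, ha⟩, rfl⟩, rfl⟩
  · refine Nat.card_congr (Equiv.ofBijective
      (fun x => ⟨x.1.1.l, (hT _).2 ⟨x.1.1, x.1.2, x.2, rfl⟩⟩)
      ⟨fun x y h => Subtype.ext (Subtype.ext (Par.ext ?_ (congrArg Subtype.val h))),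
        fun ⟨l, hl⟩ => ?_⟩)
    · exact (show x.1.1.v = 0 from x.2).trans (show y.1.1.v = 0 from y.2).symm
    · obtain ⟨a, ha, h0, rfl⟩ := (hT l).1 hl
      exact ⟨⟨⟨a, ha⟩, h0⟩, rfl⟩

variable {X : Type*} [MulAction f.Isom X]

variable (f) in
/-- the Eichler transformation with parameters `u v l` fixes `ω` -/
def Fx (u v : V) (l : F) (ω : X) : Prop := ∃ g : f.Isom, IsE g u v l ∧ g • ω = ω

namespace Fx

variable {u v v' : V} {l l' : F} {ω : X}

theorem orth (h : Fx f u v l ω) : f.B v u = 0 := h.choose_spec.1.orth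
theorem lam (h : Fx f u v l ω) : f.IsLam v l := h.choose_spec.1.lam

theorem zero (u : V) (ω : X) : Fx f u 0 0 ω := ⟨1, isE_one u, one_smul _ _⟩

theorem congr (h : Fx f u v l ω) (e1 : v = v') (e2 : l = l') : Fx f u v' l' ω := e1 ▸ e2 ▸ h

theorem smul_eq (h : Fx f u v l ω) {g : f.Isom} (hg : IsE g u v l) : g • ω = ω := by
  obtain ⟨g', h1, h2⟩ := h
  rwa [hg.eq h1]

theorem mul (hu : f.Q u = 0) (h : Fx f u v l ω) (h' : Fx f u v' l' ω) :
    Fx f u (v + v') (l + l' + f.B v' v) ω := by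
  obtain ⟨g, h1, h2⟩ := h
  obtain ⟨g', h1', h2'⟩ := h'
  exact ⟨g * g', h1.mul hu h1', by rw [mul_smul, h2', h2]⟩

theorem inv (hu : f.Q u = 0) (h : Fx f u v l ω) : Fx f u (-v) (P.ε * P.σ l) ω := by
  obtain ⟨g, h1, h2⟩ := h
  exact ⟨g⁻¹, h1.inv hu, by rw [inv_smul_eq_iff, h2]⟩

theorem map (h : Fx f u v l ω) (k : f.Isom) : Fx f (k.1 u) (k.1 v) l (k • ω) := by
  obtain ⟨g, h1, h2⟩ := h
  exact ⟨_, h1.conj k, by rw [mul_smul, mul_smul, inv_smul_smul, h2]⟩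

theorem map_fix (h : Fx f u v l ω) {k : f.Isom} (hk : k • ω = ω) : Fx f (k.1 u) (k.1 v) l ω := by
  have := h.map k
  rwa [hk] at this

theorem smul_left {a : F} (h : Fx f (a • u) v l ω) (ha : a ≠ 0) :
    Fx f u (P.σ a • v) (a * P.σ a * l) ω := by
  obtain ⟨g, h1, h2⟩ := h
  exact ⟨g, h1.smul_left ha, h2⟩

theorem smul_left' {a : F} (ha : a ≠ 0) (h : Fx f u (P.σ a • v) (a * P.σ a * l) ω) :
    Fx f (a • u) v l ω := by
  obtain ⟨g, h1, h2⟩ := h
  exact ⟨g, IsE_smul_left' ha h1, h2⟩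

theorem of_add_self (hu : f.Q u = 0) (s : F) (h : Fx f u (v + s • u) l ω) :
    Fx f u v (l + P.σ s - P.ε * s) ω := by
  obtain ⟨g, h1, h2⟩ := h
  exact ⟨g, h1.add_self hu s, h2⟩

theorem add_self (hu : f.Q u = 0) (s : F) (h : Fx f u v l ω) :
    Fx f u (v + s • u) (l - P.σ s + P.ε * s) ω := by
  obtain ⟨g, h1, h2⟩ := h
  exact ⟨g, IsE_add_self hu s h1, h2⟩

theorem swap {u' : V} {a : F} (hu : f.Q u = 0) (huu : f.B u u' = 0) (h : Fx f u (a • u') 0 ω) :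
    Fx f u' ((-(P.ε * P.σ a)) • u) 0 ω := by
  obtain ⟨g, h1, h2⟩ := h
  exact ⟨g, h1.swap hu huu, h2⟩

theorem sub (hu : f.Q u = 0) (h : Fx f u v l ω) (h' : Fx f u v l' ω) : Fx f u 0 (l - l') ω := by
  refine (h.mul hu (h'.inv hu)).congr (add_neg_cancel v) ?_
  rw [B_neg_left, ← h'.lam.2]; ring

theorem comm (hu : f.Q u = 0) (h : Fx f u v l ω) (h' : Fx f u v' l' ω) :
    Fx f u 0 (f.B v' v - f.B v v') ω :=
  ((h.mul hu h').sub hu ((h'.mul hu h).congr (add_comm _ _) rfl)).congr rfl (by ring)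

theorem add_tau (hu : f.Q u = 0) (h : Fx f u v l ω) (h' : Fx f u 0 l' ω) : Fx f u v (l + l') ω :=
  (h.mul hu h').congr (add_zero v) (by simp)

end Fx

variable (f) in
/-- vector parts of the stabiliser -/
def Sb (u : V) (ω : X) : AddSubgroup V where
  carrier := {v | f.Q u = 0 → ∃ l, Fx f u v l ω}
  zero_mem' _ := ⟨0, Fx.zero u ω⟩
  add_mem' ha hb hu := let ⟨_, h⟩ := ha hu; let ⟨_, h'⟩ := hb hu; ⟨_, h.mul hu h'⟩
  neg_mem' ha hu := let ⟨_, h⟩ := ha hu; ⟨_, h.inv hu⟩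

variable (f) in
/-- transvections in the stabiliser -/
def tau (u : V) (ω : X) : AddSubgroup F where
  carrier := {l | Lam0 P l ∧ (f.Q u = 0 → Fx f u 0 l ω)}
  zero_mem' := ⟨(Lam P).zero_mem, fun _ => Fx.zero u ω⟩
  add_mem' ha hb := ⟨(Lam P).add_mem ha.1 hb.1, fun hu => (ha.2 hu).add_tau hu (hb.2 hu)⟩
  neg_mem' ha := ⟨ha.1.neg, fun hu => ((Fx.zero u ω).sub hu (ha.2 hu)).congr rfl (zero_sub _)⟩

variable {u v y : V} {l : F} {ω ω' : X}

theorem mem_Sb (hu : f.Q u = 0) : v ∈ Sb f u ω ↔ ∃ l, Fx f u v l ω := ⟨fun h => h hu, fun h _ => h⟩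

theorem Fx.mem_Sb (h : Fx f u v l ω) : v ∈ Sb f u ω := fun _ => ⟨l, h⟩

theorem mem_tau (hu : f.Q u = 0) : l ∈ tau f u ω ↔ Fx f u 0 l ω :=
  ⟨fun h => h.2 hu, fun h => ⟨lam0_of_isLam h.lam f.Q_zero, fun _ => h⟩⟩

theorem Fx.mem_tau (h : Fx f u 0 l ω) : l ∈ tau f u ω :=
  ⟨lam0_of_isLam h.lam f.Q_zero, fun _ => h⟩

theorem tau_le (u : V) (ω : X) : tau f u ω ≤ Lam P := fun _ h => h.1

theorem smul_self_mem_Sb (s : F) : s • u ∈ Sb f u ω := fun hu =>
  ⟨_, ((Fx.zero u ω).add_self hu s).congr (zero_add _) rfl⟩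

theorem orth_of_mem_Sb (hu : f.Q u = 0) (h : v ∈ Sb f u ω) : f.B v u = 0 :=
  let ⟨_, h⟩ := h hu; h.orth

theorem comm_mem_tau (hu : f.Q u = 0) {v' : V} (h : v ∈ Sb f u ω) (h' : v' ∈ Sb f u ω) :
    f.B v' v - f.B v v' ∈ tau f u ω :=
  let ⟨_, h⟩ := h hu; let ⟨_, h'⟩ := h' hu; (h.comm hu h').mem_tau

theorem fx_of_tau (hu : f.Q u = 0) (ht : tau f u ω = Lam P) (h : v ∈ Sb f u ω)
    (hl : f.IsLam v l) : Fx f u v l ω := by
  obtain ⟨l', h⟩ := h hu
  have : l - l' ∈ tau f u ω := ht ▸ lam0_sub hl h.lam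
  exact (h.add_tau hu ((mem_tau hu).1 this)).congr rfl (by ring)

theorem map_mem_Sb (k : f.Isom) (h : v ∈ Sb f u ω) : k.1 v ∈ Sb f (k.1 u) (k • ω) := fun hu =>
  let ⟨l, h⟩ := h (by rwa [Isom.map_Q] at hu); ⟨l, h.map k⟩

theorem map_mem_Sb_iff (k : f.Isom) : k.1 v ∈ Sb f (k.1 u) (k • ω) ↔ v ∈ Sb f u ω :=
  ⟨fun h => by simpa using map_mem_Sb k⁻¹ h, map_mem_Sb k⟩

theorem mem_Sb_smul (hu : f.Q u = 0) {a : F} (ha : a ≠ 0) :
    v ∈ Sb f (a • u) ω ↔ P.σ a • v ∈ Sb f u ω := by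
  have hu' : f.Q (a • u) = 0 := by rw [f.Q_smul, hu, mul_zero]
  refine ⟨fun h => let ⟨_, h⟩ := h hu'; (h.smul_left ha).mem_Sb, fun h => ?_⟩
  obtain ⟨l, h⟩ := h hu
  have hσ := P.σ_ne_zero ha
  exact (Fx.smul_left' (l := (a * P.σ a)⁻¹ * l) ha (h.congr rfl (by field_simp))).mem_Sb

theorem map_mem_tau (k : f.Isom) (h : l ∈ tau f u ω) : l ∈ tau f (k.1 u) (k • ω) :=
  ⟨h.1, fun hu => by simpa using (h.2 (by rwa [Isom.map_Q] at hu)).map k⟩

theorem tau_map (k : f.Isom) : tau f (k.1 u) (k • ω) = tau f u ω :=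
  le_antisymm (fun _ h => by simpa using map_mem_tau k⁻¹ h) fun _ => map_mem_tau k

theorem mem_tau_smul (hu : f.Q u = 0) {a : F} (ha : a ≠ 0) :
    l ∈ tau f (a • u) ω ↔ a * P.σ a * l ∈ tau f u ω := by
  have hu' : f.Q (a • u) = 0 := by rw [f.Q_smul, hu, mul_zero]
  rw [mem_tau hu, mem_tau hu']
  exact ⟨fun h => by simpa using h.smul_left ha, fun h => Fx.smul_left' ha (by simpa using h)⟩

theorem card_tau_smul (hu : f.Q u = 0) {a : F} (ha : a ≠ 0) :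
    Nat.card (tau f (a • u) ω) = Nat.card (tau f u ω) :=
  Nat.card_congr (Equiv.subtypeEquiv (Equiv.mulLeft₀ _ (mul_ne_zero ha (P.σ_ne_zero ha)))
    fun _ => mem_tau_smul hu ha)

variable (f) in
/-- same orbit -/
def SO (u : V) (ω ω' : X) : Prop := ∃ (g : f.Isom) (v : V) (l : F), IsE g u v l ∧ g • ω = ω'

theorem SO.refl (u : V) (ω : X) : SO f u ω ω := ⟨1, 0, 0, isE_one u, one_smul _ _⟩

theorem SO.symm (hu : f.Q u = 0) (h : SO f u ω ω') : SO f u ω' ω :=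
  let ⟨g, _, _, h1, h2⟩ := h; ⟨g⁻¹, _, _, h1.inv hu, by rw [← h2, inv_smul_smul]⟩

theorem SO.trans (hu : f.Q u = 0) {ω'' : X} (h : SO f u ω ω') (h' : SO f u ω' ω'') :
    SO f u ω ω'' :=
  let ⟨g, _, _, h1, h2⟩ := h; let ⟨g', _, _, h1', h2'⟩ := h'
  ⟨g' * g, _, _, h1'.mul hu h1, by rw [mul_smul, h2, h2']⟩

theorem SO.map (h : SO f u ω ω') {k : f.Isom} {a : F} (hk : k.1 u = a • u) (ha : a ≠ 0) :
    SO f u (k • ω) (k • ω') :=
  let ⟨g, _, _, h1, h2⟩ := h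
  ⟨_, _, _, h1.of_conj hk ha, by rw [mul_smul, mul_smul, inv_smul_smul, h2]⟩

theorem SO.Sb_le (hu : f.Q u = 0) (h : SO f u ω ω') : Sb f u ω ≤ Sb f u ω' := by
  obtain ⟨g, v, l, h1, rfl⟩ := h
  intro w hw
  have := map_mem_Sb g hw
  rw [h1.apply_self hu, IsE_apply_orth h1 (orth_of_mem_Sb hu hw)] at this
  exact (AddSubgroup.add_mem_cancel_right _ (smul_self_mem_Sb _)).1 this

theorem SO.Sb_eq (hu : f.Q u = 0) (h : SO f u ω ω') : Sb f u ω = Sb f u ω' :=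
  le_antisymm (h.Sb_le hu) ((h.symm hu).Sb_le hu)

theorem SO.tau_eq (hu : f.Q u = 0) (h : SO f u ω ω') : tau f u ω = tau f u ω' := by
  obtain ⟨g, v, l, h1, rfl⟩ := h
  rw [← tau_map g, h1.apply_self hu]

theorem card_perp [Finite F] [Finite V] (hf : f.Nondeg) (hu0 : u ≠ 0) :
    Nat.card F * Nat.card (f.orth (F ∙ u)) = Nat.card V := by
  have := hf.finrank_add_orth (F ∙ u)
  rw [finrank_span_singleton hu0] at this
  rw [Module.natCard_eq_pow_finrank (K := F) (V := V),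
    Module.natCard_eq_pow_finrank (K := F) (V := f.orth (F ∙ u)), ← this, pow_add, pow_one]

theorem card_orbit_aux [Finite F] [Finite V] (hu : f.Q u = 0) (ω : X) :
    {ω' | SO f u ω ω'}.ncard * (Nat.card (Sb f u ω) * Nat.card (tau f u ω)) =
      Nat.card (f.orth (F ∙ u)) * Nat.card (Lam P) := by
  let _ : MulAction (Par f u) X := MulAction.compHom X (Par.hom hu)
  have h1 : {ω' | SO f u ω ω'} = MulAction.orbit (Par f u) ω := by
    ext ω'
    constructor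
    · rintro ⟨g, v, l, h1, rfl⟩
      exact ⟨⟨v, l, h1.orth, h1.lam⟩, congrArg (· • ω) (h1.eq_eichler hu).symm⟩
    · rintro ⟨a, rfl⟩
      exact ⟨_, _, _, isE_eichler hu a.orth a.lam, rfl⟩
  have h2 := card_subgroup_par (MulAction.stabilizer (Par f u) ω) (Sb f u ω) (tau f u ω)
    (fun v => ⟨fun h => let ⟨l, h⟩ := h hu
      ⟨⟨v, l, h.orth, h.lam⟩, h.smul_eq (isE_eichler hu h.orth h.lam), rfl⟩, by
      rintro ⟨a, ha, rfl⟩
      exact Fx.mem_Sb ⟨_, isE_eichler hu a.orth a.lam, ha⟩⟩)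
    (fun l => ⟨fun h => have h := h.2 hu
      ⟨⟨0, l, h.orth, h.lam⟩, h.smul_eq (isE_eichler hu h.orth h.lam), rfl, rfl⟩, by
      rintro ⟨a, ha, h0, rfl⟩
      exact Fx.mem_tau (Fx.congr ⟨_, isE_eichler hu a.orth a.lam, ha⟩ h0 rfl)⟩)
  have h3 := card_subgroup_par (⊤ : Subgroup (Par f u)) (f.orth (F ∙ u)).toAddSubgroup (Lam P)
    (fun v => ⟨fun h => let ⟨l, hl⟩ := f.exists_isLam v
      ⟨⟨v, l, mem_orth_singleton.1 h, hl⟩, trivial, rfl⟩, by
      rintro ⟨a, -, rfl⟩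
      exact mem_orth_singleton.2 a.orth⟩)
    (fun l => ⟨fun h => ⟨⟨0, l, f.B_zero_left u, Lam0.isLam h f⟩, trivial, rfl, rfl⟩, by
      rintro ⟨a, -, h0, rfl⟩
      exact lam0_of_isLam a.lam (by rw [h0, f.Q_zero])⟩)
  rw [h1, ← h2, ← MulAction.index_stabilizer, Subgroup.index_mul_card, ← Subgroup.card_top, h3]
  rfl

end Cfsg.Agent.MI
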