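import Cfsg.Agent.Lib.MI.Tr

/-!
Further general lemmas: points of line type, fixed points, the dual covering bound.
-/

set_option autoImplicit false

namespace Cfsg.Agent.MI

open Module Cfsg.Agent.Forms Cfsg.Agent.Forms.Form Cfsg.Agent.Cls Cfsg.Agent.Deg Finset

variable {F : Type*} [Field F] {P : Param F} {V : Type*} [AddCommGroup V] [Module F V]
  {c : Chr P} {f : Form P V} {X : Type*} [MulAction f.Isom X]
  {u v y z : V} {l a : F} {ω ω' : X} {G : Subgroup f.Isom} {Y : Finset X}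

theorem Fx.smul_swap (hu : f.Q u = 0) (hz : f.Q z = 0) (hzu : f.B z u = 0)
    (h : ∀ s : F, Fx f u (s • z) 0 ω) (s : F) : Fx f z (s • u) 0 ω :=
  ((h (-(P.ε * P.σ s))).swap hu (f.B_eq_zero_symm hzu)).congr (by
    rw [map_neg, map_mul, P.σε, P.σσ, mul_neg, neg_neg, ← mul_assoc, P.εε, one_mul]) rfl

theorem tr_orth {d w : V} {hd hl} (h : f.B w d = 0) : (tr f d l hd hl).1 w = w := by
  simp [tr_apply, h]

theorem IsE_Q_sub {g : f.Isom} (hu : f.Q u = 0) (hg : IsE g u v l) (w : V) :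
    f.Q (g.1 w - w) = f.B w u * P.σ (f.B w u) * f.Q v := by
  rw [← f.Q_smul, ← Q_add_smul hu (y := f.B w u • v) (by rw [B_smul_left, hg.orth, mul_zero])
    (-(P.ε * f.B w v) - P.ε * l * f.B w u), hg.app]
  congr 1; module

theorem not_reg_of_mem (hv : v ∈ Sb f u ω) (h : v ∉ F ∙ u) : ¬ Reg f u ω := fun r => h (r.1 v hv)

theorem not_mem_span_symm (hu0 : u ≠ 0) (h : z ∉ F ∙ u) : u ∉ F ∙ z := fun hc => by
  obtain ⟨s, rfl⟩ := Submodule.mem_span_singleton.1 hc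
  have hs : s ≠ 0 := by rintro rfl; simp at hu0
  exact h (Submodule.mem_span_singleton.2 ⟨s⁻¹, inv_smul_smul₀ hs z⟩)

variable (c f) in
/-- the block is contained in the line spanned by `u` and `y` -/
def Ln (u y : V) (ω : X) : Prop :=
  y ∈ Bl c f u ω ∧ y ∉ F ∙ u ∧ ∀ a ∈ Bl c f u ω, ∃ s t : F, s • u + t • y = a

theorem ncard_span_pair_le [Finite F] (u y : V) :
    {a | ∃ s t : F, s • u + t • y = a}.ncard ≤ Nat.card F * Nat.card F := by
  rw [← Nat.card_prod, ← Set.ncard_univ]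
  refine le_trans (Set.ncard_le_ncard ?_ (Set.toFinite _))
    (Set.ncard_image_le (f := fun p : F × F => p.1 • u + p.2 • y))
  rintro _ ⟨s, t, rfl⟩
  exact ⟨(s, t), trivial, rfl⟩

theorem card_Bl_le_of_line [Finite F] [Finite V]
    (h : ∀ a ∈ Bl c f u ω, ∃ s t : F, s • u + t • y = a) :
    Nat.card (Bl c f u ω) ≤ Nat.card F * Nat.card F :=
  (Set.ncard_le_ncard (s := (Bl c f u ω : Set V)) h).trans (ncard_span_pair_le u y)

section fin

variable [Finite F] [Finite V]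

theorem mem_Sb_of_line (hf : f.Nondeg) (h : ∀ a ∈ Bl c f u ω, ∃ s t : F, s • u + t • y = a)
    (h1 : f.B v u = 0) (h2 : f.B v y = 0) : v ∈ Sb f u ω := mem_Sb_of_Bl (c := c) hf fun a ha => by
  obtain ⟨s, t, rfl⟩ := h a ha
  simp [B_smul_right, h1, h2]

theorem mem_Sb_of_Bl_le (hf : f.Nondeg) (h : ∀ a ∈ Bl c f u ω, a ∈ F ∙ u) (h1 : f.B v u = 0) :
    v ∈ Sb f u ω := mem_Sb_of_Bl (c := c) hf fun a ha => by
  obtain ⟨s, rfl⟩ := Submodule.mem_span_singleton.1 (h a ha)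
  simp [B_smul_right, h1]

theorem line_step (hf : f.Nondeg) (hu : f.Q u = 0) (hu0 : u ≠ 0) (ht : tau f u ω = Lam P)
    (h : ∀ a ∈ Bl c f u ω, ∃ s t : F, s • u + t • y = a) (hz : f.Q z = 0) (h1 : f.B z u = 0)
    (h2 : f.B z y = 0) (h3 : z ∉ F ∙ u) :
    ¬ Reg f z ω ∧ ∀ y', Ln c f z y' ω → ∃ r s t : F, r • u + s • y + t • z = y' := by
  have key : ∀ v l, f.B v u = 0 → f.B v y = 0 → f.IsLam v l → Fx f u v l ω := fun v l a b hl =>
    fx_of_tau hu ht (mem_Sb_of_line hf h a b) hl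
  have h4 : ∀ s : F, s • u ∈ Sb f z ω := fun s => (Fx.smul_swap hu hz h1 (fun s => key _ _
    (by rw [B_smul_left, h1, mul_zero]) (by rw [B_smul_left, h2, mul_zero])
    (f.isLam_zero_of_Q (by rw [f.Q_smul, hz, mul_zero]))) s).mem_Sb
  have h5 := not_mem_span_symm hu0 h3
  refine ⟨not_reg_of_mem (by simpa using h4 1) h5, fun y' hy' => ?_⟩
  have h6 : f.B y' u = 0 := f.B_eq_zero_symm (Chr.B_eq_zero_of_mem_ann hy'.1 h4)
  by_cases h7 : u ∈ Bl c f z ω ∨ ∃ s t : F, s • z + t • y' = u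
  · obtain ⟨s, t, e⟩ := h7.elim (hy'.2.2 u) id
    have ht0 : t ≠ 0 := by
      rintro rfl
      exact h5 (Submodule.mem_span_singleton.2 ⟨s, by simpa using e⟩)
    exact ⟨t⁻¹, 0, -(t⁻¹ * s), by rw [← e]; match_scalars <;> field_simp <;> ring⟩
  have h8 : y' ∈ Submodule.span F {u, y, z} := by
    rw [← hf.orth_orth (Submodule.span F {u, y, z})]
    intro v hv
    rw [mem_orth_span] at hv
    have a1 := hv u (by simp)
    have a2 := hv y (by simp)
    have a3 := hv z (by simp)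
    obtain ⟨l, hl⟩ := f.exists_isLam v
    obtain ⟨g, hg, e⟩ := key v l a1 a2 hl
    have e1 := map_mem_Bl_fix e hy'.1
    rw [hg.apply_of_orth h1 (f.B_eq_zero_symm a3), IsE_apply_orth hg h6] at e1
    by_contra hc
    obtain ⟨s, t, e2⟩ := hy'.2.2 _ ((AddSubgroup.add_mem_cancel_left _ hy'.1).1 e1)
    have h0 : -(P.ε * f.B y' v) ≠ 0 := neg_ne_zero.2 (mul_ne_zero P.ε_ne_zero hc)
    exact h7 (Or.inr ⟨(-(P.ε * f.B y' v))⁻¹ * s, (-(P.ε * f.B y' v))⁻¹ * t, by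
      rw [mul_smul, mul_smul, ← smul_add, e2, inv_smul_smul₀ h0]⟩)
  obtain ⟨r, s, t, e⟩ := Submodule.mem_span_triple.1 h8
  exact ⟨r, s, t, e⟩

theorem Sys.not_full (S : Sys f G Y)
    (rk2 : ∀ u u', f.HypPair u u' → ∃ y, y ≠ 0 ∧ f.Q y = 0 ∧ f.B y u = 0 ∧ f.B y u' = 0)
    (hω : ω ∈ Y) (h : ∀ p z, f.Q p = 0 → p ≠ 0 → f.Q z = 0 → z ≠ 0 → p ∉ F ∙ z →
      (∀ s : F, Fx f z (s • p) 0 ω) → Full f p ω → Full f z ω)
    (hu : f.Q u = 0) (hu0 : u ≠ 0) : ¬ Full f u ω := fun hF => by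
  obtain ⟨z, hz, hz0, hc⟩ := S.proper ω hω
  refine hc (conn_of_rk2 S.nd rk2 S.big (T := fun z => Full f z ω)
    (fun p z hp hp0 hz hz0 h1 h2 => ?_) hu hu0 hF hz hz0)
  by_cases h3 : z ∈ F ∙ p
  · obtain ⟨s, rfl⟩ := Submodule.mem_span_singleton.1 h3
    exact h2.smul (by rintro rfl; simp at hz0)
  · exact h p z hp hp0 hz hz0 (not_mem_span_symm hp0 h3) (Fx.smul_swap hp hz h1 fun s =>
      h2 _ _ (by rw [B_smul_left, h1, mul_zero])
        (f.isLam_zero_of_Q (by rw [f.Q_smul, hz, mul_zero]))) h2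

theorem dual_cover (c : Chr P) (hf : f.Nondeg) (hu : f.Q u = 0) (hu0 : u ≠ 0) (hY : Cl f u Y)
    {C : Set V} (hC : ∀ y ∈ C, y ∉ F ∙ u) {m n : ℕ}
    (h1 : ∀ y ∈ C, ∃ ω ∈ Y, y ∈ Sb f u ω ∧ m * Nat.card F ≤ Nat.card (Bl c f u ω) * wt f u ω)
    (h2 : ∀ ω ∈ Y, Nat.card (Sb f u ω) ≤ n + Nat.card F) : C.ncard * m ≤ Y.card * n := by
  classical
  rw [Set.ncard_eq_toFinset_card C]
  refine card_mul_le_card_mul (fun y ω => y ∈ Sb f u ω) (fun y hy => ?_) fun ω hω => ?_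
  · obtain ⟨ω, hω, e1, e2⟩ := h1 y (by simpa using hy)
    rw [← card_orbit hf hu hu0] at e2
    refine (Nat.le_of_mul_le_mul_right e2 Nat.card_pos).trans ?_
    rw [← Set.ncard_coe_finset]
    refine Set.ncard_le_ncard fun ω' h => ?_
    simp only [coe_bipartiteAbove, Set.mem_ofPred_eq]
    exact ⟨hY ω hω ω' h, SO.Sb_le hu h e1⟩
  · have : (bipartiteBelow (fun y ω => y ∈ Sb f u ω) C.toFinite.toFinset ω).card + Nat.card F ≤
        Nat.card (Sb f u ω) := by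
      rw [← Nat.card_eq_finsetCard, ← Nat.card_sum]
      refine Nat.card_le_card_of_injective (Sum.elim
        (fun y => ⟨y.1, (mem_bipartiteBelow _ |>.1 y.2).2⟩) fun s => ⟨s • u, smul_self_mem_Sb s⟩) ?_
      rintro (x | x) (z | z) h
      · exact congrArg _ (Subtype.ext (congrArg (fun z : Sb f u ω => z.1) h))
      · exact absurd (Submodule.mem_span_singleton.2 ⟨z, (congrArg Subtype.val h).symm⟩)
          (hC _ (by simpa using (mem_bipartiteBelow _ |>.1 x.2).1))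
      · exact absurd (Submodule.mem_span_singleton.2 ⟨x, congrArg Subtype.val h⟩)
          (hC _ (by simpa using (mem_bipartiteBelow _ |>.1 z.2).1))
      · exact congrArg _ (smul_left_injective F hu0 (congrArg Subtype.val h))
    have := h2 ω hω
    omega

omit [Finite F] [Finite V] in
theorem mu_le_span (hu : f.Q u = 0) (s : F) : mu c f u Y y ≤ mu c f u Y (s • u) := by
  classical
  refine sum_le_sum_of_subset_of_nonneg (fun ω hω => ?_) fun _ _ _ => by positivity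
  rw [mem_filter] at hω ⊢
  exact ⟨hω.1, smul_self_mem_Bl hu s⟩

theorem class_le_span (hu : f.Q u = 0) (hu0 : u ≠ 0) {C : Set V} (hC : ∀ y ∈ C, y ∉ F ∙ u)
    {m : ℚ} (hy : y ∈ C) (h : ∀ y ∈ C, m ≤ mu c f u Y y) :
    m * (C.ncard + Nat.card F) ≤ Nat.card F * Y.card := by
  have := class_le_two (c := c) (f := f) (u := u) (Y := Y) (C := C)
    (D := ((F ∙ u : Submodule F V) : Set V)) (Set.disjoint_left.2 hC) h (m' := m) fun z hz => by
      obtain ⟨s, rfl⟩ := Submodule.mem_span_singleton.1 hz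
      exact (h y hy).trans (mu_le_span hu s)
  rwa [ncard_span hu0, ← mul_add] at this

theorem Sys.mu_images (S : Sys f G Y) (hu : f.Q u = 0) (hu0 : u ≠ 0) {Y' : Finset X}
    (hY : PInv f G u Y') (hω : ω ∈ Y') (hy : y ∈ Bl c f u ω) {ι : Type*} [Finite ι]
    (k : ι → f.Isom) (h1 : ∀ i, k i ∈ G) (h2 : ∀ i, (k i).1 u = u) (h3 : ∀ i, (k i).1 y = y)
    (h4 : ∀ i j, (∀ a ∈ Bl c f u ω, (k j)⁻¹.1 ((k i).1 a) ∈ Bl c f u ω) → i = j) :
    (Nat.card ι * wt f u ω : ℚ) ≤ mu c f u Y' y := by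
  have h5 : ∀ i, (k i).1 u = (1 : F) • u := fun i => by rw [h2, one_smul]
  refine mu_ge_family S.nd hu hu0 (S.cl hu hY) (fun i => k i • ω)
    (fun i => hY _ (h1 i) 1 one_ne_zero (h5 i) ω hω)
    (fun i => h3 i ▸ mem_Bl_fix (h2 i) hy) (fun i j h => h4 i j fun a ha => ?_)
    fun i => (wt_conj hu (h5 i) one_ne_zero).ge
  have e := mem_Bl_fix (h2 i) ha
  rw [h.Bl_eq hu] at e
  have e' := mem_Bl_fix (k := (k j)⁻¹) (by nth_rw 1 [← h2 j]; rw [Isom.inv_apply]) e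
  rwa [inv_smul_smul] at e'

theorem Sys.so_of_mu_lt (S : Sys f G Y) (hu : f.Q u = 0) (hu0 : u ≠ 0) {Y' : Finset X}
    (hY : PInv f G u Y') (hω : ω ∈ Y') (hy : y ∈ Bl c f u ω)
    (hlt : mu c f u Y' y < 2 * wt f u ω) {k : f.Isom} (h1 : k ∈ G) (ha : a ≠ 0)
    (h2 : k.1 u = a • u) (h3 : k.1 y = a • y) : SO f u ω (k • ω) := by
  by_contra hc
  have := mu_ge_two (c := c) S.nd hu hu0 (S.cl hu hY) hω hy (hY k h1 a ha h2 ω hω)
    (mem_Bl_conj hu h2 ha h3 hy) hc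
  rw [wt_conj hu h2 ha] at this
  linarith

theorem Sys.inv_of_mu_lt (S : Sys f G Y) (hu : f.Q u = 0) (hu0 : u ≠ 0) {Y' : Finset X}
    (hY : PInv f G u Y') (hω : ω ∈ Y') (hy : y ∈ Bl c f u ω)
    (hlt : mu c f u Y' y < 2 * wt f u ω) {k : f.Isom} (h1 : k ∈ G) (h2 : k.1 u = u)
    (h3 : k.1 y = y) (hv : v ∈ Bl c f u ω) : k.1 v ∈ Bl c f u ω := by
  rw [(S.so_of_mu_lt hu hu0 hY hω hy hlt h1 one_ne_zero (by rw [h2, one_smul])
    (by rw [h3, one_smul])).Bl_eq hu]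
  exact mem_Bl_fix h2 hv

variable (f) in
/-- the nonsingular vectors orthogonal to `u` -/
def Cn (u : V) : Set V := {y | f.B y u = 0 ∧ f.Q y ≠ 0}

omit [Finite F] [Finite V] in
theorem not_mem_span_of_Q (hu : f.Q u = 0) (hy : f.Q y ≠ 0) : y ∉ F ∙ u := fun h => by
  obtain ⟨s, rfl⟩ := Submodule.mem_span_singleton.1 h
  exact hy (by rw [f.Q_smul, hu, mul_zero])

theorem card_perp_eq (hu : f.Q u = 0) (hu0 : u ≠ 0) :
    Nat.card (f.orth (F ∙ u)) = (Cn f u).ncard + (Cs f u).ncard + Nat.card F := by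
  rw [← ncard_span (F := F) hu0, ← Set.ncard_union_eq, ← Set.ncard_union_eq, ← Nat.card_coe_set_eq]
  · refine Nat.card_congr (Equiv.subtypeEquivRight fun y => ⟨fun h => ?_, ?_⟩)
    · have h1 := mem_orth_singleton.1 h
      by_cases h2 : y ∈ F ∙ u
      · exact Or.inr h2
      by_cases h3 : f.Q y = 0
      · exact Or.inl (Or.inr ⟨h1, h3, h2⟩)
      · exact Or.inl (Or.inl ⟨h1, h3⟩)
    · rintro ((h | h) | h)
      · exact mem_orth_singleton.2 h.1
      · exact mem_orth_singleton.2 h.1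
      · obtain ⟨s, rfl⟩ := Submodule.mem_span_singleton.1 h
        exact mem_orth_singleton.2 (by rw [B_smul_left, f.B_self_of_Q hu, mul_zero])
  · rw [Set.disjoint_left]
    rintro y (h | h)
    · exact not_mem_span_of_Q hu h.2
    · exact h.2.2
  · exact Set.disjoint_left.2 fun y h h' => h.2 h'.2.1

omit [Finite F] [Finite V] in
theorem PInv.reg [DecidablePred fun ω : X => Reg f u ω] (hu : f.Q u = 0) (h : PInv f G u Y) :
    PInv f G u (Y.filter fun ω => Reg f u ω) :=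
  h.filter fun _ _ _ ha e _ hω => hω.conj hu e ha

omit [Finite F] [Finite V] in
theorem PInv.not_reg [DecidablePred fun ω : X => ¬ Reg f u ω] (hu : f.Q u = 0)
    (h : PInv f G u Y) : PInv f G u (Y.filter fun ω => ¬ Reg f u ω) :=
  h.filter_not fun _ _ _ ha e _ hω => hω.conj hu e ha

omit [Finite F] [Finite V] in
theorem PInv.not_full [DecidablePred fun ω : X => ¬ Full f u ω]
    (h : PInv f G u Y) : PInv f G u (Y.filter fun ω => ¬ Full f u ω) :=
  h.filter_not fun _ _ _ ha e _ hω => hω.conj e ha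

omit [Finite F] [Finite V] in
theorem PInv.card_Bl (p : ℕ → Prop) [DecidablePred fun ω : X => p (Nat.card (Bl c f u ω))]
    (hu : f.Q u = 0) (h : PInv f G u Y) :
    PInv f G u (Y.filter fun ω => p (Nat.card (Bl c f u ω))) :=
  h.filter fun _ _ _ ha e _ hω => by rwa [card_Bl_conj hu e ha]

theorem Sys.card_not_reg (S : Sys f G Y) (c : Chr P) (hu : f.Q u = 0) (hu0 : u ≠ 0) (hω : ω ∈ Y)
    (h : Reg f u ω) [DecidablePred fun ω : X => ¬ Reg f u ω] :
    {e | f.HypPair u e}.ncard + (Y.filter fun ω => ¬ Reg f u ω).card ≤ Y.card := by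
  classical
  have h1 := h.card_le c S.nd hu hu0 (S.cl hu ((S.pinv u).reg hu)) (mem_filter.2 ⟨hω, h⟩)
  have h2 := card_filter_add_card_filter_not (s := Y) (fun ω => Reg f u ω)
  convert_to _ + (Y.filter fun ω => ¬ Reg f u ω).card ≤ _
  omega

theorem Sys.exists_conj (S : Sys f G Y) (hω : ω ∈ Y) (hu : f.Q u = 0) (hu0 : u ≠ 0)
    (hz : f.Q z = 0) (hz0 : z ≠ 0) : ∃ k : f.Isom, ∃ a : F, a ≠ 0 ∧ k.1 u = a • z ∧ k • ω ∈ Y :=
  let ⟨g, hg, s, hs, e⟩ := S.exists_map hu hu0 hz hz0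
  ⟨g, s, hs, e, S.inv g hg ω hω⟩

end fin

end Cfsg.Agent.MI
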