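import Cfsg.Agent.Lib.MI.Mu

/-!
Transitive actions of classical groups: common geometric lemmas.
-/

set_option autoImplicit false

namespace Cfsg.Agent.MI

open Module Cfsg.Agent.Forms Cfsg.Agent.Forms.Form Cfsg.Agent.Cls Cfsg.Agent.Deg Finset

variable {F : Type*} [Field F] {P : Param F} {V : Type*} [AddCommGroup V] [Module F V]
  {c : Chr P} {f : Form P V} {X : Type*} [MulAction f.Isom X]

variable (f) in
/-- any two non-orthogonal singular vectors have a third one not orthogonal to them -/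
def Big : Prop := ∀ u u', f.Q u = 0 → f.Q u' = 0 → f.B u u' ≠ 0 →
  ∃ v l, f.B v u = 0 ∧ f.B v u' = 0 ∧ f.IsLam v l ∧ l ≠ 0

theorem big_of_lam0 (h : ∃ l, l ≠ 0 ∧ Lam0 P l) : Big f := fun _ _ _ _ _ =>
  let ⟨l, h0, hl⟩ := h; ⟨0, l, by simp, by simp, hl.isLam f, h0⟩

theorem hypPair_of_ne {z w : V} (hz : f.Q z = 0) (hw : f.Q w = 0) (h : f.B z w ≠ 0) :
    f.HypPair z (P.σ (f.B z w)⁻¹ • w) :=
  ⟨hz, by rw [f.Q_smul, hw, mul_zero], by rw [B_smul_right, P.σσ, inv_mul_cancel₀ h]⟩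

theorem B_ne_symm {x y : V} (h : f.B x y ≠ 0) : f.B y x ≠ 0 := fun e => h (f.B_eq_zero_symm e)

theorem not_mem_span_of_B {u w z : V} (h1 : f.B u z = 0) (h2 : f.B w z ≠ 0) : w ∉ F ∙ u := by
  intro h
  obtain ⟨s, rfl⟩ := Submodule.mem_span_singleton.1 h
  exact h2 (by rw [B_smul_left, h1, mul_zero])

theorem exists_B_two [FiniteDimensional F V] (hf : f.Nondeg) {u w : V} (hu0 : u ≠ 0)
    (hw : w ∉ F ∙ u) (s t : F) : ∃ a, f.B u a = s ∧ f.B w a = t := by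
  obtain ⟨a, h1, h2⟩ := hf.exists_orth_eq_one hw
  obtain ⟨b, hb⟩ := hf.exists_eq_one hu0
  have h3 := h1 u (Submodule.mem_span_singleton_self u)
  exact ⟨P.σ s • b + P.σ (t - s * f.B w b) • a, by
    simp [B_smul_right, P.σσ, hb, h3], by simp [B_smul_right, P.σσ, h2]⟩

theorem exists_nonorth [FiniteDimensional F V] (hf : f.Nondeg) (hb : Big f) {u u' : V}
    (hu : f.Q u = 0) (hu0 : u ≠ 0) (hu' : f.Q u' = 0) (hu0' : u' ≠ 0) :
    ∃ z, f.Q z = 0 ∧ f.B z u ≠ 0 ∧ f.B z u' ≠ 0 := by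
  by_cases h : f.B u u' = 0
  · obtain ⟨a, h1, h2⟩ : ∃ a, f.B u a = 1 ∧ f.B u' a ≠ 0 := by
      by_cases hm : u' ∈ F ∙ u
      · obtain ⟨s, rfl⟩ := Submodule.mem_span_singleton.1 hm
        obtain ⟨a, ha⟩ := hf.exists_eq_one hu0
        exact ⟨a, ha, by
          rw [B_smul_left, ha, mul_one]; rintro rfl; exact hu0' (zero_smul _ _)⟩
      · obtain ⟨a, h1, h2⟩ := exists_B_two hf hu0 hm 1 1
        exact ⟨a, h1, by rw [h2]; exact one_ne_zero⟩
    obtain ⟨s, hs⟩ := exists_hypPair_of_B hu h1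
    refine ⟨_, hs.Qe, by rw [hs.Beu]; exact P.ε_ne_zero, B_ne_symm ?_⟩
    rwa [B_sub_right, B_smul_right, f.B_eq_zero_symm h, mul_zero, sub_zero]
  · obtain ⟨v, l, h1, h2, hl, hl0⟩ := hb u u' hu hu' h
    refine ⟨u + P.σ (-l / f.B u u') • u' + v, ?_, ?_, ?_⟩
    · rw [f.Q_add_of_orth (f.B_eq_zero_symm (by simp [B_smul_right, h1, h2])), f.Q_add, f.Q_smul,
        hu, hu', B_smul_right, P.σσ, div_mul_cancel₀ _ h, map_neg, hl.1]
      ring
    · simpa [f.B_self_of_Q hu, h1, hl0, h] using B_ne_symm h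
    · simpa [f.B_self_of_Q hu', h2] using h

theorem exists_isE_map {z w w' : V} (hz : f.Q z = 0) (hw : f.Q w = 0) (hw' : f.Q w' = 0)
    (h : f.B z w ≠ 0) (h' : f.B z w' ≠ 0) :
    ∃ (g : f.Isom) (v : V) (l s : F), s ≠ 0 ∧ IsE g z v l ∧ g.1 w = s • w' := by
  obtain ⟨v, l, hu, hv, hl, e1, -⟩ := exists_eichler_map (hypPair_of_ne hz hw h)
    (hypPair_of_ne hz hw' h')
  have ha : P.σ (f.B z w)⁻¹ ≠ 0 := P.σ_ne_zero (inv_ne_zero h)
  have hb : P.σ (f.B z w')⁻¹ ≠ 0 := P.σ_ne_zero (inv_ne_zero h')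
  exact ⟨_, v, l, _, mul_ne_zero (inv_ne_zero ha) hb, isE_eichler hu hv hl, by
    rw [mul_smul, ← e1, map_smul, inv_smul_smul₀ ha]⟩

theorem exists_isE_of_fix (hf : f.Nondeg) {p : V} (hp : f.Q p = 0) (hp0 : p ≠ 0) {g : f.Isom}
    (h1 : g.1 p = p) (h2 : ∀ w, f.B w p = 0 → g.1 w - w ∈ F ∙ p) : ∃ v l, IsE g p v l := by
  obtain ⟨e, he⟩ := hf.exists_hypPair hp hp0
  have he' := he.map g
  rw [h1] at he'
  obtain ⟨v, l, hu, hv, hl, e1, -⟩ := exists_eichler_map he he'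
  have hE := isE_eichler hu hv hl
  refine ⟨v, l, ?_⟩
  rw [hyp_ext he (g := g) (g' := f.eichler p v l hu hv hl) (by rw [h1, hE.apply_self hp]) e1.symm
    fun x hx1 hx2 => ?_]
  · exact hE
  obtain ⟨s, hs⟩ := Submodule.mem_span_singleton.1 (h2 x hx1)
  have e2 : g.1 x = x + s • p := by rw [hs]; abel
  have e3 := IsE_apply_orth hE hx1
  have e4 := Isom.map_B g x e
  have e5 := Isom.map_B (f.eichler p v l hu hv hl) x e
  rw [e1, e3] at e5
  rw [e2] at e4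
  rw [B_add_left, B_smul_left, he'.Bue, mul_one] at e4 e5
  rw [e2, e3, add_left_cancel (e4.trans e5.symm)]

variable (f) in
/-- the whole Eichler group at `u` fixes `ω` -/
def Full (u : V) (ω : X) : Prop := ∀ v l, f.B v u = 0 → f.IsLam v l → Fx f u v l ω

variable (f) in
/-- the Eichler group at `u` acts regularly on the orbit of `ω` -/
def Reg (u : V) (ω : X) : Prop := (∀ v ∈ Sb f u ω, v ∈ F ∙ u) ∧ tau f u ω = ⊥

variable {u v y z : V} {l a : F} {ω ω' : X} {k g : f.Isom}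

theorem Full.map (h : Full f u ω) (k : f.Isom) : Full f (k.1 u) (k • ω) := fun v l h1 h2 => by
  have := (h (k⁻¹.1 v) l (by rw [← Isom.B_right, h1]) (h2.map _)).map k
  rwa [Isom.apply_inv] at this

theorem Full.smul (h : Full f u ω) (ha : a ≠ 0) : Full f (a • u) ω := fun v l h1 h2 => by
  have h3 : f.B v u = 0 := by simpa [P.σ_ne_zero ha] using h1
  refine Fx.smul_left' ha (h _ _ (by rw [B_smul_left, h3, mul_zero]) ?_)
  have := h2.smul (P.σ a)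
  rwa [P.σσ, mul_comm (P.σ a) a] at this

theorem Full.conj (h : Full f u ω) {u' : V} (hk : k.1 u = a • u') (ha : a ≠ 0) :
    Full f u' (k • ω) := by
  have := (h.map k).smul (inv_ne_zero ha)
  rwa [hk, inv_smul_smul₀ ha] at this

theorem Full.smul_eq (h : Full f u ω) (hg : IsE g u v l) : g • ω = ω :=
  (h v l hg.orth hg.lam).smul_eq hg

theorem full_of (hu : f.Q u = 0) (h1 : ∀ v, f.B v u = 0 → v ∈ Sb f u ω)
    (h2 : tau f u ω = Lam P) : Full f u ω := fun v _ hv hl => fx_of_tau hu h2 (h1 v hv) hl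

theorem Full.tau_eq (h : Full f u ω) : tau f u ω = Lam P :=
  le_antisymm (tau_le u ω) fun _ hl => (h 0 _ (f.B_zero_left u) (Lam0.isLam hl f)).mem_tau

theorem Full.mem_Sb (h : Full f u ω) (hv : f.B v u = 0) : v ∈ Sb f u ω :=
  let ⟨l, hl⟩ := f.exists_isLam v; (h v l hv hl).mem_Sb

theorem Full.of_nonorth (h : Full f u ω) {u' : V} (h' : Full f u' ω) (hu : f.Q u = 0)
    (hu' : f.Q u' = 0) (hz : f.Q z = 0) (h1 : f.B u u' ≠ 0) (h2 : f.B u z ≠ 0) : Full f z ω := by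
  obtain ⟨g, v, l, s, hs, hg, e⟩ := exists_isE_map hu hu' hz h1 h2
  have := h'.conj e hs
  rwa [h.smul_eq hg] at this

theorem mem_span_of_mem_Bl [FiniteDimensional F V] (hf : f.Nondeg)
    (h : ∀ v, f.B v u = 0 → v ∈ Sb f u ω) (hy : y ∈ Bl c f u ω) : y ∈ F ∙ u := by
  rw [← hf.orth_orth (F ∙ u), mem_orth']
  intro w hw
  exact Chr.B_eq_zero_of_mem_ann hy fun s =>
    h _ (mem_orth_singleton.1 (Submodule.smul_mem _ s hw))

theorem mem_Bl_of_Sb_le (hu : f.Q u = 0) (h : ∀ v ∈ Sb f u ω, v ∈ F ∙ u) (hy : f.B y u = 0) :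
    y ∈ Bl c f u ω := Chr.mem_ann_of_B fun v hv => by
  obtain ⟨s, rfl⟩ := Submodule.mem_span_singleton.1 (h v hv)
  rw [B_smul_left, f.B_eq_zero_symm hy, mul_zero]

theorem Reg.eq_one (hu : f.Q u = 0) (h : Reg f u ω) (hg : IsE g u v l) (e : g • ω = ω) : g = 1 := by
  obtain ⟨s, rfl⟩ := Submodule.mem_span_singleton.1 (h.1 v (Fx.mem_Sb ⟨g, hg, e⟩))
  have h1 := IsE.add_self (v := 0) hu s (by simpa using hg)
  have h2 : _ ∈ tau f u ω := Fx.mem_tau ⟨g, h1, e⟩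
  rw [h.2, AddSubgroup.mem_bot] at h2
  exact (h1.congr rfl h2).eq_one

theorem Reg.map (h : Reg f u ω) (k : f.Isom) : Reg f (k.1 u) (k • ω) := by
  refine ⟨fun v hv => ?_, by rw [tau_map, h.2]⟩
  rw [← Isom.apply_inv k v, map_mem_Sb_iff] at hv
  obtain ⟨s, hs⟩ := Submodule.mem_span_singleton.1 (h.1 _ hv)
  exact Submodule.mem_span_singleton.2 ⟨s, by rw [← map_smul, hs, Isom.apply_inv]⟩

theorem tau_smul_eq_bot (hu : f.Q u = 0) (h : tau f u ω = ⊥) (ha : a ≠ 0) :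
    tau f (a • u) ω = ⊥ := by
  rw [← AddSubgroup.card_eq_one, card_tau_smul hu ha, h, AddSubgroup.card_bot]

theorem tau_smul_eq_Lam (hu : f.Q u = 0) (h : tau f u ω = Lam P) (ha : a ≠ 0) :
    tau f (a • u) ω = Lam P :=
  le_antisymm (tau_le _ _) fun _ hl => (mem_tau_smul hu ha).2 (h ▸ norm_mul_mem_Lam a hl)

theorem Reg.smul (hu : f.Q u = 0) (h : Reg f u ω) (ha : a ≠ 0) : Reg f (a • u) ω := by
  refine ⟨fun v hv => ?_, tau_smul_eq_bot hu h.2 ha⟩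
  rw [Submodule.span_singleton_smul_eq ha.isUnit]
  exact (Submodule.smul_mem_iff _ (P.σ_ne_zero ha)).1 (h.1 _ ((mem_Sb_smul hu ha).1 hv))

theorem Reg.conj (hu : f.Q u = 0) (h : Reg f u ω) {u' : V} (hk : k.1 u = a • u') (ha : a ≠ 0) :
    Reg f u' (k • ω) := by
  have := (h.map k).smul (by rwa [Isom.map_Q]) (inv_ne_zero ha)
  rwa [hk, inv_smul_smul₀ ha] at this

theorem tau_conj_eq_bot (hu : f.Q u = 0) (h : tau f u ω = ⊥) {u' : V} (hk : k.1 u = a • u')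
    (ha : a ≠ 0) : tau f u' (k • ω) = ⊥ := by
  have := tau_smul_eq_bot (u := k.1 u) (ω := k • ω) (by rwa [Isom.map_Q])
    (by rw [tau_map, h]) (inv_ne_zero ha)
  rwa [hk, inv_smul_smul₀ ha] at this

theorem tau_conj_eq_Lam (hu : f.Q u = 0) (h : tau f u ω = Lam P) {u' : V} (hk : k.1 u = a • u')
    (ha : a ≠ 0) : tau f u' (k • ω) = Lam P := by
  have := tau_smul_eq_Lam (u := k.1 u) (ω := k • ω) (by rwa [Isom.map_Q])
    (by rw [tau_map, h]) (inv_ne_zero ha)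
  rwa [hk, inv_smul_smul₀ ha] at this

/-- The cocycle identity for a regular orbit. -/
theorem Reg.cocycle (hf : f.Nondeg) (hu : f.Q u = 0) (hu0 : u ≠ 0) (h : Reg f u ω) {t : f.Isom}
    (ht : t.1 u = u) (hg : IsE g u v l) (e : (g * t) • ω = ω) (hk : k.1 u = u)
    (hkt : k * t = t * k) (hs : SO f u ω (k • ω)) :
    ∃ v', f.B v' u = 0 ∧ k.1 v - v - (t.1 v' - v') ∈ F ∙ u := by
  obtain ⟨g', v', l', hg', e'⟩ := hs
  have h1 := hg.conj k
  have h2 := hg'.conj t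
  rw [hk] at h1
  rw [ht] at h2
  have h3 := (((hg'.inv hu).mul hu h1).mul hu h2).mul hu (hg.inv hu)
  have h4 : (g'⁻¹ * (k * g * k⁻¹) * (t * g' * t⁻¹) * g⁻¹) • ω = ω := by
    have e1 : g'⁻¹ * (k * g * k⁻¹) * (t * g' * t⁻¹) * g⁻¹ =
        (g'⁻¹ * k) * (g * t) * (g'⁻¹ * k)⁻¹ * (g * t)⁻¹ := by
      calc _ = g'⁻¹ * k * g * k⁻¹ * (t * k) * k⁻¹ * g' * t⁻¹ * g⁻¹ := by group
        _ = _ := by rw [← hkt]; group
    have e2 : (g'⁻¹ * k) • ω = ω := by rw [mul_smul, ← e', inv_smul_smul]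
    rw [e1, mul_smul, mul_smul, mul_smul, inv_smul_eq_iff.2 e.symm, inv_smul_eq_iff.2 e2.symm, e, e2]
  rw [h.eq_one hu h3 h4] at h3
  refine ⟨-v', by rw [B_neg_left, hg'.orth, neg_zero], ?_⟩
  convert IsE_one_mem hf hu hu0 h3 using 1
  rw [map_neg]; abel

variable (f) in
/-- a transitive action of a group containing all Eichler transformations, not fixing a point -/
structure Sys (G : Subgroup f.Isom) (Y : Finset X) : Prop where
  nd : f.Nondeg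
  big : Big f
  ein : ∀ {g u v l}, f.Q u = 0 → IsE g u v l → g ∈ G
  inv : ∀ g ∈ G, ∀ ω ∈ Y, g • ω ∈ Y
  trans : ∀ ω ∈ Y, ∀ ω' ∈ Y, ∃ g ∈ G, g • ω = ω'
  ne : Y.Nonempty
  proper : ∀ ω ∈ Y, ∃ u, f.Q u = 0 ∧ u ≠ 0 ∧ ¬ Full f u ω

variable (f) in
/-- invariance under the stabiliser of a point -/
def PInv (G : Subgroup f.Isom) (u : V) (Y : Finset X) : Prop :=
  ∀ k ∈ G, ∀ a : F, a ≠ 0 → k.1 u = a • u → ∀ ω ∈ Y, k • ω ∈ Y

variable {G : Subgroup f.Isom} {Y : Finset X}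

theorem PInv.filter (h : PInv f G u Y) {p : X → Prop} [DecidablePred p]
    (hp : ∀ k ∈ G, ∀ a : F, a ≠ 0 → k.1 u = a • u → ∀ ω, p ω → p (k • ω)) :
    PInv f G u (Y.filter p) := fun k hk a ha e ω hω =>
  mem_filter.2 ⟨h k hk a ha e ω (mem_filter.1 hω).1, hp k hk a ha e ω (mem_filter.1 hω).2⟩

theorem PInv.filter_not (h : PInv f G u Y) {p : X → Prop} [DecidablePred fun ω => ¬ p ω]
    (hp : ∀ k ∈ G, ∀ a : F, a ≠ 0 → k.1 u = a • u → ∀ ω, p ω → p (k • ω)) :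
    PInv f G u (Y.filter fun ω => ¬ p ω) := h.filter fun k hk a ha e ω hω hc => hω (by
  have := hp k⁻¹ (G.inv_mem hk) a⁻¹ (inv_ne_zero ha) (by
    rw [eq_inv_smul_iff₀ ha, ← map_smul, ← e, Isom.inv_apply]) _ hc
  rwa [inv_smul_smul] at this)

namespace Sys

variable (S : Sys f G Y)
include S

theorem pinv (u : V) : PInv f G u Y := fun k hk _ _ _ => S.inv k hk

theorem cl {Y' : Finset X} (hu : f.Q u = 0) (h : PInv f G u Y') : Cl f u Y' := by
  rintro ω hω _ ⟨g, v, l, hg, rfl⟩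
  exact h g (S.ein hu hg) 1 one_ne_zero (by rw [hg.apply_self hu, one_smul]) ω hω

theorem tr_mem (hu : f.Q u = 0) (hl : Lam0 P l) : tr f u l hu hl ∈ G := S.ein hu (isE_tr hu hl)

variable [FiniteDimensional F V]

theorem exists_map {u' : V} (hu : f.Q u = 0) (hu0 : u ≠ 0) (hu' : f.Q u' = 0) (hu0' : u' ≠ 0) :
    ∃ g ∈ G, ∃ s : F, s ≠ 0 ∧ g.1 u = s • u' := by
  obtain ⟨z, hz, h1, h2⟩ := exists_nonorth S.nd S.big hu hu0 hu' hu0'
  obtain ⟨g, v, l, s, hs, hg, e⟩ := exists_isE_map hz hu hu' h1 h2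
  exact ⟨g, S.ein hz hg, s, hs, e⟩

theorem not_full_pair (hω : ω ∈ Y) {u' : V} (h : Full f u ω) (h' : Full f u' ω) (hu : f.Q u = 0)
    (hu' : f.Q u' = 0) : f.B u u' = 0 := by
  by_contra h1
  obtain ⟨z, hz, hz0, hc⟩ := S.proper ω hω
  have hu0 : u ≠ 0 := by rintro rfl; simp at h1
  obtain ⟨z', hz', e1, e2⟩ := exists_nonorth S.nd S.big hu hu0 hz hz0
  exact hc ((h.of_nonorth h' hu hu' hz' h1 (B_ne_symm e1)).of_nonorth h hz' hu hz e1 e2)

theorem exists_not_full (hu : f.Q u = 0) (hu0 : u ≠ 0) : ∃ ω ∈ Y, ¬ Full f u ω := by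
  obtain ⟨ω, hω⟩ := S.ne
  obtain ⟨z, hz, hz0, hc⟩ := S.proper ω hω
  obtain ⟨g, hg, s, hs, e⟩ := S.exists_map hu hu0 hz hz0
  refine ⟨g⁻¹ • ω, S.inv _ (G.inv_mem hg) _ hω, fun h => hc ?_⟩
  simpa using h.conj e hs

theorem double_count [Finite V] (R : V → X → Prop) [∀ u, DecidablePred (R u)]
    (h1 : ∀ g ∈ G, ∀ u ω, R u ω → R (g.1 u) (g • ω))
    (h2 : ∀ (a : F) u ω, a ≠ 0 → f.Q u = 0 → R u ω → R (a • u) ω)
    (hu : f.Q u = 0) (hu0 : u ≠ 0) (hω : ω ∈ Y) :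
    {w | (f.Q w = 0 ∧ w ≠ 0) ∧ R w ω}.ncard * Y.card =
      {w | f.Q w = 0 ∧ w ≠ 0}.ncard * (Y.filter (R u)).card := by
  classical
  let T := {w | f.Q w = 0 ∧ w ≠ 0}.toFinite.toFinset
  have hT : ∀ w, w ∈ T ↔ f.Q w = 0 ∧ w ≠ 0 := fun w => by simp [T]
  have e1 : ∀ ω ω', ω ∈ Y → ω' ∈ Y → (T.filter (R · ω)).card ≤ (T.filter (R · ω')).card := by
    intro ω ω' h h'
    obtain ⟨g, hg, rfl⟩ := S.trans ω h ω' h'
    refine card_le_card_of_injOn g.1 (fun w hw => ?_) g.1.injective.injOn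
    simp only [coe_filter, Set.mem_ofPred_eq, hT] at hw ⊢
    exact ⟨⟨by rw [Isom.map_Q, hw.1.1], by simpa using hw.1.2⟩, h1 g hg _ _ hw.2⟩
  have e2 : ∀ w w', w ∈ T → w' ∈ T → (Y.filter (R w)).card ≤ (Y.filter (R w')).card := by
    intro w w' h h'
    rw [hT] at h h'
    obtain ⟨g, hg, s, hs, e⟩ := S.exists_map h.1 h.2 h'.1 h'.2
    refine card_le_card_of_injOn (g • ·) (fun ω hω => ?_) (MulAction.injective g).injOn
    simp only [coe_filter, Set.mem_ofPred_eq] at hω ⊢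
    refine ⟨S.inv g hg _ hω.1, ?_⟩
    have := h2 s⁻¹ _ _ (inv_ne_zero hs) (by rw [Isom.map_Q, h.1]) (h1 g hg _ _ hω.2)
    rwa [e, inv_smul_smul₀ hs] at this
  have e3 := sum_card_bipartiteAbove_eq_sum_card_bipartiteBelow (s := T) (t := Y) R
  simp only [bipartiteAbove, bipartiteBelow] at e3
  rw [sum_congr rfl (g := fun _ => (Y.filter (R u)).card) fun w hw =>
      le_antisymm (e2 _ _ hw ((hT u).2 ⟨hu, hu0⟩)) (e2 _ _ ((hT u).2 ⟨hu, hu0⟩) hw),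
    sum_congr rfl (g := fun _ => (T.filter (R · ω)).card) fun ω' hω' =>
      le_antisymm (e1 _ _ hω' hω) (e1 _ _ hω hω'), sum_const, sum_const, smul_eq_mul,
    smul_eq_mul] at e3
  rw [Set.ncard_eq_toFinset_card {w | f.Q w = 0 ∧ w ≠ 0}, e3, mul_comm]
  congr 1
  rw [← Set.ncard_coe_finset]
  exact congrArg Set.ncard (Set.ext fun w => by simp [hT])

end Sys

theorem conn_of_rk2 [FiniteDimensional F V] (hf : f.Nondeg)
    (rk2 : ∀ u u', f.HypPair u u' → ∃ y, y ≠ 0 ∧ f.Q y = 0 ∧ f.B y u = 0 ∧ f.B y u' = 0)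
    (hb : Big f) {T : V → Prop}
    (hT : ∀ p z, f.Q p = 0 → p ≠ 0 → f.Q z = 0 → z ≠ 0 → f.B z p = 0 → T p → T z)
    (hu : f.Q u = 0) (hu0 : u ≠ 0) (h : T u) (hz : f.Q z = 0) (hz0 : z ≠ 0) : T z := by
  have key : ∀ p z, f.Q p = 0 → f.Q z = 0 → f.B p z ≠ 0 → T p → T z := fun p z hp hz h1 h => by
    obtain ⟨y, hy0, hy, e1, e2⟩ := rk2 _ _ (hypPair_of_ne hp hz h1)
    have e3 : f.B y z = 0 := by simpa [h1] using e2
    exact hT y z hy hy0 hz (by rintro rfl; simp at h1) (f.B_eq_zero_symm e3)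
      (hT p y hp (by rintro rfl; simp at h1) hy hy0 e1 h)
  obtain ⟨w, hw, e1, e2⟩ := exists_nonorth hf hb hu hu0 hz hz0
  exact key w z hw hz e2 (key u w hu hw (B_ne_symm e1) h)

section count

variable [Finite F] [Finite V]

variable (f) in
/-- the singular vectors orthogonal to `u`, not multiples of `u` -/
def Cs (u : V) : Set V := {y | f.B y u = 0 ∧ f.Q y = 0 ∧ y ∉ F ∙ u}

theorem card_Bl_of_Sb_le (hu : f.Q u = 0) (h : ∀ v ∈ Sb f u ω, v ∈ F ∙ u) :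
    Nat.card (Bl c f u ω) = Nat.card (f.orth (F ∙ u)) :=
  Nat.card_congr (Equiv.subtypeEquivRight fun _ =>
    ⟨fun hy => mem_orth_singleton.2 (orth_of_mem_Bl hy),
      fun hy => mem_Bl_of_Sb_le hu h (mem_orth_singleton.1 hy)⟩)

theorem Sb_le_of_Bl (hf : f.Nondeg) (h : ∀ y, f.B y u = 0 → y ∈ Bl c f u ω) :
    ∀ v ∈ Sb f u ω, v ∈ F ∙ u := fun v hv => by
  rw [← hf.orth_orth (F ∙ u), mem_orth']
  intro w hw
  exact Chr.B_eq_zero_of_smul_mem_ann (fun s =>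
    h _ (mem_orth_singleton.1 (Submodule.smul_mem _ s hw))) hv

theorem card_hyp (c : Chr P) (hf : f.Nondeg) (hu : f.Q u = 0) (hu0 : u ≠ 0) :
    {e | f.HypPair u e}.ncard * Nat.card F = Nat.card (f.orth (F ∙ u)) * Nat.card (Lam P) := by
  obtain ⟨e, he⟩ := hf.exists_hypPair hu hu0
  have h1 : ∀ g v l, IsE g u v l → g • e = e → g = 1 := fun g v l hg h =>
    eq_one_of_mem_Eu (hu := hu) (c := 1) (by rw [he.Bue]; exact one_ne_zero) he.Qe ⟨v, l, hg⟩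
      (by rw [one_smul]; exact h)
  have h2 : ∀ v ∈ Sb f u e, v ∈ F ∙ u := fun v hv => by
    obtain ⟨l, g, hg, h⟩ := hv hu
    exact IsE_one_mem hf hu hu0 (h1 g v l hg h ▸ hg)
  have h3 : tau f u e = ⊥ := by
    rw [eq_bot_iff]
    intro l hl
    obtain ⟨g, hg, h⟩ := hl.2 hu
    have := hg.app e
    rw [show g.1 e = e from h, he.Beu] at this
    simpa [P.ε_ne_zero, hu0, eq_sub_iff_add_eq] using this
  rw [← card_Bl_of_Sb_le (c := c) hu h2, ← wt_of_bot h3, ← card_orbit hf hu hu0]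
  congr 2
  ext e'
  constructor
  · intro h
    obtain ⟨v, l, hu, hv, hl, e1, -⟩ := exists_eichler_map he h
    exact ⟨_, _, _, isE_eichler hu hv hl, e1⟩
  · rintro ⟨g, v, l, hg, rfl⟩
    have := he.map g
    rwa [hg.apply_self hu] at this

theorem card_sing (hu : f.Q u = 0) (hu0 : u ≠ 0) : {w | f.Q w = 0 ∧ w ≠ 0}.ncard =
    (Nat.card F - 1) * ({e | f.HypPair u e}.ncard + 1) + (Cs f u).ncard := by
  have h1 : {w | f.Q w = 0 ∧ w ≠ 0} = (fun p : Fˣ × Option {e | f.HypPair u e} =>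
      (p.1 : F) • p.2.elim u (·.1)) '' Set.univ ∪ Cs f u := by
    ext w
    constructor
    · rintro ⟨h, h0⟩
      by_cases h1 : f.B u w = 0
      · by_cases h2 : w ∈ F ∙ u
        · obtain ⟨s, rfl⟩ := Submodule.mem_span_singleton.1 h2
          exact Or.inl ⟨(Units.mk0 s (by rintro rfl; simp at h0), none), trivial, rfl⟩
        · exact Or.inr ⟨f.B_eq_zero_symm h1, h, h2⟩
      · exact Or.inl ⟨(Units.mk0 _ (P.σ_ne_zero h1), some ⟨_, hypPair_of_ne hu h h1⟩), trivial, by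
          simp [smul_smul, h1]⟩
    · rintro (⟨⟨s, _ | e⟩, -, rfl⟩ | ⟨h1, h2, h3⟩)
      · exact ⟨by simp [f.Q_smul, hu], by simp [hu0]⟩
      · exact ⟨by simp [f.Q_smul, e.2.Qe], by simp [e.2.e_ne_zero]⟩
      · exact ⟨h2, by rintro rfl; simp at h3⟩
  rw [h1, Set.ncard_union_eq, Set.ncard_image_of_injective, Set.ncard_univ, Nat.card_prod,
    Nat.card_units, Finite.card_option, Nat.card_coe_set_eq]
  · rintro ⟨s, _ | e⟩ ⟨t, _ | e'⟩ h
    · exact Prod.ext (Units.ext (smul_left_injective F hu0 h)) rfl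
    · simpa [f.B_self_of_Q hu, e'.2.Bue] using (congrArg (f.B u) h).symm
    · simpa [f.B_self_of_Q hu, e.2.Bue] using congrArg (f.B u) h
    · have h2 : s = t := by
        simpa [e.2.Bue, e'.2.Bue, P.σ.injective.eq_iff, Units.ext_iff] using congrArg (f.B u) h
      subst h2
      exact Prod.ext rfl (congrArg some (Subtype.ext (smul_right_injective V s.ne_zero h)))
  · rw [Set.disjoint_left]
    rintro _ ⟨⟨s, _ | e⟩, -, rfl⟩ ⟨h1, h2, h3⟩
    · exact h3 (Submodule.smul_mem _ _ (Submodule.mem_span_singleton_self u))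
    · simp [e.2.Beu, P.ε_ne_zero] at h1

theorem Reg.card_le (c : Chr P) (hf : f.Nondeg) (hu : f.Q u = 0) (hu0 : u ≠ 0) {Y' : Finset X}
    (hY : Cl f u Y') (hω : ω ∈ Y') (h : Reg f u ω) : {e | f.HypPair u e}.ncard ≤ Y'.card := by
  have := card_ge_orbit (c := c) hf hu hu0 hY hω
  rw [card_Bl_of_Sb_le hu h.1, wt_of_bot h.2, ← card_hyp c hf hu hu0, mul_comm] at this
  exact Nat.le_of_mul_le_mul_left this Nat.card_pos

theorem Reg.two_card_le (c : Chr P) (hf : f.Nondeg) (hu : f.Q u = 0) (hu0 : u ≠ 0) {Y' : Finset X}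
    (hY : Cl f u Y') (hω : ω ∈ Y') (h : Reg f u ω) (hω' : ω' ∈ Y') (h' : Reg f u ω')
    (hn : ¬ SO f u ω ω') : 2 * {e | f.HypPair u e}.ncard ≤ Y'.card := by
  have h1 := class_le (C := (f.orth (F ∙ u) : Set V)) fun y hy => mu_ge_two (c := c) hf hu hu0 hY hω
    (mem_Bl_of_Sb_le hu h.1 (mem_orth_singleton.1 hy)) hω'
    (mem_Bl_of_Sb_le hu h'.1 (mem_orth_singleton.1 hy)) hn
  rw [wt_of_bot h.2, wt_of_bot h'.2] at h1
  have h2 := card_hyp c hf hu hu0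
  have h3 : (Nat.card (Lam P) + Nat.card (Lam P)) * Nat.card (f.orth (F ∙ u)) ≤
      Nat.card F * Y'.card := by exact_mod_cast h1
  refine Nat.le_of_mul_le_mul_left (c := Nat.card F) ?_ Nat.card_pos
  nlinarith

end count

end Cfsg.Agent.MI
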