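import Cfsg.Agent.Lib.MI.Gen

/-!
The case that all blocks are points, lines or everything.
-/

set_option autoImplicit false

namespace Cfsg.Agent.MI

open Module Cfsg.Agent.Forms Cfsg.Agent.Forms.Form Cfsg.Agent.Cls Cfsg.Agent.Deg Finset

variable {F : Type*} [Field F] {P : Param F} {V : Type*} [AddCommGroup V] [Module F V]
  {c : Chr P} {f : Form P V} {X : Type*} [MulAction f.Isom X]
  {u v y z : V} {l a : F} {ω ω' : X} {G : Subgroup f.Isom} {Y : Finset X}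

theorem Ln.add_smul (hu : f.Q u = 0) (h : Ln c f u y ω) (r : F) : Ln c f u (y + r • u) ω :=
  ⟨add_mem h.1 (smul_self_mem_Bl hu r), fun e => h.2.1 ((Submodule.add_mem_iff_left _
    (Submodule.smul_mem _ r (Submodule.mem_span_singleton_self u))).1 e), fun a ha =>
    let ⟨s, t, e⟩ := h.2.2 a ha; ⟨s - t * r, t, by rw [← e]; module⟩⟩

variable [Finite F] [Finite V]

theorem exists_hyp_perp (hf : f.Nondeg) (hy : y ∈ Cs f u) :
    ∃ y', f.HypPair y y' ∧ f.B y' u = 0 := by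
  obtain ⟨y', h1, h2⟩ := hf.exists_hypPair_orth hy.2.1 hy.2.2 fun h hh => by
    obtain ⟨s, rfl⟩ := Submodule.mem_span_singleton.1 hh
    rw [B_smul_left, f.B_eq_zero_symm hy.1, mul_zero]
  exact ⟨y', h1, f.B_eq_zero_symm (h2 u (Submodule.mem_span_singleton_self u))⟩

theorem exists_mem_Cs_of_rk2 (hf : f.Nondeg)
    (rk2 : ∀ u u', f.HypPair u u' → ∃ y, y ≠ 0 ∧ f.Q y = 0 ∧ f.B y u = 0 ∧ f.B y u' = 0)
    (hu : f.Q u = 0) (hu0 : u ≠ 0) : ∃ y, y ∈ Cs f u := by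
  obtain ⟨e, he⟩ := hf.exists_hypPair hu hu0
  obtain ⟨y, h0, h1, h2, h3⟩ := rk2 u e he
  refine ⟨y, h2, h1, fun h => ?_⟩
  obtain ⟨s, rfl⟩ := Submodule.mem_span_singleton.1 h
  rw [B_smul_left, he.Bue, mul_one] at h3
  exact h0 (by rw [h3, zero_smul])

theorem finrank_span_triple_le (x y z : V) : finrank F (Submodule.span F {x, y, z}) ≤ 3 := by
  classical
  refine (finrank_span_le_card ({x, y, z} : Set V)).trans ?_
  simpa using card_le_three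

theorem ln_orth (hf : f.Nondeg) (h5 : 5 ≤ finrank F V)
    (hT : ∀ z, f.Q z = 0 → z ≠ 0 → ¬ Reg f z ω → tau f z ω = Lam P ∧ ∃ y ∈ Cs f z, Ln c f z y ω)
    {p w : V} (hp : f.Q p = 0) (hp0 : p ≠ 0) (hp' : ¬ Reg f p ω) (hw : f.Q w = 0) (hw0 : w ≠ 0)
    (hw' : ¬ Reg f w ω) : f.B p w = 0 := by
  by_contra h
  have h' := B_ne_symm h
  have key : ∀ p w, f.Q p = 0 → p ≠ 0 → ¬ Reg f p ω → f.B p w ≠ 0 → tau f p ω = Lam P ∧
      ∃ y, f.Q y = 0 ∧ f.B y p = 0 ∧ f.B y w = 0 ∧ Ln c f p y ω := fun p w hp hp0 hp' h => by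
    obtain ⟨h1, y, h2, h3⟩ := hT p hp hp0 hp'
    exact ⟨h1, _, by rw [Q_add_smul hp h2.1, h2.2.1], by simp [h2.1, f.B_self_of_Q hp],
      by simp [h], h3.add_smul hp (-(f.B y w / f.B p w))⟩
  obtain ⟨t1, y₁, a1, a2, a3, a4⟩ := key p w hp hp0 hp' h
  obtain ⟨t2, y₂, b1, b2, b3, b4⟩ := key w p hw hw0 hw' h'
  have a5 := f.B_self_of_Q a1
  have a0 : y₁ ≠ 0 := by rintro rfl; exact a4.2.1 (zero_mem _)
  have b0 : y₂ ≠ 0 := by rintro rfl; exact b4.2.1 (zero_mem _)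
  obtain ⟨c1, c2⟩ := line_step hf hp hp0 t1 a4.2.2 a1 a2 a5 a4.2.1
  obtain ⟨t3, y', -, c3⟩ := hT y₁ a1 a0 c1
  obtain ⟨r, s, t, e⟩ := c2 y' c3
  have k1 : ∀ v, f.B v p = 0 → f.B v w = 0 → f.B v y₁ = 0 → ∃ s t : F,
      f.B y₂ y₁ • v - (P.ε * f.B y₂ v + s * f.B y₂ y₁) • y₁ = t • y₂ := fun v v1 v2 v3 => by
    obtain ⟨l, hl⟩ := f.exists_isLam v
    obtain ⟨g, hg, e1⟩ := fx_of_tau a1 t3 (mem_Sb_of_line hf c3.2.2 v3
      (by simp [← e, B_smul_right, v1, v3])) hl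
    have e2 := map_mem_Bl_fix e1 b4.1
    rw [hg.apply_of_orth (f.B_eq_zero_symm a3) (f.B_eq_zero_symm v2)] at e2
    obtain ⟨s, t, e3⟩ := b4.2.2 _ (sub_mem e2 b4.1)
    rw [hg.app] at e3
    have e4 := congrArg (f.B · p) e3
    simp only [B_add_left, B_sub_left, B_smul_left, b3, v1, a2] at e4
    have e5 : s = 0 := by simpa [h'] using e4
    exact ⟨P.ε * l, t, by rw [e5] at e3; linear_combination (norm := module) -e3⟩
  have k2 : f.B y₂ y₁ = 0 := by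
    by_contra hc
    have : f.orth (Submodule.span F {p, w, y₁}) ≤ F ∙ y₁ := fun v hv => by
      rw [mem_orth_span] at hv
      have v3 := hv y₁ (by simp)
      obtain ⟨s, t, e1⟩ := k1 v (hv p (by simp)) (hv w (by simp)) v3
      have e2 := congrArg (f.B · y₁) e1
      simp only [B_sub_left, B_smul_left, v3, a5] at e2
      have e3 : t = 0 := by simpa [hc] using e2.symm
      rw [e3, zero_smul, sub_eq_zero] at e1
      rw [← Submodule.smul_mem_iff _ hc, e1]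
      exact Submodule.smul_mem _ _ (Submodule.mem_span_singleton_self _)
    have e1 := Submodule.finrank_mono this
    have e2 := hf.finrank_add_orth (Submodule.span F {p, w, y₁})
    have e3 := finrank_span_triple_le (F := F) p w y₁
    rw [finrank_span_singleton a0] at e1
    omega
  obtain ⟨r', s', t', e'⟩ := (line_step hf hw hw0 t2 b4.2.2 a1 a3 (f.B_eq_zero_symm k2)
    fun e => by
      obtain ⟨s, rfl⟩ := Submodule.mem_span_singleton.1 e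
      simp [h', hw0] at a2 a0
      exact a0 a2).2 y' c3
  have e1 := congrArg (f.B · w) (e.trans e'.symm)
  simp only [B_add_left, B_smul_left, a3, b2, f.B_self_of_Q hw] at e1
  have e2 : r = 0 := by simpa [h] using e1
  exact c3.2.1 (Submodule.mem_span_singleton.2 ⟨s + t, by rw [← e, e2]; module⟩)

theorem card_not_reg_le (hf : f.Nondeg) (h5 : 5 ≤ finrank F V)
    (hT : ∀ z, f.Q z = 0 → z ≠ 0 → ¬ Reg f z ω → tau f z ω = Lam P ∧ ∃ y ∈ Cs f z, Ln c f z y ω)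
    (hu : f.Q u = 0) (hu0 : u ≠ 0) (hu' : ¬ Reg f u ω) :
    {w | (f.Q w = 0 ∧ w ≠ 0) ∧ ¬ Reg f w ω}.ncard ≤ (Cs f u).ncard := by
  obtain ⟨t, y, h1, h2⟩ := hT u hu hu0 hu'
  obtain ⟨y', h3, h4⟩ := exists_hyp_perp hf h1
  have h5' := (line_step hf hu hu0 t h2.2.2 h1.2.1 h1.1 h3.Buu h1.2.2).1
  have := Set.ncard_le_ncard (s := {w | (f.Q w = 0 ∧ w ≠ 0) ∧ ¬ Reg f w ω} ∪
    ((F ∙ y' : Submodule F V) : Set V)) (t := Cs f u ∪ ((F ∙ u : Submodule F V) : Set V)) (by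
      have key : ∀ w, f.Q w = 0 → f.B w u = 0 → w ∈ Cs f u ∪ ((F ∙ u : Submodule F V) : Set V) :=
        fun w a b => (em (w ∈ F ∙ u)).elim Or.inr fun e => Or.inl ⟨b, a, e⟩
      rintro w (h | h)
      · exact key w h.1.1 (ln_orth hf h5 hT h.1.1 h.1.2 h.2 hu hu0 hu')
      · obtain ⟨s, rfl⟩ := Submodule.mem_span_singleton.1 h
        exact key _ (by rw [f.Q_smul, h3.Qe, mul_zero]) (by rw [B_smul_left, h4, mul_zero]))
  rw [Set.ncard_union_eq, Set.ncard_union_eq, ncard_span hu0, ncard_span h3.e_ne_zero] at this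
  · omega
  · exact Set.disjoint_left.2 fun _ h => h.2.2
  · refine Set.disjoint_left.2 fun w h h' => ?_
    obtain ⟨s, rfl⟩ := Submodule.mem_span_singleton.1 h'
    have := ln_orth hf h5 hT h.1.1 h.1.2 h.2 h1.2.1 h3.u_ne_zero h5'
    rw [B_smul_left, h3.Beu] at this
    exact h.1.2 (by rw [(mul_eq_zero.1 this).resolve_right P.ε_ne_zero, zero_smul])

theorem Full.not_reg (h : Full f u ω) (hy : y ∈ Cs f u) : ¬ Reg f u ω :=
  not_reg_of_mem (h.mem_Sb hy.1) hy.2.2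

theorem one_le_wt (u : V) (ω : X) : (1 : ℚ) ≤ wt f u ω := by exact_mod_cast wt_pos (f := f) u ω

theorem Sys.exists_reg (S : Sys f G Y) (hω : ω ∈ Y) (hu : f.Q u = 0) (hu0 : u ≠ 0)
    (h : Reg f u ω) (hz : f.Q z = 0) (hz0 : z ≠ 0) : ∃ ω ∈ Y, Reg f z ω :=
  let ⟨_, _, ha, e, h1⟩ := S.exists_conj hω hu hu0 hz hz0
  ⟨_, h1, h.conj hu e ha⟩

open Classical in
theorem Sys.card_not_reg_mul (S : Sys f G Y) (c : Chr P) (hu : f.Q u = 0) (hu0 : u ≠ 0)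
    (hω : ω ∈ Y) (h : Reg f u ω) {B : ℕ} (hB : Y.card < B)
    (h6 : (Nat.card F - 1) * B ≤ {w | f.Q w = 0 ∧ w ≠ 0}.ncard) :
    (Nat.card F - 1) * (Y.filter fun ω => ¬ Reg f u ω).card ≤ (Cs f u).ncard := by
  have h1 := S.card_not_reg c hu hu0 hω h
  rw [card_sing hu hu0] at h6
  have h2 : (Nat.card F - 1) * ({e | f.HypPair u e}.ncard + 1 +
      (Y.filter fun ω => ¬ Reg f u ω).card) ≤ (Nat.card F - 1) * B := by gcongr; omega
  rw [mul_add] at h2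
  omega

theorem Sys.all_reg (S : Sys f G Y) (h5 : 5 ≤ finrank F V)
    (rk2 : ∀ u u', f.HypPair u u' → ∃ y, y ≠ 0 ∧ f.Q y = 0 ∧ f.B y u = 0 ∧ f.B y u' = 0)
    (hcls : ∀ u, f.Q u = 0 → u ≠ 0 → ∀ y ∈ Cs f u, ∀ y' ∈ Cs f u,
      ∃ k ∈ G, ∃ a : F, a ≠ 0 ∧ k.1 u = a • u ∧ k.1 y = a • y')
    (h3 : ∀ ω ∈ Y, ∀ z, f.Q z = 0 → z ≠ 0 → ¬ Reg f z ω → ¬ Full f z ω →
      tau f z ω = Lam P ∧ ∃ y ∈ Cs f z, Ln c f z y ω)
    {u₀ : V} {ω₀ : X} (hu₀ : f.Q u₀ = 0) (hu₀0 : u₀ ≠ 0) (hω₀ : ω₀ ∈ Y) (hr : Reg f u₀ ω₀)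
    {B : ℕ} (hB : Y.card < B) (h6 : (Nat.card F - 1) * B ≤ {w | f.Q w = 0 ∧ w ≠ 0}.ncard)
    (hω : ω ∈ Y) (hu : f.Q u = 0) (hu0 : u ≠ 0) : Reg f u ω := by
  classical
  by_cases h : ∃ ω ∈ Y, ∃ u, f.Q u = 0 ∧ u ≠ 0 ∧ ¬ Reg f u ω ∧ ¬ Full f u ω
  swap
  · push Not at h
    by_contra hc
    exact S.not_full rk2 hω (fun p z hp hp0 hz hz0 h1 h2 _ => h ω hω z hz hz0
      (not_reg_of_mem (by simpa using (h2 1).mem_Sb) h1)) hu hu0 (h ω hω u hu hu0 hc)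
  exfalso
  obtain ⟨ω, hω, u, hu, hu0, h1, h2⟩ := h
  obtain ⟨ω₁, hω₁, hr₁⟩ := S.exists_reg hω₀ hu₀ hu₀0 hr hu hu0
  have e1 := S.card_not_reg_mul c hu hu0 hω₁ hr₁ hB h6
  have p1 := ((S.pinv u).not_reg hu).not_full
  obtain ⟨-, y, a1, a2⟩ := h3 ω hω u hu hu0 h1 h2
  have e2 := class_small (c := c) hu hu0 (C := Cs f u) (fun _ h => h.2.2) (b := Nat.card F)
    (Y := (Y.filter fun ω => ¬ Reg f u ω).filter fun ω => ¬ Full f u ω) (m := 1)
    (fun ω hω => by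
      simp only [mem_filter] at hω
      obtain ⟨-, y, -, h⟩ := h3 ω hω.1.1 u hu hu0 hω.1.2 hω.2
      exact card_Bl_le_of_line h.2.2) fun y' hy' => by
      obtain ⟨k, hk, a, ha, b1, b2⟩ := hcls u hu hu0 y a1 y' hy'
      exact ((one_le_wt u ω).trans (mu_ge_one S.nd hu hu0 (S.cl hu p1)
        (by simp [hω, h1, h2]) a2.1)).trans (mu_conj hu b1 ha b2 (p1 k hk a ha b1))
  obtain ⟨r, hr⟩ : ∃ r, Nat.card F = r + 2 :=
    ⟨Nat.card F - 2, by have : 1 < Nat.card F := Finite.one_lt_card; omega⟩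
  rw [hr, show r + 2 - 1 = r + 1 from rfl] at e1 h6
  rw [hr, one_mul] at e2
  have e3 : (Cs f u).ncard ≤ (r + 1) *
      ((Y.filter fun ω => ¬ Reg f u ω).filter fun ω => ¬ Full f u ω).card := by
    have : (r + 2) * (Cs f u).ncard + (r + 2) *
        ((Y.filter fun ω => ¬ Reg f u ω).filter fun ω => ¬ Full f u ω).card ≤ (r + 2) * ((r + 2) *
        ((Y.filter fun ω => ¬ Reg f u ω).filter fun ω => ¬ Full f u ω).card) := by
      exact_mod_cast e2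
    rw [← mul_add] at this
    have := Nat.le_of_mul_le_mul_left this (by omega)
    nlinarith
  have e4 := eq_of_subset_of_card_le (filter_subset (fun ω => ¬ Full f u ω)
    (Y.filter fun ω => ¬ Reg f u ω)) (Nat.le_of_mul_le_mul_left (e1.trans e3) (by omega))
  have e5 : ∀ z, f.Q z = 0 → z ≠ 0 → ¬ Full f z ω := fun z hz hz0 hc => by
    obtain ⟨k, a, ha, b1, b2⟩ := S.exists_conj hω hz hz0 hu hu0
    have b3 := hc.conj b1 ha
    have : k • ω ∈ Y.filter fun ω => ¬ Reg f u ω := mem_filter.2 ⟨b2, b3.not_reg a1⟩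
    rw [← e4] at this
    exact (mem_filter.1 this).2 b3
  have e6 := card_not_reg_le S.nd h5 (fun z hz hz0 h => h3 ω hω z hz hz0 h (e5 z hz hz0)) hu hu0 h1
  have e7 := S.double_count (fun u ω => ¬ Reg f u ω)
    (fun g _ u ω h hc => h (by simpa using hc.map g⁻¹))
    (fun a u ω ha hu h hc => h (by
      simpa [ha] using hc.smul (by rw [f.Q_smul, hu, mul_zero]) (inv_ne_zero ha))) hu hu0 hω
  rw [e4] at e3
  have e8 : 0 < (Cs f u).ncard := (Set.ncard_pos (Set.toFinite _)).2 ⟨y, a1⟩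
  have e9 : B * (Cs f u).ncard ≤ (Cs f u).ncard * Y.card := by
    calc _ ≤ B * ((r + 1) * (Y.filter fun ω => ¬ Reg f u ω).card) := by gcongr
      _ = (r + 1) * B * (Y.filter fun ω => ¬ Reg f u ω).card := by ring
      _ ≤ _ := by gcongr
      _ = _ := e7.symm
      _ ≤ _ := by gcongr
  nlinarith

theorem Sys.so_of_reg (S : Sys f G Y) (c : Chr P) (hu : f.Q u = 0) (hu0 : u ≠ 0) (hω : ω ∈ Y)
    (h : Reg f u ω) (hω' : ω' ∈ Y) (h' : Reg f u ω')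
    (hB : Y.card < 2 * {e | f.HypPair u e}.ncard) : SO f u ω ω' := by
  by_contra hc
  exact (h.two_card_le c S.nd hu hu0 (S.cl hu (S.pinv u)) hω hω' h' hc).not_gt hB

end Cfsg.Agent.MI
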