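import Cfsg.Agent.Lib.MI.Core

/-!
Blocks, weights and the basic counting inequalities.
-/

set_option autoImplicit false

namespace Cfsg.Agent.MI

open Module Cfsg.Agent.Forms Cfsg.Agent.Forms.Form Cfsg.Agent.Cls Cfsg.Agent.Deg Finset

variable {F : Type*} [Field F] {P : Param F} {V : Type*} [AddCommGroup V] [Module F V]
  {c : Chr P} {f : Form P V} {X : Type*} [MulAction f.Isom X]

variable (c f) in
/-- the block of a point -/
def Bl (u : V) (ω : X) : AddSubgroup V := c.ann f (Sb f u ω)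

variable (f) in
/-- the weight of a point -/
noncomputable def wt (u : V) (ω : X) : ℕ := Nat.card (Lam P) / Nat.card (tau f u ω)

variable {u v y : V} {l a : F} {ω ω' : X} {k : f.Isom}

theorem smul_self_mem_Bl (hu : f.Q u = 0) (s : F) : s • u ∈ Bl c f u ω :=
  Chr.mem_ann_of_B fun v hv => by rw [B_smul_right, orth_of_mem_Sb hu hv, mul_zero]

theorem self_mem_Bl (hu : f.Q u = 0) : u ∈ Bl c f u ω := by
  simpa using smul_self_mem_Bl (c := c) (ω := ω) hu 1

theorem orth_of_mem_Bl (h : y ∈ Bl c f u ω) : f.B y u = 0 :=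
  f.B_eq_zero_symm (Chr.B_eq_zero_of_mem_ann h smul_self_mem_Sb)

theorem map_mem_Bl (k : f.Isom) (h : y ∈ Bl c f u ω) : k.1 y ∈ Bl c f (k.1 u) (k • ω) := by
  intro v hv
  rw [← Isom.apply_inv k v, map_mem_Sb_iff] at hv
  rw [Isom.B_right]
  exact h _ hv

theorem map_mem_Bl_fix (hk : k • ω = ω) (h : y ∈ Bl c f u ω) : k.1 y ∈ Bl c f (k.1 u) ω := by
  have := map_mem_Bl k h
  rwa [hk] at this

theorem map_mem_Bl_iff (k : f.Isom) : k.1 y ∈ Bl c f (k.1 u) (k • ω) ↔ y ∈ Bl c f u ω :=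
  ⟨fun h => by simpa using map_mem_Bl k⁻¹ h, map_mem_Bl k⟩

theorem smul_mem_Bl_smul (hu : f.Q u = 0) (ha : a ≠ 0) :
    a • y ∈ Bl c f (a • u) ω ↔ y ∈ Bl c f u ω := by
  have hσ := P.σ_ne_zero ha
  constructor
  · intro h v hv
    have := h ((P.σ a)⁻¹ • v) ((mem_Sb_smul hu ha).2 (by rwa [smul_inv_smul₀ hσ]))
    rwa [B_smul_left, B_smul_right, inv_mul_cancel_left₀ hσ] at this
  · intro h v hv
    have := h _ ((mem_Sb_smul hu ha).1 hv)
    rwa [B_smul_left, ← B_smul_right] at this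

theorem conj_mem_Bl_iff (hu : f.Q u = 0) (hk : k.1 u = a • u) (ha : a ≠ 0) :
    a⁻¹ • k.1 y ∈ Bl c f u (k • ω) ↔ y ∈ Bl c f u ω := by
  rw [← smul_mem_Bl_smul hu ha, smul_inv_smul₀ ha, ← hk, map_mem_Bl_iff]

theorem mem_Bl_conj (hu : f.Q u = 0) (hk : k.1 u = a • u) (ha : a ≠ 0) {y' : V}
    (hy : k.1 y = a • y') (h : y ∈ Bl c f u ω) : y' ∈ Bl c f u (k • ω) := by
  have := (conj_mem_Bl_iff hu hk ha).2 h
  rwa [hy, inv_smul_smul₀ ha] at this

theorem mem_Bl_fix (hk : k.1 u = u) (h : y ∈ Bl c f u ω) : k.1 y ∈ Bl c f u (k • ω) := by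
  have := map_mem_Bl k h
  rwa [hk] at this

theorem mem_Sb_fix (hk : k.1 u = u) (h : y ∈ Sb f u ω) : k.1 y ∈ Sb f u (k • ω) := by
  have := map_mem_Sb k h
  rwa [hk] at this

theorem card_Bl_conj (hu : f.Q u = 0) (hk : k.1 u = a • u) (ha : a ≠ 0) :
    Nat.card (Bl c f u (k • ω)) = Nat.card (Bl c f u ω) :=
  (Nat.card_congr (Equiv.subtypeEquiv
    (k.1.toEquiv.trans (MulAction.toPerm (Units.mk0 a ha)⁻¹)) fun _ =>
      (conj_mem_Bl_iff hu hk ha).symm)).symm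

theorem card_tau_conj (hu : f.Q u = 0) (hk : k.1 u = a • u) (ha : a ≠ 0) :
    Nat.card (tau f u (k • ω)) = Nat.card (tau f u ω) := by
  rw [← card_tau_smul hu ha, ← hk, tau_map]

theorem mem_tau_conj (hu : f.Q u = 0) (hk : k.1 u = a • u) (ha : a ≠ 0) :
    a * P.σ a * l ∈ tau f u (k • ω) ↔ l ∈ tau f u ω := by
  rw [← mem_tau_smul hu ha, ← hk, tau_map]

theorem wt_conj (hu : f.Q u = 0) (hk : k.1 u = a • u) (ha : a ≠ 0) :
    wt f u (k • ω) = wt f u ω := by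
  rw [wt, wt, card_tau_conj hu hk ha]

theorem SO.Bl_eq (hu : f.Q u = 0) (h : SO f u ω ω') : Bl c f u ω = Bl c f u ω' := by
  rw [Bl, Bl, h.Sb_eq hu]

theorem SO.wt_eq (hu : f.Q u = 0) (h : SO f u ω ω') : wt f u ω = wt f u ω' := by
  rw [wt, wt, h.tau_eq hu]

theorem wt_mul_card [Finite F] (u : V) (ω : X) :
    wt f u ω * Nat.card (tau f u ω) = Nat.card (Lam P) :=
  Nat.div_mul_cancel (AddSubgroup.card_dvd_of_le (tau_le u ω))

theorem wt_pos [Finite F] (u : V) (ω : X) : 0 < wt f u ω :=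
  Nat.pos_of_mul_pos_right (by rw [wt_mul_card]; exact Nat.card_pos)

theorem wt_of_bot [Finite F] (h : tau f u ω = ⊥) : wt f u ω = Nat.card (Lam P) := by
  simp [wt, h]

theorem tau_eq_of_wt [Finite F] (h : wt f u ω < 2) : tau f u ω = Lam P := by
  have h1 := wt_mul_card (f := f) u ω
  have h2 := wt_pos (f := f) u ω
  rw [show wt f u ω = 1 by omega, one_mul] at h1
  exact AddSubgroup.eq_of_le_of_card_ge (tau_le u ω) h1.ge

theorem two_le_wt [Finite F] (h : tau f u ω ≠ Lam P) : 2 ≤ wt f u ω := by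
  by_contra hc
  exact h (tau_eq_of_wt (by omega))

theorem tau_eq_bot_of_wt [Finite F] (h : Nat.card (Lam P) < 2 * wt f u ω) : tau f u ω = ⊥ := by
  have h1 := wt_mul_card (f := f) u ω
  have h2 : 0 < Nat.card (tau f u ω) := Nat.card_pos
  rw [← AddSubgroup.card_eq_one]
  by_contra hc
  have : 2 ≤ Nat.card (tau f u ω) := by omega
  nlinarith

variable [Finite F] [Finite V]

theorem card_Sb_mul_card_Bl (hf : f.Nondeg) :
    Nat.card (Sb f u ω) * Nat.card (Bl c f u ω) = Nat.card V := Chr.card_mul_card_ann hf _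

theorem mem_Sb_of_Bl (hf : f.Nondeg) (h : ∀ y ∈ Bl c f u ω, f.B v y = 0) : v ∈ Sb f u ω :=
  Chr.mem_of_ann_B hf h

theorem card_orbit (hf : f.Nondeg) (hu : f.Q u = 0) (hu0 : u ≠ 0) (ω : X) :
    {ω' | SO f u ω ω'}.ncard * Nat.card F = Nat.card (Bl c f u ω) * wt f u ω := by
  have h1 := card_orbit_aux hu ω
  have h2 := card_perp hf hu0
  have h3 := card_Sb_mul_card_Bl (c := c) (u := u) (ω := ω) hf
  have h4 := wt_mul_card (f := f) u ω
  have h5 : 0 < Nat.card (Sb f u ω) * Nat.card (tau f u ω) := Nat.mul_pos Nat.card_pos Nat.card_pos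
  apply Nat.eq_of_mul_eq_mul_right h5
  calc _ = Nat.card F * ({ω' | SO f u ω ω'}.ncard *
        (Nat.card (Sb f u ω) * Nat.card (tau f u ω))) := by ring
    _ = Nat.card V * Nat.card (Lam P) := by rw [h1, ← mul_assoc, h2]
    _ = _ := by rw [← h3, ← h4]; ring

theorem card_le_card_Bl (hu : f.Q u = 0) (hu0 : u ≠ 0) : Nat.card F ≤ Nat.card (Bl c f u ω) :=
  Nat.card_le_card_of_injective (fun s => ⟨s • u, smul_self_mem_Bl hu s⟩) fun _ _ h =>
    smul_left_injective F hu0 (congrArg Subtype.val h)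

open Classical in
variable (c f) in
/-- the weighted multiplicity of a vector -/
noncomputable def mu (u : V) (Y : Finset X) (y : V) : ℚ :=
  ∑ ω ∈ Y with y ∈ Bl c f u ω, (Nat.card F : ℚ) / Nat.card (Bl c f u ω)

variable {Y Y' : Finset X}

omit [Finite F] [Finite V] in
theorem mu_nonneg : 0 ≤ mu c f u Y y := sum_nonneg fun _ _ => by positivity

omit [Finite F] [Finite V] in
theorem mu_mono (h : ∀ ω ∈ Y, y ∈ Bl c f u ω → ω ∈ Y') : mu c f u Y y ≤ mu c f u Y' y := by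
  classical
  refine sum_le_sum_of_subset_of_nonneg (fun ω hω => ?_) fun _ _ _ => by positivity
  rw [mem_filter] at hω ⊢
  exact ⟨h ω hω.1 hω.2, hω.2⟩

omit [Finite F] [Finite V] in
theorem mu_conj (hu : f.Q u = 0) (hk : k.1 u = a • u) (ha : a ≠ 0) {y' : V}
    (hy : k.1 y = a • y') (hY : ∀ ω ∈ Y, k • ω ∈ Y) : mu c f u Y y ≤ mu c f u Y y' := by
  classical
  unfold mu
  rw [sum_congr rfl (g := fun ω => (Nat.card F : ℚ) / Nat.card (Bl c f u (k • ω)))
      fun ω _ => by rw [card_Bl_conj hu hk ha],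
    ← sum_image (g := fun ω => k • ω) (f := fun ω => (Nat.card F : ℚ) / Nat.card (Bl c f u ω))
      (MulAction.injective k).injOn]
  refine sum_le_sum_of_subset_of_nonneg (fun ω hω => ?_) fun _ _ _ => by positivity
  obtain ⟨ω, h, rfl⟩ := mem_image.1 hω
  rw [mem_filter] at h ⊢
  exact ⟨hY ω h.1, mem_Bl_conj hu hk ha hy h.2⟩

omit [Finite F] in
theorem sum_mu_eq (C : Finset V) : ∑ y ∈ C, mu c f u Y y =
    ∑ ω ∈ Y, (Nat.card F : ℚ) / Nat.card (Bl c f u ω) * Nat.card {y // y ∈ C ∧ y ∈ Bl c f u ω} := by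
  classical
  unfold mu
  simp only [sum_filter]
  rw [sum_comm]
  refine sum_congr rfl fun ω _ => ?_
  rw [← sum_filter, sum_const, nsmul_eq_mul, mul_comm]
  congr 2
  rw [← Fintype.card_coe, ← Nat.card_eq_fintype_card]
  exact Nat.card_congr (Equiv.subtypeEquivRight fun y => by simp)

omit [Finite F] in
theorem sum_mu_le (C : Finset V) : ∑ y ∈ C, mu c f u Y y ≤ Nat.card F * Y.card := by
  rw [sum_mu_eq, mul_comm, ← nsmul_eq_mul, ← sum_const]
  refine sum_le_sum fun ω _ => ?_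
  have h0 : (0 : ℚ) < Nat.card (Bl c f u ω) := by exact_mod_cast Nat.card_pos
  rw [div_mul_eq_mul_div, div_le_iff₀ h0]
  gcongr
  exact Nat.card_le_card_of_injective (fun y => ⟨y.1, y.2.2⟩) fun _ _ h =>
    Subtype.ext (congrArg (fun z : Bl c f u ω => z.1) h)

theorem sum_mu_small (hu : f.Q u = 0) (hu0 : u ≠ 0) (C : Finset V) (hC : ∀ y ∈ C, y ∉ F ∙ u)
    {b : ℕ} (hb : ∀ ω ∈ Y, Nat.card (Bl c f u ω) ≤ b * Nat.card F) :
    b * ∑ y ∈ C, mu c f u Y y + Nat.card F * Y.card ≤ b * (Nat.card F * Y.card) := by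
  rw [sum_mu_eq, mul_comm _ (Y.card : ℚ), ← nsmul_eq_mul Y.card, ← sum_const, mul_sum, mul_sum,
    ← sum_add_distrib]
  refine sum_le_sum fun ω hω => ?_
  have h0 : (0 : ℚ) < Nat.card (Bl c f u ω) := by exact_mod_cast Nat.card_pos
  have h1 : Nat.card {y // y ∈ C ∧ y ∈ Bl c f u ω} + Nat.card F ≤ Nat.card (Bl c f u ω) := by
    rw [← Nat.card_sum]
    refine Nat.card_le_card_of_injective (Sum.elim (fun y => ⟨y.1, y.2.2⟩)
      fun s => ⟨s • u, smul_self_mem_Bl hu s⟩) ?_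
    rintro (x | x) (z | z) h
    · exact congrArg _ (Subtype.ext (congrArg (fun z : Bl c f u ω => z.1) h))
    · exact absurd (Submodule.mem_span_singleton.2 ⟨z, (congrArg Subtype.val h).symm⟩)
        (hC _ x.2.1)
    · exact absurd (Submodule.mem_span_singleton.2 ⟨x, congrArg Subtype.val h⟩) (hC _ z.2.1)
    · exact congrArg _ (smul_left_injective F hu0 (congrArg Subtype.val h))
  have h2 : (Nat.card {y // y ∈ C ∧ y ∈ Bl c f u ω} : ℚ) + Nat.card F ≤ Nat.card (Bl c f u ω) := by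
    exact_mod_cast h1
  have h3 : (Nat.card (Bl c f u ω) : ℚ) ≤ b * Nat.card F := by exact_mod_cast hb ω hω
  have h4 : (0 : ℚ) ≤ Nat.card F := by positivity
  have h5 : (0 : ℚ) ≤ b := by positivity
  rw [div_mul_eq_mul_div, ← mul_div_assoc, div_add' _ _ _ h0.ne', div_le_iff₀ h0]
  nlinarith [mul_le_mul_of_nonneg_left h2 (mul_nonneg h5 h4), mul_le_mul_of_nonneg_left h3 h4]

variable (f) in
/-- closed under the Eichler group -/
def Cl (u : V) (Y : Finset X) : Prop := ∀ ω ∈ Y, ∀ ω', SO f u ω ω' → ω' ∈ Y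

theorem mu_ge (hf : f.Nondeg) (hu : f.Q u = 0) (hu0 : u ≠ 0) (hY : Cl f u Y) {ι : Type*}
    (s : Finset ι) (φ : ι → X) (h1 : ∀ i ∈ s, φ i ∈ Y) (h2 : ∀ i ∈ s, y ∈ Bl c f u (φ i))
    (h3 : ∀ i ∈ s, ∀ j ∈ s, SO f u (φ i) (φ j) → i = j) :
    ((∑ i ∈ s, wt f u (φ i) : ℕ) : ℚ) ≤ mu c f u Y y := by
  classical
  have h4 : ∀ i ∈ s, (wt f u (φ i) : ℚ) = ∑ ω ∈ Y with SO f u (φ i) ω,
      (Nat.card F : ℚ) / Nat.card (Bl c f u ω) := by
    intro i hi
    rw [sum_congr rfl (g := fun _ => (Nat.card F : ℚ) / Nat.card (Bl c f u (φ i)))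
      fun ω hω => by rw [(mem_filter.1 hω).2.Bl_eq hu], sum_const, nsmul_eq_mul]
    have h0 : (0 : ℚ) < Nat.card (Bl c f u (φ i)) := by exact_mod_cast Nat.card_pos
    have h5 : (Y.filter fun ω => SO f u (φ i) ω).card = {ω' | SO f u (φ i) ω'}.ncard := by
      rw [← Set.ncard_coe_finset]
      congr 1
      ext ω
      simpa using hY _ (h1 i hi) ω
    rw [h5, ← mul_div_assoc, eq_div_iff h0.ne', mul_comm, ← Nat.cast_mul, ← Nat.cast_mul,
      card_orbit (c := c) hf hu hu0]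
  rw [Nat.cast_sum, sum_congr rfl h4, ← sum_biUnion]
  · refine sum_le_sum_of_subset_of_nonneg (fun ω hω => ?_) fun _ _ _ => by positivity
    obtain ⟨i, hi, hω⟩ := mem_biUnion.1 hω
    rw [mem_filter] at hω ⊢
    exact ⟨hω.1, hω.2.Bl_eq hu ▸ h2 i hi⟩
  · intro i hi j hj hij
    refine disjoint_left.2 fun ω e1 e2 => hij (h3 i hi j hj ?_)
    exact (mem_filter.1 e1).2.trans hu ((mem_filter.1 e2).2.symm hu)

theorem mu_ge_one (hf : f.Nondeg) (hu : f.Q u = 0) (hu0 : u ≠ 0) (hY : Cl f u Y) (h1 : ω ∈ Y)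
    (h2 : y ∈ Bl c f u ω) : (wt f u ω : ℚ) ≤ mu c f u Y y := by
  simpa using mu_ge (c := c) hf hu hu0 hY {()} (fun _ => ω) (fun _ _ => h1) (fun _ _ => h2)
    fun _ _ _ _ _ => rfl

theorem mu_ge_two (hf : f.Nondeg) (hu : f.Q u = 0) (hu0 : u ≠ 0) (hY : Cl f u Y) (h1 : ω ∈ Y)
    (h2 : y ∈ Bl c f u ω) (h1' : ω' ∈ Y) (h2' : y ∈ Bl c f u ω') (h : ¬ SO f u ω ω') :
    (wt f u ω : ℚ) + wt f u ω' ≤ mu c f u Y y := by
  have := mu_ge (c := c) (y := y) hf hu hu0 hY univ (fun b : Bool => if b then ω else ω')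
    (fun b _ => by cases b <;> simpa) (fun b _ => by cases b <;> simpa)
    fun b _ b' _ e => by
      cases b <;> cases b' <;> first | rfl | exact absurd e h | exact absurd (e.symm hu) h
  simpa using this

theorem mu_ge_family (hf : f.Nondeg) (hu : f.Q u = 0) (hu0 : u ≠ 0) (hY : Cl f u Y) {ι : Type*}
    [Finite ι] (φ : ι → X) (h1 : ∀ i, φ i ∈ Y) (h2 : ∀ i, y ∈ Bl c f u (φ i))
    (h3 : ∀ i j, SO f u (φ i) (φ j) → i = j) {w : ℕ} (h4 : ∀ i, w ≤ wt f u (φ i)) :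
    (Nat.card ι * w : ℚ) ≤ mu c f u Y y := by
  have := Fintype.ofFinite ι
  refine le_trans ?_ (mu_ge (c := c) hf hu hu0 hY univ φ (fun i _ => h1 i) (fun i _ => h2 i)
    fun i _ j _ => h3 i j)
  rw [Nat.card_eq_fintype_card]
  exact_mod_cast card_nsmul_le_sum univ (fun i => wt f u (φ i)) w fun i _ => h4 i

omit [Finite F] in
theorem class_le {C : Set V} {m : ℚ} (h : ∀ y ∈ C, m ≤ mu c f u Y y) :
    m * C.ncard ≤ Nat.card F * Y.card := by
  refine le_trans ?_ (sum_mu_le (c := c) (f := f) (u := u) C.toFinite.toFinset)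
  rw [Set.ncard_eq_toFinset_card C, mul_comm, ← nsmul_eq_mul]
  exact card_nsmul_le_sum _ _ _ fun y hy => h y (by simpa using hy)

omit [Finite F] in
theorem class_le_two {C D : Set V} (hCD : Disjoint C D) {m m' : ℚ}
    (h : ∀ y ∈ C, m ≤ mu c f u Y y) (h' : ∀ y ∈ D, m' ≤ mu c f u Y y) :
    m * C.ncard + m' * D.ncard ≤ Nat.card F * Y.card := by
  classical
  refine le_trans ?_ (sum_mu_le (c := c) (f := f) (u := u)
    (C.toFinite.toFinset ∪ D.toFinite.toFinset))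
  rw [sum_union (by simpa using hCD), Set.ncard_eq_toFinset_card C, Set.ncard_eq_toFinset_card D,
    mul_comm m, mul_comm m', ← nsmul_eq_mul, ← nsmul_eq_mul]
  exact add_le_add (card_nsmul_le_sum _ _ _ fun y hy => h y (by simpa using hy))
    (card_nsmul_le_sum _ _ _ fun y hy => h' y (by simpa using hy))

omit [Finite F] in
theorem class_le_three {C D E : Set V} (hCD : Disjoint C D) (hCE : Disjoint C E)
    (hDE : Disjoint D E) {m m' m'' : ℚ} (h : ∀ y ∈ C, m ≤ mu c f u Y y)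
    (h' : ∀ y ∈ D, m' ≤ mu c f u Y y) (h'' : ∀ y ∈ E, m'' ≤ mu c f u Y y) :
    m * C.ncard + m' * D.ncard + m'' * E.ncard ≤ Nat.card F * Y.card := by
  classical
  refine le_trans ?_ (sum_mu_le (c := c) (f := f) (u := u)
    (C.toFinite.toFinset ∪ D.toFinite.toFinset ∪ E.toFinite.toFinset))
  rw [sum_union (by simp [hCE, hDE]), sum_union (by simpa using hCD),
    Set.ncard_eq_toFinset_card C, Set.ncard_eq_toFinset_card D, Set.ncard_eq_toFinset_card E,
    mul_comm m, mul_comm m', mul_comm m'', ← nsmul_eq_mul, ← nsmul_eq_mul, ← nsmul_eq_mul]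
  exact add_le_add (add_le_add (card_nsmul_le_sum _ _ _ fun y hy => h y (by simpa using hy))
    (card_nsmul_le_sum _ _ _ fun y hy => h' y (by simpa using hy)))
    (card_nsmul_le_sum _ _ _ fun y hy => h'' y (by simpa using hy))

theorem class_small (hu : f.Q u = 0) (hu0 : u ≠ 0) {C : Set V} (hC : ∀ y ∈ C, y ∉ F ∙ u)
    {b : ℕ} (hb : ∀ ω ∈ Y, Nat.card (Bl c f u ω) ≤ b * Nat.card F) {m : ℚ}
    (h : ∀ y ∈ C, m ≤ mu c f u Y y) :
    b * (m * C.ncard) + Nat.card F * Y.card ≤ b * (Nat.card F * Y.card) := by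
  refine le_trans ?_ (sum_mu_small (c := c) hu hu0 C.toFinite.toFinset
    (fun y hy => hC y (by simpa using hy)) hb)
  gcongr
  rw [Set.ncard_eq_toFinset_card C, mul_comm, ← nsmul_eq_mul]
  exact card_nsmul_le_sum _ _ _ fun y hy => h y (by simpa using hy)

theorem ncard_span (hu0 : u ≠ 0) : ((F ∙ u : Submodule F V) : Set V).ncard = Nat.card F := by
  rw [← Nat.card_coe_set_eq]
  exact Nat.card_congr (LinearEquiv.toSpanNonzeroSingleton F V u hu0).toEquiv.symm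

theorem card_ge_orbit (hf : f.Nondeg) (hu : f.Q u = 0) (hu0 : u ≠ 0) (hY : Cl f u Y)
    (h : ω ∈ Y) : Nat.card (Bl c f u ω) * wt f u ω ≤ Nat.card F * Y.card := by
  have := class_le (C := (Bl c f u ω : Set V)) fun y hy => mu_ge_one hf hu hu0 hY h hy
  rw [mul_comm (wt f u ω : ℚ)] at this
  exact_mod_cast this

end Cfsg.Agent.MI
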