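import Cfsg.Agent.Lib.MI.U5
import Cfsg.Agent.Lib.Forms.Orth

/-!
Orthogonal groups: generation by Siegel transformations, Witt's theorem in `Ω`.
-/

set_option autoImplicit false

namespace Cfsg.Agent.MI

open Module Cfsg.Agent.Forms Cfsg.Agent.Forms.Form Cfsg.Agent.Cls Cfsg.Agent.Deg Finset

variable {F : Type*} [Field F] {V : Type*} [AddCommGroup V] [Module F V]

section general

variable {P : Param F} {f : Form P V} [FiniteDimensional F V]

theorem exists_nondeg_perp (hf : f.Nondeg) (S : Submodule F V) :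
    ∃ T ≤ f.orth S, (f.restrict T).Nondeg ∧ finrank F V ≤ finrank F T + 2 * finrank F S := by
  obtain ⟨T, hT⟩ := Submodule.exists_isCompl (S.comap (f.orth S).subtype)
  refine ⟨T.map (f.orth S).subtype, Submodule.map_subtype_le _ _, ?_, ?_⟩
  · rintro ⟨_, x, hx, rfl⟩ h
    have h1 : x.1 ∈ S := by
      refine (hf.orth_orth S).le fun w hw => ?_
      obtain ⟨a, ha, b, hb, e⟩ := Submodule.mem_sup.1
        (hT.sup_eq_top ▸ Submodule.mem_top : (⟨w, hw⟩ : f.orth S) ∈ _)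
      rw [← show a.1 + b.1 = w from congrArg Subtype.val e, B_add_right, x.2 a ha, zero_add]
      exact h ⟨b, b, hb, rfl⟩
    have := (Submodule.disjoint_def.1 hT.disjoint) x h1 hx
    exact Subtype.ext (congrArg (fun z : f.orth S => z.1) this)
  · have h1 := Submodule.finrank_add_eq_of_isCompl hT
    have h2 := hf.finrank_add_orth S
    have h3 : finrank F (S.comap (f.orth S).subtype) ≤ finrank F S := by
      rw [← Submodule.finrank_map_subtype_eq]
      exact Submodule.finrank_mono (Submodule.map_comap_le _ _)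
    rw [Submodule.finrank_map_subtype_eq]
    omega

omit [FiniteDimensional F V] in
theorem not_mem_of_nondeg {S T : Submodule F V} (h1 : T ≤ f.orth S) (h2 : (f.restrict T).Nondeg)
    {x : V} (hx : x ∈ T) (h0 : x ≠ 0) : x ∉ S := fun h =>
  h0 (congrArg Subtype.val (h2 ⟨x, hx⟩ fun y => mem_orth'.1 (h1 y.2) x h))

theorem exists_B_ne_perp (hf : f.Nondeg) (S : Submodule F V) (h : 2 * finrank F S < finrank F V) :
    ∃ v ∈ f.orth S, ∃ w ∈ f.orth S, f.B v w ≠ 0 := by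
  obtain ⟨T, h1, h2, h3⟩ := exists_nondeg_perp hf S
  have : Nontrivial T := (finrank_pos_iff (R := F)).1 (by omega)
  obtain ⟨v, hv⟩ := exists_ne (0 : T)
  obtain ⟨w, hw⟩ := h2.exists_ne_zero hv
  exact ⟨v, h1 v.2, w, h1 w.2, hw⟩

theorem exists_sing_perp_of_hyp (hf : f.Nondeg) {S : Submodule F V} {x y a : V}
    (h : f.HypPair x y) (hx : x ∈ f.orth S) (hy : y ∈ f.orth S) (ha : a ∉ S) :
    ∃ z ∈ f.orth S, f.Q z = 0 ∧ f.B a z ≠ 0 := by
  by_contra hc
  push Not at hc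
  apply ha
  rw [← hf.orth_orth S]
  intro w hw
  obtain ⟨z, s, t, h1, rfl⟩ := exists_sum_sing h w
  have h2 : z ∈ f.orth S := (Submodule.add_mem_iff_left _ (Submodule.smul_mem _ _ hx)).1
    ((Submodule.add_mem_iff_left _ (Submodule.smul_mem _ _ hy)).1 hw)
  simp [B_smul_right, hc z h2 h1, hc x hx h.Qu, hc y hy h.Qe]

end general

variable [Fintype F] {f : Form (Param.orth F) V} [Finite V]

theorem oB_smul (a : F) (x y : V) : f.B x (a • y) = a * f.B x y := f.B_smul_right a x y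

theorem exists_Q_perp (hf : f.Nondeg) (S : Submodule F V)
    (h : 2 * finrank F S + 2 ≤ finrank F V) (c : F) : ∃ x ∈ f.orth S, f.Q x = c := by
  obtain ⟨T, h1, h2, h3⟩ := exists_nondeg_perp hf S
  obtain ⟨x, hx⟩ := h2.orth_exists_Q_eq (by omega) c
  exact ⟨x, h1 x.2, hx⟩

theorem exists_Q_perp' (hf : f.Nondeg) (S : Submodule F V)
    (h : 2 * finrank F S + 3 ≤ finrank F V) (c : F) : ∃ x ∈ f.orth S, x ∉ S ∧ f.Q x = c := by
  obtain ⟨T, h1, h2, h3⟩ := exists_nondeg_perp hf S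
  obtain ⟨x, hx0, hx⟩ : ∃ x : T, x ≠ 0 ∧ f.Q x = c := by
    by_cases hc : c = 0
    · exact hc ▸ h2.orth_exists_singular (by omega)
    · obtain ⟨x, hx⟩ := h2.orth_exists_Q_eq (by omega) c
      exact ⟨x, by rintro rfl; exact hc (hx.symm.trans (Q_zero _)), hx⟩
  exact ⟨x, h1 x.2, not_mem_of_nondeg h1 h2 x.2 fun e => hx0 (Subtype.ext e), hx⟩

theorem exists_hyp_orth (hf : f.Nondeg) (S : Submodule F V)
    (h : 2 * finrank F S + 3 ≤ finrank F V) : ∃ x ∈ f.orth S, ∃ y ∈ f.orth S, f.HypPair x y := by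
  obtain ⟨x, h1, h2, h3⟩ := exists_Q_perp' hf S h 0
  obtain ⟨y, h4, h5⟩ := hf.exists_hypPair_orth h3 h2 (mem_orth'.1 h1)
  exact ⟨x, h1, y, mem_orth'.2 h5, h4⟩

theorem exists_sing_perp (hf : f.Nondeg) {S : Submodule F V}
    (h : 2 * finrank F S + 3 ≤ finrank F V) {a : V} (ha : a ∉ S) :
    ∃ z ∈ f.orth S, f.Q z = 0 ∧ f.B a z ≠ 0 :=
  let ⟨_, hx, _, hy, h⟩ := exists_hyp_orth hf S h
  exists_sing_perp_of_hyp hf h hx hy ha

theorem isE_siegel {u v : V} (hu : f.Q u = 0) (hv : f.B v u = 0) :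
    IsE (f.siegel u v hu hv) u v (f.Q v) := isE_eichler _ _ _

theorem oE_app {g : f.Isom} {u v : V} {l : F} (h : IsE g u v l) (w : V) :
    g.1 w = w + (f.B w u • v - (f.B w v + f.Q v * f.B w u) • u) := by
  rw [h.app, f.orth_isLam_iff.1 h.lam]; simp only [Param.orth_ε]; module

theorem isE_mem_comm (hf : f.Nondeg) (h5 : 5 ≤ finrank F V) {g : f.Isom} {u v : V} {l : F}
    (hu : f.Q u = 0) (h : IsE g u v l) : g ∈ commutator f.Isom := by
  rw [h.eq_eichler hu, eichler_eq_siegel]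
  refine hf.siegel_mem (Or.inr h5) (fun u v hu hv h => ?_) _ _ _ _
  rw [f.siegel_eq_refl_mul u v hu hv h]
  exact hf.refl_mul_refl_mem_commutator _ _ ⟨f.Q v, by rw [Q_add_smul hu hv]⟩

theorem orth_big (hf : f.Nondeg) (h3 : 3 ≤ finrank F V) : Big f := fun u u' hu hu' h => by
  have he := hypPair_of_ne hu hu' h
  have := (finrank_pos_iff (R := F)).1 (lt_of_add_lt_add_right
    ((show 0 + 2 < _ from h3).trans_eq (he.finrank_orth hf).symm))
  obtain ⟨v, hv⟩ := (he.restrict_orth_nondeg hf).orth_exists_Q_ne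
  exact ⟨v, _, (mem_orth_pair.1 v.2).1, by simpa [h] using (mem_orth_pair.1 v.2).2,
    f.orth_isLam v, hv⟩

theorem orth_rk2 (hf : f.Nondeg) (h5 : 5 ≤ finrank F V) (u e : V) (h : f.HypPair u e) :
    ∃ y, y ≠ 0 ∧ f.Q y = 0 ∧ f.B y u = 0 ∧ f.B y e = 0 := by
  obtain ⟨y, h0, hy⟩ := (h.restrict_orth_nondeg hf).orth_exists_singular
    (by have := h.finrank_orth hf; omega)
  exact ⟨y, fun e => h0 (Subtype.ext e), hy, mem_orth_pair.1 y.2⟩

omit [Fintype F] [Finite V] in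
theorem exists_siegel_map {u b b' : V} (hu : f.Q u = 0) (h1 : f.Q b = f.Q b')
    (h2 : f.B b u = f.B b' u) (h0 : f.B b u ≠ 0) :
    ∃ (g : f.Isom) (v : V) (l : F), IsE g u v l ∧ g.1 b = b' := by
  have hv : f.B ((f.B b u)⁻¹ • (b' - b)) u = 0 := by simp [h2]
  refine ⟨_, _, _, isE_eichler hu hv (f.orth_isLam _), ?_⟩
  have h3 := (isE_eichler hu hv (f.orth_isLam _)).app b
  have h4 := Isom.map_Q (f.eichler _ _ _ hu hv (f.orth_isLam _)) b
  rw [smul_inv_smul₀ h0, add_sub_cancel, sub_sub, ← add_smul] at h3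
  obtain ⟨t, ht⟩ : ∃ t : F, (f.eichler _ _ _ hu hv (f.orth_isLam _)).1 b = b' - t • u := ⟨_, h3⟩
  rw [ht, orth_Q_sub, orth_Q_smul, hu, f.B_smul_right, h1, ← h2] at h4
  rw [ht, show t = 0 by simpa [h0] using h4, zero_smul, sub_zero]

theorem orth_gen (hf : f.Nondeg) (h4 : 5 ≤ finrank F V) (K : Subgroup f.Isom)
    (hK : ∀ u v, Ein K u v) : commutator f.Isom ≤ K := by
  let N := Subgroup.normalClosure {g | ∃ u v l hu hv hl, g = f.eichler u v l hu hv hl}
  have hN : ∀ {g u v l}, f.Q u = 0 → IsE g u v l → g ∈ N := fun hu h =>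
    Subgroup.subset_normalClosure ⟨_, _, _, hu, _, _, h.eq_eichler hu⟩
  have hle : N ≤ K := by
    refine (Subgroup.closure_le _).mpr fun x hx => ?_
    obtain ⟨_, ⟨u, v, l, hu, hv, hl, rfl⟩, hx⟩ := Group.mem_conjugatesOfSet_iff.mp hx
    obtain ⟨g, rfl⟩ := isConj_iff.mp hx
    rw [eichler_conj]
    exact hK _ _ _ _ _ _
  refine le_trans ?_ hle
  obtain ⟨u, hu0, hu⟩ := hf.orth_exists_singular (by omega)
  obtain ⟨e, he⟩ := hf.exists_hypPair hu hu0
  have hb : f.B e u = 1 := he.Beu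
  have k1 : ∀ b, b ≠ 0 → ∃ g ∈ N, f.B (g.1 b) u = 1 := fun b hb0 => by
    obtain ⟨z, hz, h1⟩ := exists_sing_ne hf he hb0
    obtain ⟨w, hw, h2, h3⟩ := exists_nonorth hf (orth_big hf (by omega)) hz
      (by rintro rfl; simp at h1) he.Qe he.e_ne_zero
    obtain ⟨g, v, l, s, hs, hg, e1⟩ := exists_isE_map hw hz he.Qe h2 h3
    have h5 : f.B (g.1 b) e ≠ 0 := fun h => h1 (by rw [← Isom.map_B g, e1, oB_smul, h, mul_zero])
    obtain ⟨x, hx⟩ := (he.restrict_orth_nondeg hf).orth_exists_Q_eq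
      (by have := he.finrank_orth hf; omega) (f.Q b - f.B (g.1 b) e)
    obtain ⟨x1, x2⟩ := mem_orth_pair.1 x.2
    obtain ⟨g', v', l', hg', e2⟩ := exists_siegel_map (b' := f.B (g.1 b) e • u + (1 : F) • e + x)
      he.Qe (by rw [he.Q_decomp _ _ x1 x2, Isom.map_Q, show f.Q x = _ from hx]; simp)
      (by simp [he.Bue, he.Bee, x2]) h5
    exact ⟨g' * g, mul_mem (hN he.Qe hg') (hN hw hg), by simp [e2, he.Buu, hb, x1]⟩
  have k2 : ∀ a b ha hb, f.Q a = f.Q b → (f.refl a ha : f.Isom ⧸ N) = f.refl b hb := by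
    intro a b ha hb h
    obtain ⟨g, hg, e1⟩ := k1 a (by rintro rfl; exact ha f.Q_zero)
    obtain ⟨g', hg', e2⟩ := k1 b (by rintro rfl; exact hb f.Q_zero)
    obtain ⟨k, v, l, hk, e3⟩ := exists_siegel_map (b := g.1 a) (b' := g'.1 b) hu
      (by rw [Isom.map_Q, Isom.map_Q, h]) (e1.trans e2.symm) (by rw [e1]; exact one_ne_zero)
    have h1 : g'⁻¹ * k * g ∈ N := mul_mem (mul_mem (inv_mem hg') (hN hu hk)) hg
    have h2 := f.refl_conj (g'⁻¹ * k * g) a ha
    rw [f.refl_congr _ (show (g'⁻¹ * k * g).1 a = b by simp [e3])] at h2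
    rw [← h2, QuotientGroup.mk_mul, QuotientGroup.mk_mul, QuotientGroup.mk_inv,
      (QuotientGroup.eq_one_iff _).2 h1]
    simp
  have k3 : ∀ x y : f.Isom, (x : f.Isom ⧸ N) * y = y * x := fun x y => by
    have k4 : ∀ a h, ∀ x : f.Isom, (x : f.Isom ⧸ N) * f.refl a h = f.refl a h * x := fun a h x => by
      rw [← mul_inv_eq_iff_eq_mul, ← QuotientGroup.mk_mul, ← QuotientGroup.mk_inv,
        ← QuotientGroup.mk_mul, f.refl_conj]
      exact k2 _ _ _ _ (Isom.map_Q _ _)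
    refine hf.refl_induction (Or.inr h4) (p := fun y => (x : f.Isom ⧸ N) * y = y * x) (by simp)
      (fun g a h ih => ?_) y
    rw [QuotientGroup.mk_mul, ← mul_assoc, ih, mul_assoc, k4, mul_assoc]
  refine Subgroup.commutator_le.2 fun x _ y _ => (QuotientGroup.eq_one_iff _).1 ?_
  rw [commutatorElement_def, QuotientGroup.mk_mul, QuotientGroup.mk_mul, QuotientGroup.mk_mul, k3 x]
  simp

theorem exists_om_fix (hf : f.Nondeg) (h5 : 5 ≤ finrank F V) {S : Submodule F V}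
    (hS : ∀ a, f.Q a ≠ 0 → ∃ x ∈ f.orth S, f.Q x ≠ 0 ∧ IsSquare (f.Q a * f.Q x)) (g : f.Isom) :
    ∃ g' ∈ commutator f.Isom, ∀ w ∈ S, g'.1 w = g.1 w := by
  suffices h : ∀ g : f.Isom, ∃ r : f.Isom, (∀ w ∈ S, r.1 w = w) ∧ g * r ∈ commutator f.Isom by
    obtain ⟨r, h1, h2⟩ := h g
    exact ⟨_, h2, fun w hw => by rw [Isom.mul_apply, h1 w hw]⟩
  refine hf.refl_induction (Or.inr h5) ⟨1, fun _ _ => rfl, by simp⟩ ?_
  rintro g a h ⟨r, h1, h2⟩
  obtain ⟨x, hx, h3, h4⟩ := hS a h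
  refine ⟨f.refl x h3 * r, fun w hw => by
    rw [Isom.mul_apply, h1 w hw, refl_apply_of_orth _ _ _ (mem_orth'.1 hx w hw)], ?_⟩
  convert mul_mem ((inferInstance : (commutator f.Isom).Normal).conj_mem _
    (hf.refl_mul_refl_mem_commutator h h3 h4) g) h2 using 1
  group

theorem exists_om_fix' (hf : f.Nondeg) (h5 : 5 ≤ finrank F V) {S : Submodule F V}
    (hS : 2 * finrank F S + 2 ≤ finrank F V) (g : f.Isom) :
    ∃ g' ∈ commutator f.Isom, ∀ w ∈ S, g'.1 w = g.1 w :=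
  exists_om_fix hf h5 (fun a ha =>
    let ⟨x, h1, h2⟩ := exists_Q_perp hf S hS (f.Q a); ⟨x, h1, h2 ▸ ha, _, by rw [h2]⟩) g

theorem om_class (hf : f.Nondeg) (h6 : 6 ≤ finrank F V) {u y y' : V} (hu : f.Q u = 0)
    (hu0 : u ≠ 0) (hy : f.B y u = 0) (hy' : f.B y' u = 0) (h1 : y ∉ F ∙ u) (h1' : y' ∉ F ∙ u)
    {a : F} (ha : a ≠ 0) (h : f.Q y = a * a * f.Q y') :
    ∃ k ∈ commutator f.Isom, k.1 u = a • u ∧ k.1 y = a • y' := by
  obtain ⟨g, e1, e2⟩ := hf.witt_two (x := u) (x' := y) (y := a • u) (y' := a • y')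
    (LinearIndependent.pair_iff' hu0 |>.2 fun s e => h1 (Submodule.mem_span_singleton.2 ⟨s, e⟩))
    (LinearIndependent.pair_iff' (smul_ne_zero ha hu0) |>.2 fun s e => h1'
      ((Submodule.smul_mem_iff _ ha).1 (Submodule.mem_span_singleton.2 ⟨s * a, by
        rw [mul_smul, e]⟩)))
    (by simp [f.B_self_of_Q hu]) (by rw [orth_B_self, orth_B_self, orth_Q_smul, h])
    (by simp [f.B_eq_zero_symm hy, f.B_eq_zero_symm hy'])
    (by rw [orth_Q_smul, hu, mul_zero]) (by rw [orth_Q_smul, h])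
  obtain ⟨g', h2, h3⟩ := exists_om_fix' hf (by omega) (S := Submodule.span F {u, y})
    (by have := finrank_span_pair_le (F := F) u y; omega) g
  exact ⟨g', h2, by rw [h3 u (Submodule.subset_span (by simp)), e1],
    by rw [h3 y (Submodule.subset_span (by simp)), e2]⟩

end Cfsg.Agent.MI
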