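import Cfsg.Agent.Lib.MI.O1

/-!
Transitive actions of orthogonal groups: invariant blocks and the regular case.
-/

set_option autoImplicit false

namespace Cfsg.Agent.MI

open Module Cfsg.Agent.Forms Cfsg.Agent.Forms.Form Cfsg.Agent.Cls Cfsg.Agent.Deg Finset

variable {F : Type*} [Field F] {V : Type*} [AddCommGroup V] [Module F V]
  {f : Form (Param.orth F) V}

theorem Lam_orth : Lam (Param.orth F) = ⊥ := by
  ext l; simp [mem_Lam_iff]

variable (f) in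
/-- invariance under a Siegel transformation -/
def SP (A : AddSubgroup V) (z v : V) : Prop :=
  ∀ a ∈ A, f.B a z • v - (f.B a v + f.Q v * f.B a z) • z ∈ A

variable {A : AddSubgroup V} {u y z v a : V}

theorem sp_iff {g : f.Isom} {l : F} (hg : IsE g z v l) : SP f A z v ↔ ∀ a ∈ A, g.1 a ∈ A :=
  forall₂_congr fun a ha => by
    have : g.1 a = a + (f.B a z • v - (f.B a v + f.Q v * f.B a z) • z) := by
      rw [hg.app, f.orth_isLam_iff.1 hg.lam]; simp only [Param.orth_ε]; module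
    rw [this, AddSubgroup.add_mem_cancel_left _ ha]

theorem SP.add {v' : V} (hz : f.Q z = 0) (h1 : f.B v z = 0) (h2 : f.B v' z = 0) (h : SP f A z v)
    (h' : SP f A z v') : SP f A z (v + v') := by
  have e := isE_eichler hz h1 (f.orth_isLam v)
  have e' := isE_eichler hz h2 (f.orth_isLam v')
  exact (sp_iff (e.mul hz e')).2 fun a ha => (sp_iff e).1 h _ ((sp_iff e').1 h' a ha)

theorem SP.nsmul (hz : f.Q z = 0) (h1 : f.B v z = 0) (h : SP f A z v) (n : ℕ) :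
    SP f A z ((n : F) • v) := by
  induction n with
  | zero => intro a _; simp [f.Q_zero]
  | succ n ih =>
    rw [Nat.cast_succ, add_smul, one_smul]
    exact ih.add hz (by rw [B_smul_left, h1, mul_zero]) h1 h

theorem line_of_SP {D : Submodule F V} (h : ∀ v ∈ D, SP f A z v) (ha : a ∈ A) (h0 : f.B a z ≠ 0)
    (hD : ∃ v ∈ D, ∃ w ∈ D, f.B v w ≠ 0) : (∀ s : F, s • z ∈ A) ∧ ∀ v ∈ D, v ∈ A := by
  obtain ⟨v, hv, w, hw, h1⟩ := hD
  have h2 : ∀ s : F, s • z ∈ A := fun s => by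
    have hv' := D.smul_mem (s / (f.B a z * f.B v w)) hv
    have := A.sub_mem (A.add_mem (h _ hv' a ha) (h _ hw a ha)) (h _ (D.add_mem hv' hw) a ha)
    convert this using 1
    rw [orth_Q_add, B_add_right, B_smul_left]
    match_scalars
    · field_simp; ring
    · ring
    · ring
  refine ⟨h2, fun x hx => ?_⟩
  have := h _ (D.smul_mem (f.B a z)⁻¹ hx) a ha
  rwa [smul_inv_smul₀ h0, sub_eq_add_neg, ← neg_smul, A.add_mem_cancel_right (h2 _)] at this

variable [Fintype F] [Finite V]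

theorem mem_orth_triple {P : Param F} {f : Form P V} {x y z v : V} :
    v ∈ f.orth (Submodule.span F {x, y, z}) ↔ f.B v x = 0 ∧ f.B v y = 0 ∧ f.B v z = 0 := by
  simp [mem_orth_span]

theorem perp_le_of_SP (hf : f.Nondeg) (h7 : 7 ≤ finrank F V)
    (h : ∀ z v, f.Q z = 0 → f.B z u = 0 → f.B z y = 0 → f.B v u = 0 → f.B v y = 0 → f.B v z = 0 →
      SP f A z v) (ha : a ∈ A) (ha' : ¬ ∃ s t : F, s • u + t • y = a) {x : V} (h1 : f.B x u = 0)
    (h2 : f.B x y = 0) : x ∈ A := by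
  have e0 : 2 * finrank F (Submodule.span F {u, y}) + 3 ≤ finrank F V := by
    have := finrank_span_pair_le (F := F) u y; omega
  have key : ∀ a ∈ A, (¬ ∃ s t : F, s • u + t • y = a) → ∃ z, f.B z u = 0 ∧ f.B z y = 0 ∧
      f.B a z ≠ 0 ∧ (∀ s : F, s • z ∈ A) ∧ ∀ v, f.B v u = 0 → f.B v y = 0 → f.B v z = 0 → v ∈ A :=
    fun a ha ha' => by
      obtain ⟨z, e1, e2, e3⟩ := exists_sing_perp hf e0 (mt Submodule.mem_span_pair.1 ha')
      rw [mem_orth_pair] at e1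
      obtain ⟨e4, e5⟩ := line_of_SP (D := f.orth (Submodule.span F {u, y, z})) (fun v hv =>
        have hv := mem_orth_triple.1 hv; h z v e2 e1.1 e1.2 hv.1 hv.2.1 hv.2.2) ha e3
        (exists_B_ne_perp hf _ (by have := finrank_span_triple_le (F := F) u y z; omega))
      exact ⟨z, e1.1, e1.2, e3, e4, fun v a b c => e5 v (mem_orth_triple.2 ⟨a, b, c⟩)⟩
  obtain ⟨z, a1, a2, -, a4, a5⟩ := key a ha ha'
  by_cases h3 : f.B x z = 0
  · exact a5 x h1 h2 h3
  obtain ⟨z', b1, b2, b3, b4, -⟩ := key z (by simpa using a4 1) (by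
    rintro ⟨s, t, rfl⟩
    simp [oB_smul, h1, h2] at h3)
  have b5 := B_ne_symm b3
  simpa using A.add_mem (a5 (x - (f.B x z / f.B z' z) • z') (by simp [h1, b1]) (by simp [h2, b2])
    (by simp [b5])) (b4 (f.B x z / f.B z' z))

theorem inv_top (hf : f.Nondeg) (h7 : 7 ≤ finrank F V) (hy' : y ∉ F ∙ u) (hy : y ∈ A)
    (h : ∀ y' ∈ A, f.B y' u = 0 ∨ y' = y → y' ∉ F ∙ u → f.Q y' = f.Q y → ∀ z v, f.Q z = 0 →
      f.B z u = 0 → f.B z y' = 0 → f.B v u = 0 → f.B v y' = 0 → f.B v z = 0 → SP f A z v) :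
    (∀ a ∈ A, ∃ s t : F, s • u + t • y = a) ∨ ∀ x, f.B x u = 0 → x ∈ A := by
  rw [or_iff_not_imp_left]
  intro hc x hx
  push Not at hc
  obtain ⟨a, ha, hc⟩ := hc
  have h1 := fun x => perp_le_of_SP hf h7 (h y hy (Or.inr rfl) hy' rfl) ha (by simpa using hc)
    (x := x)
  obtain ⟨y', e1, e2, e3⟩ := exists_Q_perp' hf (Submodule.span F {u, y})
    (by have := finrank_span_pair_le (F := F) u y; omega) (f.Q y)
  rw [mem_orth_pair] at e1
  have e4 : ¬ ∃ s t : F, s • u + t • y' = y := by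
    rintro ⟨s, t, e⟩
    have ht : t ≠ 0 := by
      rintro rfl
      exact hy' (Submodule.mem_span_singleton.2 ⟨s, by simpa using e⟩)
    exact e2 (Submodule.mem_span_pair.2 ⟨-(t⁻¹ * s), t⁻¹, by
      rw [← e]; match_scalars <;> field_simp <;> ring⟩)
  have h2 := fun x => perp_le_of_SP hf h7 (h y' (h1 y' e1.1 e1.2) (Or.inl e1.1)
    (fun e => e2 (Submodule.span_mono (by simp) e)) e3) hy e4 (x := x)
  obtain ⟨w, w1, w2⟩ := hf.exists_orth_eq_one (mt Submodule.mem_span_pair.1 e4)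
  have w3 := f.B_eq_zero_symm (w1 u (Submodule.subset_span (by simp)))
  have w4 := f.B_eq_zero_symm (w1 y' (Submodule.subset_span (by simp)))
  rw [orth_symm] at w2
  simpa using A.add_mem (h1 (x - f.B x y • w) (by simp [hx, w3]) (by simp [w2]))
    (h2 (f.B x y • w) (by simp [w3]) (by simp [w4]))

variable {X : Type*} [MulAction f.Isom X] {c : Chr (Param.orth F)} {ω : X} {Y Y' : Finset X}
  {G : Subgroup f.Isom}

theorem tau_orth (u : V) (ω : X) : tau f u ω = ⊥ := eq_bot_iff.2 ((tau_le u ω).trans Lam_orth.le)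

theorem tau_orth' (u : V) (ω : X) : tau f u ω = Lam (Param.orth F) := by rw [tau_orth, Lam_orth]

theorem wt_orth (u : V) (ω : X) : wt f u ω = 1 := by simp [wt_of_bot (tau_orth u ω), Lam_orth]

theorem Sys.sp_of_mu_lt (S : Sys f G Y) (hu : f.Q u = 0) (hu0 : u ≠ 0) (hY : PInv f G u Y')
    (hω : ω ∈ Y') (hy : y ∈ Bl c f u ω) (hlt : mu c f u Y' y < ringChar F) (hz : f.Q z = 0)
    (h1 : f.B z u = 0) (h2 : f.B z y = 0) (h3 : f.B v u = 0) (h4 : f.B v y = 0)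
    (h5 : f.B v z = 0) : SP f (Bl c f u ω) z v := by
  by_contra hc
  have hp : (ringChar F).Prime := CharP.char_is_prime F _
  have := Fact.mk hp
  let φ := ZMod.castHom (dvd_refl (ringChar F)) F
  have hg := fun i => isE_siegel hz (v := φ i • v) (by rw [B_smul_left, h5, mul_zero])
  have := S.mu_images hu hu0 hY hω hy (ι := ZMod (ringChar F)) _ (fun i => S.ein hz (hg i))
    (fun i => (hg i).apply_of_orth (f.B_eq_zero_symm h1) (by simp [f.B_eq_zero_symm h3]))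
    (fun i => (hg i).apply_of_orth (f.B_eq_zero_symm h2) (by simp [f.B_eq_zero_symm h4]))
    fun i j hij => by
      by_contra hne
      have e := ((sp_iff (((hg j).inv hz).mul hz (hg i))).2 hij).nsmul hz (by simp [h5])
        ((i - j)⁻¹).val
      rw [← neg_smul, ← add_smul, smul_smul, neg_add_eq_sub, ← map_sub, ← map_natCast φ, ← map_mul,
        ZMod.natCast_zmod_val, inv_mul_cancel₀ (sub_ne_zero.2 hne), map_one, one_smul] at e
      exact hc e
  rw [wt_orth, Nat.card_zmod] at this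
  simp only [Nat.cast_one, mul_one] at this
  linarith

variable (f) in
/-- the class of a vector orthogonal to `u` -/
def Cq (u y : V) : Set V := {x | f.B x u = 0 ∧ x ∉ F ∙ u ∧ ∃ a : F, a ≠ 0 ∧ f.Q y = a * a * f.Q x}

theorem Sys.mu_cq (S : Sys f (commutator f.Isom) Y) (h7 : 7 ≤ finrank F V) (hu : f.Q u = 0)
    (hu0 : u ≠ 0) (hY : PInv f (commutator f.Isom) u Y') (h1 : f.B y u = 0) (h2 : y ∉ F ∙ u)
    {x : V} (hx : x ∈ Cq f u y) : mu c f u Y' y ≤ mu c f u Y' x := by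
  obtain ⟨e1, e2, a, ha, e3⟩ := hx
  obtain ⟨k, hk, e4, e5⟩ := om_class S.nd (by omega) hu hu0 h1 e1 h2 e2 ha e3
  exact mu_conj hu e4 ha e5 (hY k hk a ha e4)

theorem self_mem_Cq (h1 : f.B y u = 0) (h2 : y ∉ F ∙ u) : y ∈ Cq f u y :=
  ⟨h1, h2, 1, one_ne_zero, by simp⟩

theorem Cq_eq_Cs (hy : f.Q y = 0) : Cq f u y = Cs f u := by
  ext x
  exact ⟨fun ⟨h1, h2, a, ha, h3⟩ => ⟨h1, by simpa [hy, ha] using h3.symm, h2⟩,
    fun ⟨h1, h2, h3⟩ => ⟨h1, h3, 1, one_ne_zero, by simp [hy, h2]⟩⟩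

theorem Sys.cq_le (S : Sys f (commutator f.Isom) Y) (h7 : 7 ≤ finrank F V) (hu : f.Q u = 0)
    (hu0 : u ≠ 0) (hY : PInv f (commutator f.Isom) u Y') (h1 : f.B y u = 0) (h2 : y ∉ F ∙ u) :
    mu c f u Y' y * ((Cq f u y).ncard + Nat.card F) ≤ Nat.card F * Y'.card :=
  class_le_span hu hu0 (fun _ h => h.2.1) (self_mem_Cq h1 h2) fun _ h =>
    S.mu_cq h7 hu hu0 hY h1 h2 h

theorem Sys.line_or_top (S : Sys f (commutator f.Isom) Y) (h7 : 7 ≤ finrank F V) (hu : f.Q u = 0)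
    (hu0 : u ≠ 0) (hY : PInv f (commutator f.Isom) u Y') (hω : ω ∈ Y') (hy : y ∈ Bl c f u ω)
    (hy' : y ∉ F ∙ u) (hlt : mu c f u Y' y < ringChar F) (hr : ¬ Reg f u ω) :
    ∀ a ∈ Bl c f u ω, ∃ s t : F, s • u + t • y = a :=
  (inv_top S.nd h7 hy' hy fun y' h1 _ h2 h3 _ _ a1 a2 a3 a4 a5 a6 => S.sp_of_mu_lt hu hu0 hY hω h1
    ((S.mu_cq h7 hu hu0 hY (orth_of_mem_Bl h1) h2
      ⟨orth_of_mem_Bl hy, hy', 1, one_ne_zero, by simp [h3]⟩).trans_lt hlt)
    a1 a2 a3 a4 a5 a6).resolve_right fun h => hr ⟨Sb_le_of_Bl S.nd h, tau_orth u ω⟩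

theorem ofull_of_Bl_le (hf : f.Nondeg) (hu : f.Q u = 0) (h : ∀ a ∈ Bl c f u ω, a ∈ F ∙ u) :
    Full f u ω := full_of hu (fun _ => mem_Sb_of_Bl_le hf h) (tau_orth' u ω)

theorem two_le_ringChar : (2 : ℚ) ≤ ringChar F := by
  exact_mod_cast (CharP.char_is_prime F (ringChar F)).two_le

theorem Sys.orth_three (S : Sys f (commutator f.Isom) Y) (h7 : 7 ≤ finrank F V) {B : ℕ}
    (hB : Y.card < B) (hu : f.Q u = 0) (hu0 : u ≠ 0)
    (n5 : ∀ y, f.B y u = 0 → f.Q y ≠ 0 →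
      (Nat.card F - 1) * B ≤ (Cq f u y).ncard + (Nat.card F - 1) * {e | f.HypPair u e}.ncard)
    (n6 : (Nat.card F - 1) * B ≤ {w | f.Q w = 0 ∧ w ≠ 0}.ncard) {ω₀ : X} (hω₀ : ω₀ ∈ Y)
    (hr : Reg f u ω₀) (hω : ω ∈ Y) (h1 : ¬ Reg f u ω) (h2 : ¬ Full f u ω) :
    tau f u ω = Lam (Param.orth F) ∧ ∃ y ∈ Cs f u, Ln c f u y ω := by
  classical
  have e1 := S.card_not_reg_mul c hu hu0 hω₀ hr hB n6
  have e2 := S.card_not_reg c hu hu0 hω₀ hr
  have p1 := (S.pinv u).not_reg hu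
  have m1 : ω ∈ Y.filter fun ω => ¬ Reg f u ω := mem_filter.2 ⟨hω, h1⟩
  generalize (Y.filter fun ω => ¬ Reg f u ω) = Y₁ at *
  obtain ⟨r, hr⟩ : ∃ r, Nat.card F = r + 2 :=
    ⟨Nat.card F - 2, by have : 1 < Nat.card F := Finite.one_lt_card; omega⟩
  rw [hr, show r + 2 - 1 = r + 1 from rfl] at e1 n5
  obtain ⟨y, hy, hy'⟩ : ∃ y ∈ Bl c f u ω, y ∉ F ∙ u := by
    by_contra h; push Not at h; exact h2 (ofull_of_Bl_le S.nd hu h)
  have h3 := orth_of_mem_Bl hy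
  have e3 : (r + 1) * Y₁.card ≤ (Cq f u y).ncard ∧
      (f.Q y ≠ 0 → (r + 1) * Y₁.card < (Cq f u y).ncard) := by
    by_cases h : f.Q y = 0
    · exact ⟨Cq_eq_Cs h ▸ e1, fun h' => absurd h h'⟩
    · have : (r + 1) * ({e | f.HypPair u e}.ncard + Y₁.card + 1) ≤ (r + 1) * B := by
        gcongr; omega
      have := n5 y h3 h
      have : (r + 1) * Y₁.card < (Cq f u y).ncard := by nlinarith
      exact ⟨this.le, fun _ => this⟩
  have e4 := S.line_or_top h7 hu hu0 p1 m1 hy hy' (by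
    have h4 := S.cq_le (c := c) h7 hu hu0 p1 h3 hy'
    have h5 : (r + 1 : ℚ) * Y₁.card ≤ (Cq f u y).ncard := by exact_mod_cast e3.1
    have e0 : (0 : ℚ) ≤ r * Y₁.card := by positivity
    rw [hr] at h4
    push_cast at h4
    refine lt_of_lt_of_le (lt_of_mul_lt_mul_right (a := ((Cq f u y).ncard + (r + 2) : ℚ)) ?_
      (by positivity)) two_le_ringChar
    nlinarith) h1
  refine ⟨tau_orth' u ω, y, ⟨h3, ?_, hy'⟩, hy, hy', e4⟩
  by_contra h
  have p2 := p1.card_Bl (c := c) (· ≤ Nat.card F * Nat.card F) hu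
  have h4 := class_small (c := c) hu hu0 (C := Cq f u y) (fun _ h => h.2.1)
    (b := Nat.card F) (m := 1) (fun ω hω => (mem_filter.1 hω).2) fun y' hy'' =>
    ((one_le_wt u ω).trans (mu_ge_one S.nd hu hu0 (S.cl hu p2)
      (mem_filter.2 ⟨m1, card_Bl_le_of_line e4⟩) hy)).trans (S.mu_cq h7 hu hu0 p2 h3 hy' hy'')
  have h5 : ((Y₁.filter fun ω => Nat.card (Bl c f u ω) ≤ Nat.card F * Nat.card F).card : ℚ) ≤
      Y₁.card := by exact_mod_cast card_filter_le _ _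
  have h6 : (r + 1 : ℚ) * Y₁.card < (Cq f u y).ncard := by exact_mod_cast e3.2 h
  generalize ((Y₁.filter fun ω => Nat.card (Bl c f u ω) ≤ Nat.card F * Nat.card F).card : ℚ)
    = x at *
  rw [hr, ← mul_add] at h4
  have := le_of_mul_le_mul_left h4 (by positivity)
  push_cast at this
  nlinarith

end Cfsg.Agent.MI
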