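import Cfsg.Agent.Lib.MI.O2

/-!
Transitive actions of orthogonal groups: there are no regular orbits.
-/

set_option autoImplicit false

namespace Cfsg.Agent.MI

open Module Cfsg.Agent.Forms Cfsg.Agent.Forms.Form Cfsg.Agent.Cls Cfsg.Agent.Deg Finset

variable {F : Type*} [Field F] {V : Type*} [AddCommGroup V] [Module F V]
  {f : Form (Param.orth F) V} [Fintype F] [Finite V] {u y z v : V}
  {X : Type*} [MulAction f.Isom X] {c : Chr (Param.orth F)} {ω : X} {Y Y' : Finset X}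

theorem exists_chr_orth (F : Type*) [Field F] [Finite F] : Nonempty (Chr (Param.orth F)) :=
  let ⟨c, _⟩ := exists_chr_tau (Param.orth F) ⟨1, one_ne_zero⟩; ⟨c⟩

theorem exists_orth_pair (hf : f.Nondeg) (h7 : 7 ≤ finrank F V) (h2 : (2 : F) ≠ 0)
    (hu : f.Q u = 0) (hu0 : u ≠ 0) (hz : z ∈ Cs f u) : ∃ v a b, f.Q v ≠ 0 ∧ f.Q a ≠ 0 ∧
      f.Q b = f.Q a ∧ f.B v u = 0 ∧ f.B v z = 0 ∧ f.B a u = 0 ∧ f.B a z = 0 ∧ f.B a v = 0 ∧
      f.B b u = 0 ∧ f.B b z = 0 ∧ f.B b v = 0 ∧ f.B a b = 0 := by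
  obtain ⟨T, h1, h3, h4⟩ := exists_nondeg_perp hf (Submodule.span F {u, z})
  have h5 := finrank_span_pair_le (F := F) u z
  obtain ⟨b, hb, hQ⟩ := h3.orth_exists_orthFam_Q h2 3 (by omega) (fun _ => 1) fun _ => one_ne_zero
  have e := fun i => mem_orth_pair.1 (h1 (b i).2)
  have q0 : f.Q (b 0) = 1 := hQ 0 (by simp; omega)
  have q1 : f.Q (b 1) = 1 := hQ 1 (by simp; omega)
  exact ⟨b 2, b 0, b 1, hb.Q_ne 2, by simp [q0], by rw [q0, q1], (e 2).1, (e 2).2, (e 0).1,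
    (e 0).2, hb.ne 0 2 (by decide), (e 1).1, (e 1).2, hb.ne 1 2 (by decide), hb.ne 0 1 (by decide)⟩

theorem Sys.orth_not_all_reg (S : Sys f (commutator f.Isom) Y) (h7 : 7 ≤ finrank F V) (hω : ω ∈ Y)
    (hr : ∀ u, f.Q u = 0 → u ≠ 0 → Reg f u ω) (hu : f.Q u = 0) (hu0 : u ≠ 0)
    (hs : ∀ ω' ∈ Y, SO f u ω ω') : False := by
  obtain ⟨z, hz⟩ := exists_mem_Cs_of_rk2 S.nd (orth_rk2 S.nd (by omega)) hu hu0
  have huz := f.B_eq_zero_symm hz.1
  have hzz := f.B_self_of_Q hz.2.1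
  have huu := f.B_self_of_Q hu
  obtain ⟨v₀, hv, v1, v2, hv'⟩ : ∃ v₀, f.Q v₀ ≠ 0 ∧ f.B v₀ u = 0 ∧ f.B v₀ z = 0 ∧ ((2 : F) ≠ 0 →
      ∃ a b, f.Q a ≠ 0 ∧ f.Q b = f.Q a ∧ f.B a u = 0 ∧ f.B a z = 0 ∧ f.B a v₀ = 0 ∧
      f.B b u = 0 ∧ f.B b z = 0 ∧ f.B b v₀ = 0 ∧ f.B a b = 0) := by
    by_cases h2 : (2 : F) = 0
    · obtain ⟨x, h1, h3⟩ := exists_Q_perp S.nd (Submodule.span F {u, z})
        (by have := finrank_span_pair_le (F := F) u z; omega) 1
      exact ⟨x, by simp [h3], (mem_orth_pair.1 h1).1, (mem_orth_pair.1 h1).2, fun h => absurd h2 h⟩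
    · obtain ⟨v, a, b, h1, h3, h4, h5, h6, h⟩ := exists_orth_pair S.nd h7 h2 hu hu0 hz
      exact ⟨v, h1, h5, h6, fun _ => ⟨a, b, h3, h4, h⟩⟩
  have v3 := f.B_eq_zero_symm v1
  have v4 := f.B_eq_zero_symm v2
  obtain ⟨t, ht⟩ := exists_isE hz.2.1 v2 (f.orth_isLam v₀)
  have htu : t.1 u = u := ht.apply_of_orth huz v3
  obtain ⟨g, w, m, hg, e⟩ := (hs _ (S.inv t (S.ein hz.2.1 ht) ω hω)).symm hu
  rw [← mul_smul] at e
  have key : ∀ k ∈ commutator f.Isom, k.1 u = u → k.1 z = z → k.1 v₀ - v₀ ∈ F ∙ z →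
      ∃ r s t : F, k.1 w - w = r • u + s • z + t • v₀ := fun k hk h1 h2 h3 => by
    obtain ⟨s, h3⟩ := Submodule.mem_span_singleton.1 h3
    have h4 := ht.conj k
    rw [h2, show k.1 v₀ = v₀ + s • z by rw [h3]; abel] at h4
    obtain ⟨v', -, h⟩ := (hr u hu hu0).cocycle S.nd hu hu0 htu hg e h1
      (mul_inv_eq_iff_eq_mul.1 (((h4.add_self hz.2.1 s).congr rfl (by simp)).eq ht))
      (hs _ (S.inv k hk ω hω))
    obtain ⟨r, hr⟩ := Submodule.mem_span_singleton.1 h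
    rw [oE_app ht] at hr
    exact ⟨r, -(f.B v' v₀ + f.Q v₀ * f.B v' z), f.B v' z, by
      linear_combination (norm := module) -hr⟩
  have k1 : f.B w z = 0 := by
    by_contra hc
    have : f.orth (Submodule.span F {u, z}) ≤ Submodule.span F {u, z, v₀} := fun a ha => by
      rw [mem_orth_pair] at ha
      obtain ⟨k, hk⟩ := exists_isE hz.2.1 ha.2 (f.orth_isLam a)
      obtain ⟨r, s, t, h⟩ := key k (S.ein hz.2.1 hk) (hk.apply_of_orth huz (f.B_eq_zero_symm ha.1))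
        (hk.apply_self hz.2.1) (by
          rw [IsE_apply_orth hk v2, add_sub_cancel_left]
          exact Submodule.smul_mem _ _ (Submodule.mem_span_singleton_self z))
      rw [oE_app hk, add_sub_cancel_left] at h
      rw [← Submodule.smul_mem_iff _ hc]
      exact Submodule.mem_span_triple.2 ⟨r, s + (f.B w a + f.Q a * f.B w z), t, by
        linear_combination (norm := module) -h⟩
    have h1 := Submodule.finrank_mono this
    have h2 := S.nd.finrank_add_orth (Submodule.span F {u, z})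
    have h3 := finrank_span_pair_le (F := F) u z
    have h4 := finrank_span_triple_le (F := F) u z v₀
    omega
  obtain ⟨α, β, γ, rfl⟩ : ∃ α β γ : F, α • u + β • z + γ • v₀ = w := by
    rw [← Submodule.mem_span_triple, ← S.nd.orth_orth (Submodule.span F {u, z, v₀})]
    intro x hx
    obtain ⟨x1, x2, x3⟩ := mem_orth_triple.1 hx
    by_cases h2 : (2 : F) = 0
    · have k2 : f.B w v₀ = 0 := by
        have e1 : t * t = 1 := ((ht.mul hz.2.1 ht).congr (by rw [← two_smul F, h2, zero_smul])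
          (by rw [orth_B_self, ← two_mul, h2]; simp)).eq_one
        have e2 := hg.conj t
        rw [htu] at e2
        have e3 := hg.mul hu e2
        have e4 : g * (t * g * t⁻¹) = g * t * (g * t) := by
          rw [inv_eq_of_mul_eq_one_right e1]; group
        rw [(hr u hu hu0).eq_one hu e3 (by rw [e4, mul_smul, e, e])] at e3
        obtain ⟨s, hs⟩ := Submodule.mem_span_singleton.1 (IsE_one_mem S.nd hu hu0 e3)
        rw [IsE_apply_orth ht k1, ← add_assoc, ← two_smul F, h2, zero_smul, zero_add] at hs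
        by_contra hc
        exact hz.2.2 ((Submodule.smul_mem_iff _ (show -((Param.orth F).ε * f.B w v₀) ≠ 0 by
          simpa using hc)).1 (hs ▸ Submodule.smul_mem _ _ (Submodule.mem_span_singleton_self u)))
      have hvv : f.B v₀ v₀ = 0 := by rw [orth_B_self, h2, zero_mul]
      have k3 : ∀ x, f.Q x ≠ 0 → f.B x u = 0 → f.B x z = 0 → f.B x v₀ = 0 → f.B w x = 0 := by
        intro x x0 x1 x2 x3
        obtain ⟨r, s, t, h⟩ := key (f.refl x x0 * f.refl v₀ hv)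
          (S.nd.refl_mul_refl_mem_commutator _ _ (isSquare_of_two_eq_zero h2 _))
          (by simp [refl_apply, v3, f.B_eq_zero_symm x1])
          (by simp [refl_apply, v4, f.B_eq_zero_symm x2])
          (by simp [refl_apply, hvv, f.B_eq_zero_symm x3])
        rw [Isom.mul_apply, refl_apply_of_orth _ _ _ k2, refl_apply, sub_sub_cancel_left] at h
        by_contra hc
        have h1 := congrArg (f.B w) h
        simp [oB_smul, hg.orth, k1, k2, hc, x0] at h1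
      by_cases h : f.Q x = 0
      · simpa [k2] using k3 (x + v₀) (by simpa [orth_Q_add, h, x3] using hv) (by simp [x1, v1])
          (by simp [x2, v2]) (by simp [x3, hvv])
      · exact k3 x h x1 x2 x3
    · have k3 : ∀ x x', f.Q x ≠ 0 → f.Q x' = f.Q x → f.B x u = 0 → f.B x z = 0 → f.B x v₀ = 0 →
          f.B x' u = 0 → f.B x' z = 0 → f.B x' v₀ = 0 → f.B x x' = 0 → f.B w x = 0 := by
        intro x x' x0 h x1 x2 x3 x4 x5 x6 x7
        obtain ⟨r, s, t, h⟩ := key (f.refl x x0 * f.refl x' (h ▸ x0))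
          (S.nd.refl_mul_refl_mem_commutator _ _ ⟨_, by rw [h]⟩)
          (by simp [refl_apply, f.B_eq_zero_symm x1, f.B_eq_zero_symm x4])
          (by simp [refl_apply, f.B_eq_zero_symm x2, f.B_eq_zero_symm x5])
          (by simp [refl_apply, f.B_eq_zero_symm x3, f.B_eq_zero_symm x6])
        have h1 := congrArg (f.B x) h
        simpa [refl_apply, oB_smul, x1, x2, x3, x7, f.B_eq_zero_symm x7, orth_B_self, h2, x0]
          using h1
      obtain ⟨a, b, a0, ab, a1, a2, a3, b1, b2, b3, a4⟩ := hv' h2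
      have a5 := f.B_eq_zero_symm a4
      have wa := k3 a b a0 ab a1 a2 a3 b1 b2 b3 a4
      have wb := k3 b a (ab ▸ a0) ab.symm b1 b2 b3 a1 a2 a3 a5
      obtain ⟨x', y1, y2, y3, y4, y5, h⟩ : ∃ x', f.B x' u = 0 ∧ f.B x' z = 0 ∧ f.B x' v₀ = 0 ∧
          f.B x' a = 0 ∧ f.B x' b = 0 ∧ f.B w x = f.B w x' :=
        ⟨x - (f.B x a / (2 * f.Q a)) • a - (f.B x b / (2 * f.Q a)) • b, by simp [x1, a1, b1],
          by simp [x2, a2, b2], by simp [x3, a3, b3], by simp [a5, orth_B_self, h2, a0],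
          by simp [a4, orth_B_self, h2, a0, ab], by simp [oB_smul, wa, wb]⟩
      rw [h]
      by_cases h0 : f.Q x' = 0
      · simpa [wa] using k3 (x' + a) b (by simpa [orth_Q_add, h0, y4] using a0)
          (by simp [orth_Q_add, h0, y4, ab]) (by simp [y1, a1]) (by simp [y2, a2])
          (by simp [y3, a3]) b1 b2 b3 (by simp [y5, a4])
      · obtain ⟨s, t, hst⟩ := exists_binary_eq h2 a0 a0 (f.Q x')
        exact k3 x' (s • a + t • b) h0 (by
          rw [orth_Q_add, orth_Q_smul, orth_Q_smul, ab, ← hst]; simp [oB_smul, a4]; ring) y1 y2 y3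
          (by simp [a1, b1]) (by simp [a2, b2]) (by simp [a3, b3]) (by simp [oB_smul, y4, y5])
  have hg' := IsE.add_self (v := β • z + γ • v₀) hu α (hg.congr (by abel) rfl)
  have h1 : ∀ w, (g * t).1 w = w + (f.B w z + γ * f.B w u) • v₀ +
      (β * f.B w u - f.B w v₀ - f.Q v₀ * f.B w z) • z - (β * f.B w z +
        γ * (f.B w v₀ + 2 * f.Q v₀ * f.B w z) + γ * γ * f.Q v₀ * f.B w u) • u := fun w => by
    rw [Isom.mul_apply, oE_app hg', oE_app ht]
    simp only [B_sub_left, B_add_left, B_add_right, B_smul_left, oB_smul, hz.1, hzz, v1, v2, v4,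
      orth_Q_add, orth_Q_smul, hz.2.1, orth_B_self]
    module
  have hp : f.Q (z + γ • u) = 0 := by rw [Q_add_smul hu hz.1, hz.2.1]
  have hp0 : z + γ • u ≠ 0 := fun e => hz.2.2 (Submodule.mem_span_singleton.2
    ⟨-γ, by rw [neg_smul, neg_eq_iff_add_eq_zero, add_comm, e]⟩)
  obtain ⟨v', l', h2⟩ := exists_isE_of_fix S.nd hp hp0 (g := g * t)
    (by rw [h1]; simp [hz.1, huz, hzz, huu, v3, v4]) fun w hw => by
      rw [B_add_right, oB_smul, add_eq_zero_iff_eq_neg] at hw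
      refine Submodule.mem_span_singleton.2 ⟨β * f.B w u - f.B w v₀ - f.Q v₀ * f.B w z, ?_⟩
      rw [h1, hw]
      module
  have h3 := (hr _ hp hp0).eq_one hp h2 e
  obtain ⟨w, w1, w2⟩ := exists_B_two S.nd hu0 hz.2.2 0 1
  have h4 := h1 w
  rw [h3, f.B_eq_zero_symm w1, orth_symm, w2] at h4
  have h5 : v₀ = (f.B w v₀ + f.Q v₀) • z + (β + γ * (f.B w v₀ + 2 * f.Q v₀)) • u := by
    rw [Isom.one_apply] at h4
    linear_combination (norm := module) -h4
  exact hv (by rw [h5, Q_add_smul hu (by rw [B_smul_left, hz.1, mul_zero]), orth_Q_smul, hz.2.1,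
    mul_zero])

theorem Sys.orth_no_reg (S : Sys f (commutator f.Isom) Y) (h7 : 7 ≤ finrank F V) {B : ℕ}
    (hB : Y.card < B)
    (n5 : ∀ u, f.Q u = 0 → u ≠ 0 → ∀ y, f.B y u = 0 → f.Q y ≠ 0 →
      (Nat.card F - 1) * B ≤ (Cq f u y).ncard + (Nat.card F - 1) * {e | f.HypPair u e}.ncard)
    (n6 : (Nat.card F - 1) * B ≤ {w | f.Q w = 0 ∧ w ≠ 0}.ncard)
    (n7 : ∀ u, f.Q u = 0 → u ≠ 0 → B ≤ 2 * {e | f.HypPair u e}.ncard) (hω : ω ∈ Y)
    (hu : f.Q u = 0) (hu0 : u ≠ 0) : ¬ Reg f u ω := fun hr => by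
  obtain ⟨c⟩ := exists_chr_orth F
  have h : ∀ ω ∈ Y, ∀ u, f.Q u = 0 → u ≠ 0 → Reg f u ω := fun ω' hω' u' hu' hu0' =>
    S.all_reg (c := c) (by omega) (orth_rk2 S.nd (by omega)) (fun u hu hu0 y hy y' hy' =>
      let ⟨k, h1, h2⟩ := om_class S.nd (by omega) hu hu0 hy.1 hy'.1 hy.2.2 hy'.2.2 one_ne_zero
        (by simp [hy.2.1, hy'.2.1])
      ⟨k, h1, 1, one_ne_zero, h2⟩) (fun ω' hω' z hz hz0 h1 h2 =>
      let ⟨_, h3, h4⟩ := S.exists_reg hω hu hu0 hr hz hz0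
      S.orth_three h7 hB hz hz0 (n5 z hz hz0) n6 h3 h4 hω' h1 h2) hu hu0 hω hr hB n6 hω' hu' hu0'
  exact S.orth_not_all_reg h7 hω (h ω hω) hu hu0 fun ω' hω' =>
    S.so_of_reg c hu hu0 hω hr hω' (h ω' hω' u hu hu0) (hB.trans_le (n7 u hu hu0))

end Cfsg.Agent.MI
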