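import Cfsg.Agent.Lib.MI.O3
import Cfsg.Agent.Lib.Forms.OrthMax

/-!
Transitive actions of orthogonal groups without regular orbits.
-/

set_option autoImplicit false

namespace Cfsg.Agent.MI

open Module Cfsg.Agent.Forms Cfsg.Agent.Forms.Form Cfsg.Agent.Cls Cfsg.Agent.Deg Finset

variable {F : Type*} [Field F] {V : Type*} [AddCommGroup V] [Module F V]
  {f : Form (Param.orth F) V} [Fintype F] [Finite V] {u y z v : V}
  {X : Type*} [MulAction f.Isom X] {c : Chr (Param.orth F)} {ω : X} {Y Y' : Finset X}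

theorem ncard_span_triple_le (x y z : V) :
    {a | ∃ r s t : F, r • x + s • y + t • z = a}.ncard ≤ Nat.card F ^ 3 := by
  rw [show Nat.card F ^ 3 = Nat.card (F × F × F) by simp [Nat.card_prod]; ring, ← Set.ncard_univ]
  refine le_trans (Set.ncard_le_ncard ?_ (Set.toFinite _))
    (Set.ncard_image_le (f := fun p : F × F × F => p.1 • x + p.2.1 • y + p.2.2 • z))
  rintro _ ⟨r, s, t, rfl⟩
  exact ⟨(r, s, t), trivial, rfl⟩

theorem Cq_disjoint {y' : V} (h1 : f.B y' u = 0) (h2 : y' ∉ F ∙ u) (h : y' ∉ Cq f u y) :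
    Disjoint (Cq f u y) (Cq f u y') := by
  rw [Set.disjoint_left]
  rintro x ⟨-, -, a, ha, e⟩ ⟨-, -, b, hb, e'⟩
  exact h ⟨h1, h2, a / b, div_ne_zero ha hb, by rw [e, e']; field_simp⟩

theorem mul_self_eq_one_of_card {a : F} (h : Nat.card F = 2 ∨ Nat.card F = 3) (ha : a ≠ 0) :
    a * a = 1 := by
  have := FiniteField.pow_card_sub_one_eq_one a ha
  rw [← Nat.card_eq_fintype_card] at this
  rcases h with h | h <;> rw [h] at this
  · rw [show a = 1 by simpa using this, mul_one]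
  · rw [← this, sq]

theorem ringChar_eq_of_card {p : ℕ} (hp : p.Prime) (h : Nat.card F = p) : ringChar F = p := by
  have := FiniteField.cast_card_eq_zero F
  rw [← Nat.card_eq_fintype_card, h, ringChar.spec] at this
  exact (Nat.prime_dvd_prime_iff_eq (CharP.char_is_prime F _) hp).1 this

theorem Sys.orth_good (S : Sys f (commutator f.Isom) Y) (h7 : 7 ≤ finrank F V) {B : ℕ}
    (hB : Y.card < B) (hu : f.Q u = 0) (hu0 : u ≠ 0)
    (n1 : (∀ y, f.B y u = 0 → f.Q y ≠ 0 →
        Nat.card F * B ≤ ringChar F * ((Cq f u y).ncard + Nat.card F)) ∨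
      ((Nat.card F = 2 ∨ Nat.card F = 3) ∧ ∀ y, f.B y u = 0 → f.Q y ≠ 0 →
        (Nat.card F = 2 → 3 * B ≤ 8 * (Cq f u y).ncard) ∧ ∀ y', f.B y' u = 0 → y' ∉ F ∙ u →
          y' ∉ Cq f u y → B ≤ (Cq f u y).ncard + (Cq f u y').ncard))
    (hω : ω ∈ Y) (hr : ¬ Reg f u ω) :
    (∀ a ∈ Bl c f u ω, f.Q a = 0) ∨ ∃ y, ∀ a ∈ Bl c f u ω, ∃ s t : F, s • u + t • y = a := by
  classical
  by_contra hc
  push Not at hc
  obtain ⟨⟨y, hy, hy0⟩, hc⟩ := hc
  have k1 : ∀ y ∈ Bl c f u ω, y ∉ F ∙ u → (ringChar F : ℚ) ≤ mu c f u Y y := fun y hy hy' => by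
    by_contra h
    obtain ⟨a, ha, h1⟩ := hc y
    obtain ⟨s, t, h2⟩ := S.line_or_top h7 hu hu0 (S.pinv u) hω hy hy' (not_le.1 h) hr a ha
    exact h1 s t h2
  have h1 := orth_of_mem_Bl hy
  have h2 := not_mem_span_of_Q (F := F) hu hy0
  have hB' : (Y.card : ℚ) < B := by exact_mod_cast hB
  have hF : (0 : ℚ) < Nat.card F := by exact_mod_cast Nat.card_pos
  rcases n1 with n1 | ⟨hq, n1⟩
  · have e1 := S.cq_le (c := c) h7 hu hu0 (S.pinv u) h1 h2
    have e2 : (Nat.card F * B : ℚ) ≤ ringChar F * ((Cq f u y).ncard + Nat.card F) := by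
      exact_mod_cast n1 y h1 hy0
    have := mul_le_mul_of_nonneg_right (k1 y hy h2)
      (by positivity : (0 : ℚ) ≤ (Cq f u y).ncard + Nat.card F)
    nlinarith
  have hp : ringChar F = Nat.card F := by
    rcases hq with h | h <;> rw [h]
    exacts [ringChar_eq_of_card Nat.prime_two h, ringChar_eq_of_card Nat.prime_three h]
  have k2 : ∀ a ∈ Bl c f u ω, a ∉ F ∙ u → f.Q a = f.Q y := fun a ha ha' => by
    have h3 := orth_of_mem_Bl ha
    by_cases h : a ∈ Cq f u y
    · obtain ⟨-, -, s, hs, e⟩ := h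
      rw [e, mul_self_eq_one_of_card hq hs, one_mul]
    have e1 := class_le_two (Cq_disjoint h3 ha' h)
      (fun x hx => (k1 y hy h2).trans (S.mu_cq h7 hu hu0 (S.pinv u) h1 h2 hx))
      fun x hx => (k1 a ha ha').trans (S.mu_cq h7 hu hu0 (S.pinv u) h3 ha' hx)
    have e2 : (B : ℚ) ≤ (Cq f u y).ncard + (Cq f u a).ncard := by
      exact_mod_cast (n1 y h1 hy0).2 a h3 ha' h
    rw [hp] at e1
    nlinarith
  obtain ⟨a, ha, hc⟩ := hc y
  have k3 : ∀ t : F, a + t • y ∉ F ∙ u := fun t h => by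
    obtain ⟨s, hs⟩ := Submodule.mem_span_singleton.1 h
    exact hc s (-t) (by rw [hs]; module)
  have e1 := k2 a ha (by simpa using k3 0)
  have e2 := k2 _ (add_mem ha hy) (by simpa using k3 1)
  have e3 := k2 _ (sub_mem ha hy) (by simpa [sub_eq_add_neg] using k3 (-1))
  rw [orth_Q_add, e1] at e2
  rw [orth_Q_sub, e1] at e3
  have h20 : (2 : F) = 0 := (mul_eq_zero.1 (show 2 * f.Q y = 0 by linear_combination e2 + e3)).resolve_right hy0
  have hq2 : Nat.card F = 2 := hq.resolve_right fun h => by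
    have := (ringChar.spec F 2).1 (by exact_mod_cast h20)
    rw [hp, h] at this
    omega
  have k4 : ∀ x ∈ Bl c f u ω, f.B x y = 0 → ∃ s t : F, s • u + t • y = x := fun x hx h => by
    by_cases h3 : x ∈ F ∙ u
    · obtain ⟨s, rfl⟩ := Submodule.mem_span_singleton.1 h3
      exact ⟨s, 0, by simp⟩
    by_cases h4 : x + y ∈ F ∙ u
    · obtain ⟨s, hs⟩ := Submodule.mem_span_singleton.1 h4
      exact ⟨s, -1, by rw [hs]; module⟩
    have := k2 _ (add_mem hx hy) h4
    rw [orth_Q_add, k2 x hx h3, h] at this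
    exact absurd (by linear_combination this) hy0
  have k5 : Nat.card (Bl c f u ω) ≤ 4 * Nat.card F := by
    refine le_trans (Set.ncard_le_ncard (s := (Bl c f u ω : Set V)) fun x hx => ?_)
      ((ncard_span_triple_le (F := F) u y a).trans (by rw [hq2]; rfl))
    by_cases h : f.B x y = 0
    · obtain ⟨s, t, e⟩ := k4 x hx h
      exact ⟨s, t, 0, by simpa using e⟩
    · have h3 : ∀ s : F, s ≠ 0 → s = 1 := fun s hs => by
        simpa [← Nat.card_eq_fintype_card, hq2] using FiniteField.pow_card_sub_one_eq_one s hs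
      obtain ⟨s, t, e⟩ := k4 _ (sub_mem hx ha) (by
        rw [B_sub_left, h3 _ h, h3 (f.B a y) fun e => hy0 (by linear_combination e2 - e), sub_self])
      exact ⟨s, t, 1, by rw [e]; module⟩
  obtain ⟨z, z1, z2, z3⟩ := exists_sing_perp S.nd (S := Submodule.span F {u, y})
    (by have := finrank_span_pair_le (F := F) u y; omega)
    fun h => let ⟨s, t, h⟩ := Submodule.mem_span_pair.1 h; hc s t h
  rw [mem_orth_pair] at z1
  obtain ⟨v, v1, w, w1, h3⟩ := exists_B_ne_perp S.nd (Submodule.span F {u, y, z})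
    (by have := finrank_span_triple_le (F := F) u y z; omega)
  rw [mem_orth_triple] at v1 w1
  have p1 := (S.pinv u).card_Bl (c := c) (· ≤ 4 * Nat.card F) hu
  have hg := fun p : F × F => isE_siegel z2 (v := p.1 • v + p.2 • w) (by simp [v1, w1])
  have e4 := S.mu_images hu hu0 p1 (mem_filter.2 ⟨hω, k5⟩) hy _ (fun i => S.ein z2 (hg i))
    (fun i => (hg i).apply_of_orth (f.B_eq_zero_symm z1.1)
      (f.B_eq_zero_symm (by simp [v1, w1])))
    (fun i => (hg i).apply_of_orth (f.B_eq_zero_symm z1.2)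
      (f.B_eq_zero_symm (by simp [v1, w1])))
    fun i j hij => by
      obtain ⟨s, t, e⟩ := k4 _ ((sp_iff (((hg j).inv z2).mul z2 (hg i))).2 hij a ha)
        (by simp [v1, w1, z1])
      have a1 := congrArg (f.B v) e
      have a2 := congrArg (f.B w) e
      simp only [B_add_right, B_sub_right, B_neg_right, oB_smul, v1, w1, orth_B_self, h20,
        f.orth_symm v w] at a1 a2
      exact Prod.ext (mul_right_cancel₀ (mul_ne_zero z3 h3) (by linear_combination -a2))
        (mul_right_cancel₀ (mul_ne_zero z3 h3) (by linear_combination -a1))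
  have e5 := class_small (c := c) hu hu0 (C := Cq f u y) (fun _ h => h.2.1) (b := 4)
    (fun ω hω => (mem_filter.1 hω).2) fun x hx => e4.trans (S.mu_cq h7 hu hu0 p1 h1 h2 hx)
  have e6 : ((Y.filter fun ω => Nat.card (Bl c f u ω) ≤ 4 * Nat.card F).card : ℚ) ≤ Y.card := by
    exact_mod_cast card_filter_le _ _
  have e7 : (3 * B : ℚ) ≤ 8 * (Cq f u y).ncard := by exact_mod_cast (n1 y h1 hy0).1 hq2
  generalize ((Y.filter fun ω => Nat.card (Bl c f u ω) ≤ 4 * Nat.card F).card : ℚ) = x at *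
  rw [Nat.card_prod, wt_orth, hq2] at e5
  push_cast at e5
  linarith

variable (c f) in
/-- the span of a block -/
def Mh (u : V) (ω : X) : Submodule F V := Submodule.span F (Bl c f u ω)

omit [Fintype F] [Finite V] in
theorem totSing_span {A : AddSubgroup V} (h : ∀ a ∈ A, f.Q a = 0) :
    f.TotSing (Submodule.span F A) := by
  have h1 : ∀ a ∈ A, ∀ b ∈ A, f.B a b = 0 := fun a ha b hb => by
    simpa [orth_Q_add, h a ha, h b hb] using h _ (A.add_mem ha hb)
  refine totSing_of_Q fun x hx => ?_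
  induction hx using Submodule.span_induction with
  | mem x hx => exact h x hx
  | zero => exact f.Q_zero
  | add x y hx hy a b =>
    rw [orth_Q_add, a, b, mem_orth.1 (Submodule.span_le.2 (fun a ha => mem_orth_span.2 (h1 a ha))
      hx) y hy]
    simp
  | smul s x _ a => rw [orth_Q_smul, a, mul_zero]

theorem fx_of_perp_Mh (hf : f.Nondeg) (hu : f.Q u = 0) (hv : v ∈ f.orth (Mh f c u ω)) :
    Fx f u v (f.Q v) ω :=
  fx_of_tau hu (tau_orth' u ω) (mem_Sb_of_Bl hf (mem_orth_span.1 hv)) (f.orth_isLam v)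

omit [Fintype F] [Finite V] in
theorem mem_Mh (h : y ∈ Bl c f u ω) : y ∈ Mh f c u ω := Submodule.subset_span h

theorem perp_Mh_symm (hf : f.Nondeg) (hu : f.Q u = 0) (hz : f.Q z = 0)
    (h : z ∈ f.orth (Mh f c u ω)) : u ∈ f.orth (Mh f c z ω) :=
  mem_orth_span.2 fun _ ha => Chr.B_eq_zero_of_mem_ann ha fun s => (Fx.smul_swap hu hz
    (h u (mem_Mh (self_mem_Bl hu))) (fun s => (fx_of_perp_Mh hf hu
      (Submodule.smul_mem _ s h)).congr rfl (by rw [orth_Q_smul, hz, mul_zero])) s).mem_Sb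

theorem orth_max (hf : f.Nondeg) (h7 : 7 ≤ finrank F V)
    (h : ∀ u, f.Q u = 0 → u ≠ 0 → (∀ a ∈ Bl c f u ω, f.Q a = 0) ∨
      ∃ y, ∀ a ∈ Bl c f u ω, ∃ s t : F, s • u + t • y = a)
    (hu : f.Q u = 0) (hu0 : u ≠ 0) (hc : ¬ Full f u ω) :
    f.TotSing (Mh f c u ω) ∧ f.orth (Mh f c u ω) = Mh f c u ω := by
  obtain ⟨a, ha, ha'⟩ : ∃ y ∈ Bl c f u ω, y ∉ F ∙ u := by
    by_contra h; push Not at h; exact hc (ofull_of_Bl_le hf hu h)
  obtain ⟨z, z1, z2, z3⟩ := exists_sing_perp hf (S := F ∙ u)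
    (by rw [finrank_span_singleton hu0]; omega) ha'
  rw [mem_orth_singleton] at z1
  have z0 : z ≠ 0 := by rintro rfl; simp at z3
  obtain ⟨w, w1, w2⟩ : ∃ w ∈ Bl c f z ω, f.B w u ≠ 0 := by
    by_contra h
    push Not at h
    exact z3 (mem_orth'.1 (perp_Mh_symm hf z2 hu (mem_orth_span.2 fun w hw =>
      f.B_eq_zero_symm (h w hw))) a (mem_Mh ha))
  have k1 : ∀ v ∈ f.orth (Mh f c u ω ⊔ F ∙ z),
      f.B w u • v - (f.B w v + f.Q v * f.B w u) • u ∈ Bl c f z ω := fun v hv => by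
    rw [orth_sup] at hv
    obtain ⟨g, hg, e⟩ := fx_of_perp_Mh hf hu hv.1
    refine (sp_iff hg).2 (fun b hb => ?_) w w1
    have := map_mem_Bl_fix e hb
    rwa [hg.apply_of_orth z1 (f.B_eq_zero_symm (mem_orth_singleton.1 hv.2))] at this
  have k2 : ∀ v ∈ f.orth (Mh f c u ω ⊔ F ∙ z), f.B v u = 0 := fun v hv =>
    hv u (Submodule.mem_sup_left (mem_Mh (self_mem_Bl hu)))
  have e1 := hf.finrank_add_orth (Mh f c u ω ⊔ F ∙ z)
  have e2 := Submodule.finrank_add_le_finrank_add_finrank (Mh f c u ω) (F ∙ z)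
  rw [finrank_span_singleton z0] at e2
  have e3 : f.TotSing (Mh f c u ω) ∨ finrank F (Mh f c u ω) ≤ 2 := (h u hu hu0).imp totSing_span
    fun ⟨y, hy⟩ => (Submodule.finrank_mono (Submodule.span_le.2 fun a ha =>
      Submodule.mem_span_pair.2 (hy a ha))).trans (finrank_span_pair_le u y)
  rcases h z z2 z0 with h1 | ⟨y, h1⟩
  · have k3 : ∀ v ∈ f.orth (Mh f c u ω ⊔ F ∙ z), f.Q v = 0 := fun v hv => by
      have := h1 _ (k1 v hv)
      rw [sub_eq_add_neg, ← neg_smul, Q_add_smul hu (by rw [B_smul_left, k2 v hv, mul_zero]),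
        orth_Q_smul] at this
      simpa [w2] using this
    have e4 := (totSing_of_Q k3).two_mul_finrank_le hf
    have e5 := e3.resolve_right (by omega)
    refine ⟨e5, le_antisymm ?_ e5.le_orth⟩
    nth_rw 2 [← hf.orth_orth (Mh f c u ω)]
    refine (totSing_of_Q fun v hv => ?_).le_orth
    have := k3 (v - (f.B v z / f.B a z) • a) (by
      rw [orth_sup]
      exact ⟨sub_mem hv (Submodule.smul_mem _ _ (e5.le_orth (mem_Mh ha))),
        mem_orth_singleton.2 (by simp [z3])⟩)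
    simpa [orth_Q_sub, orth_Q_smul, e5.1 a (mem_Mh ha), hv a (mem_Mh ha)] using this
  · have : f.orth (Mh f c u ω ⊔ F ∙ z) ≤ Submodule.span F {u, z} := fun v hv => by
      obtain ⟨s, t, e⟩ := h1 _ (k1 v hv)
      obtain ⟨s', t', rfl⟩ := h1 w w1
      have a1 := congrArg (f.B · u) e
      simp only [B_add_left, B_sub_left, B_smul_left, z1, k2 v hv, f.B_self_of_Q hu] at a1 w2
      have a2 : t = 0 := by
        by_contra h; apply w2; simp [h] at a1; simp [a1]
      rw [← Submodule.smul_mem_iff _ (show f.B (s' • z + t' • y) u ≠ 0 by simpa [z1] using w2)]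
      exact Submodule.mem_span_pair.2 ⟨_, s, by
        rw [a2, zero_smul, add_zero, eq_sub_iff_add_eq, add_comm] at e; exact e⟩
    have e4 := (Submodule.finrank_mono this).trans (finrank_span_pair_le u z)
    rcases e3 with e3 | e3
    · have := e3.two_mul_finrank_le hf; omega
    · omega

end Cfsg.Agent.MI
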