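import Cfsg.Agent.Lib.MI.O4
import Cfsg.Agent.Lib.SL2.Count

/-!
Counting vectors in orthogonal spaces.
-/

set_option autoImplicit false

namespace Cfsg.Agent.MI

open Module Cfsg.Agent.Forms Cfsg.Agent.Forms.Form Cfsg.Agent.Cls Cfsg.Agent.Deg Finset

variable {F : Type*} [Field F] [Fintype F]

open Classical in
theorem card_plus (m : ℕ) (t : F) : (Nat.card {v // quadFormPlus (m + 1) F v = t} : ℤ) =
    (Nat.card F ^ (m + 1) - 1) * Nat.card F ^ m + if t = 0 then (Nat.card F : ℤ) ^ (m + 1) else 0 := by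
  rw [Nat.card_congr (((Equiv.sumArrowEquivProdArrow _ _ F).subtypeEquiv
    (p := fun v => quadFormPlus (m + 1) F v = t)
    (q := fun p => p.1 ⬝ᵥ p.2 = t) fun v => Iff.rfl).trans
      (Equiv.subtypeProdEquivSigmaSubtype fun a b => a ⬝ᵥ b = t)), Nat.card_sigma,
    ← add_sum_erase _ _ (mem_univ 0), sum_congr rfl (g := fun _ => Nat.card F ^ m), sum_const,
    card_erase_of_mem (mem_univ _), card_univ, Fintype.card_fun, Fintype.card_fin,
    ← Nat.card_eq_fintype_card, add_comm, smul_eq_mul]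
  · have : 1 ≤ Nat.card F ^ (m + 1) := Nat.one_le_pow _ _ Nat.card_pos
    push_cast [this]
    congr 1
    split_ifs with h
    · simp [h]
    · simp [Ne.symm h]
  · intro x hx
    simpa using card_fiber_dual (dotProductBilin F F x) (fun e => (mem_erase.1 hx).1
      (dotProduct_eq_zero_iff.1 fun w => LinearMap.congr_fun e w)) t

theorem card_plus_add {Z : Type*} [Finite Z] (m : ℕ) (g : Z → F) (c : F) :
    (Nat.card {p : Z × (Fin (m + 1) ⊕ Fin (m + 1) → F) // g p.1 + quadFormPlus (m + 1) F p.2 = c} :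
      ℤ) = (Nat.card F ^ (m + 1) - 1) * Nat.card F ^ m * Nat.card Z +
        Nat.card F ^ (m + 1) * Nat.card {z // g z = c} := by
  classical
  have := Fintype.ofFinite Z
  rw [Nat.card_congr (Equiv.subtypeProdEquivSigmaSubtype
    fun a b => g a + quadFormPlus (m + 1) F b = c), Nat.card_sigma, Nat.cast_sum]
  simp only [← eq_sub_iff_add_eq', card_plus, sub_eq_zero, sum_add_distrib, sum_const, card_univ,
    ← sum_filter, nsmul_eq_mul]
  rw [Nat.card_eq_fintype_card (α := Z), Nat.card_eq_fintype_card (α := {z // g z = c}),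
    Fintype.card_subtype]
  simp only [eq_comm (a := c)]
  ring

theorem card_odd (m : ℕ) (c : F) : (Nat.card {v // quadFormOdd (m + 1) F v = c} : ℤ) =
    (Nat.card F ^ (m + 1) - 1) * Nat.card F ^ (m + 1) +
      Nat.card F ^ (m + 1) * Nat.card {z : F // z ^ 2 = c} := by
  rw [Nat.card_congr (((Equiv.sumArrowEquivProdArrow _ _ F).trans
    ((Equiv.funUnique Unit F).prodCongr (Equiv.refl _))).subtypeEquiv
    (p := fun v => quadFormOdd (m + 1) F v = c)
    (q := fun p => p.1 ^ 2 + quadFormPlus (m + 1) F p.2 = c) fun v => Iff.rfl),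
    card_plus_add m (fun z : F => z ^ 2)]
  ring

theorem card_minus (m : ℕ) (a b c : F) : (Nat.card {v // quadFormMinus (m + 1) F a b v = c} : ℤ) =
    (Nat.card F ^ (m + 1) - 1) * Nat.card F ^ (m + 2) +
      Nat.card F ^ (m + 1) * Nat.card {p : F × F // SL2.nf a b p.1 p.2 = c} := by
  rw [Nat.card_congr (((Equiv.sumArrowEquivProdArrow _ _ F).trans ((Equiv.prodComm _ _).trans
    ((finTwoArrowEquiv F).prodCongr (Equiv.refl _)))).subtypeEquiv
    (q := fun p => SL2.nf a b p.1.1 p.1.2 + quadFormPlus (m + 1) F p.2 = c)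
    (p := fun v => quadFormMinus (m + 1) F a b v = c)
    fun v => by rw [add_comm (SL2.nf _ _ _ _)]; exact Iff.rfl), card_plus_add m (fun p : F × F => SL2.nf a b p.1 p.2),
    Nat.card_prod]
  push_cast
  ring

theorem card_minus_zero (m : ℕ) {a b : F}
    (hab : ∀ z₁ z₂ : F, z₁ ^ 2 + a * z₁ * z₂ + b * z₂ ^ 2 = 0 → z₁ = 0 ∧ z₂ = 0) :
    (Nat.card {v // quadFormMinus (m + 1) F a b v = 0} : ℤ) =
      (Nat.card F ^ (m + 1) - 1) * Nat.card F ^ (m + 2) + Nat.card F ^ (m + 1) := by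
  rw [card_minus, Nat.card_eq_one_iff_exists.2 ⟨⟨(0, 0), by simp [SL2.nf]⟩, fun p =>
    Subtype.ext (Prod.ext (hab _ _ p.2).1 (hab _ _ p.2).2)⟩]
  simp

theorem card_minus_ne (m : ℕ) {a b : F}
    (hab : ∀ z₁ z₂ : F, z₁ ^ 2 + a * z₁ * z₂ + b * z₂ ^ 2 = 0 → z₁ = 0 ∧ z₂ = 0) {c : F}
    (hc : c ≠ 0) : (Nat.card {v // quadFormMinus (m + 1) F a b v = c} : ℤ) =
      Nat.card F ^ (2 * m + 3) + Nat.card F ^ (m + 1) := by
  rw [card_minus, SL2.card_nf_eq_noRoot (fun x hx => by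
    simpa using (hab x (-1) (by linear_combination hx)).2) hc]
  push_cast
  ring

variable {V : Type*} [AddCommGroup V] [Module F V] {f : Form (Param.orth F) V} [Finite V]
  {u y : V}

theorem card_perp_Q (hf : f.Nondeg) (hu : f.Q u = 0) (hu0 : u ≠ 0) {k : ℕ}
    (hk : finrank F V = k + 2) (c : F) :
    {y | f.B y u = 0 ∧ f.Q y = c}.ncard + (Nat.card F - 1) * Nat.card F ^ k =
      Nat.card {v // f.Q v = c} := by
  obtain ⟨e, he⟩ := hf.exists_hypPair hu hu0
  have hb : f.B e u = 1 := he.Beu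
  have h1 : {v | f.Q v = c} = {y | f.B y u = 0 ∧ f.Q y = c} ∪
      (fun p : Fˣ × f.orth (Submodule.span F {u, e}) =>
        ((c - f.Q p.2) / p.1) • u + (p.1 : F) • e + p.2.1) '' Set.univ := by
    ext v
    constructor
    · intro h
      obtain ⟨a, b, x, h1, h2, rfl⟩ := he.exists_decomp v
      by_cases h0 : b = 0
      · exact Or.inl ⟨by simp [h0, he.Buu, h1], h⟩
      · refine Or.inr ⟨(Units.mk0 b h0, ⟨x, mem_orth_pair.2 ⟨h1, h2⟩⟩), trivial, ?_⟩
        rw [Set.mem_ofPred_eq, he.Q_decomp _ _ h1 h2] at h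
        simp [← h, h0]
    · rintro (h | ⟨⟨b, x⟩, -, rfl⟩)
      · exact h.2
      · rw [Set.mem_ofPred_eq, he.Q_decomp _ _ (mem_orth_pair.1 x.2).1 (mem_orth_pair.1 x.2).2]
        simp
  rw [show Nat.card {v // f.Q v = c} = {v | f.Q v = c}.ncard from rfl, h1, Set.ncard_union_eq,
    Set.ncard_image_of_injective, Set.ncard_univ, Nat.card_prod, Nat.card_units,
    Module.natCard_eq_pow_finrank (K := F) (V := f.orth _),
    show finrank F (f.orth (Submodule.span F {u, e})) = k by have := he.finrank_orth hf; omega]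
  · rintro ⟨b, x⟩ ⟨b', x'⟩ h
    have h2 : b = b' := Units.ext (by simpa [he.Buu, hb, (mem_orth_pair.1 x.2).1,
      (mem_orth_pair.1 x'.2).1] using congrArg (f.B · u) h)
    subst h2
    have h3 : (c - f.Q x) / b = (c - f.Q x') / b := by simpa [he.Bue, he.Bee,
      (mem_orth_pair.1 x.2).2, (mem_orth_pair.1 x'.2).2] using congrArg (f.B · e) h
    simp only [h3, add_right_inj] at h
    exact Prod.ext rfl (Subtype.ext h)
  · rw [Set.disjoint_left]
    rintro _ h ⟨⟨b, x⟩, -, rfl⟩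
    simpa [he.Buu, hb, (mem_orth_pair.1 x.2).1] using h.1

theorem card_hyp_orth (hf : f.Nondeg) (hu : f.Q u = 0) (hu0 : u ≠ 0) {k : ℕ}
    (hk : finrank F V = k + 2) : {e | f.HypPair u e}.ncard = Nat.card F ^ k := by
  obtain ⟨c⟩ := exists_chr_orth F
  have := card_hyp c hf hu hu0
  rw [card_perp_pow hf hu0 hk, Lam_orth, AddSubgroup.card_bot, mul_one, pow_succ] at this
  exact Nat.eq_of_mul_eq_mul_right Nat.card_pos this

theorem card_Cq_ge (hu : f.Q u = 0) (hy : f.Q y ≠ 0) :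
    (Nat.card F - 1) * {x | f.B x u = 0 ∧ f.Q x = f.Q y}.ncard ≤ 2 * (Cq f u y).ncard := by
  classical
  have := Fintype.ofFinite V
  rw [← Nat.card_units, Set.ncard_eq_toFinset_card, Set.ncard_eq_toFinset_card (Cq f u y),
    Nat.card_eq_fintype_card, ← card_univ, ← card_product]
  refine card_le_mul_card_image_of_maps_to (f := fun p => (p.1 : F)⁻¹ • p.2) (fun p hp => ?_) 2
    fun x hx => ?_
  · simp only [mem_product, Set.Finite.mem_toFinset, Set.mem_ofPred_eq] at hp ⊢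
    have h1 : f.Q y = p.1 * p.1 * f.Q ((p.1 : F)⁻¹ • p.2) := by
      rw [orth_Q_smul, hp.2.2]; field_simp
    exact ⟨by simp [hp.2.1], not_mem_span_of_Q hu fun e => hy (by rw [h1, e, mul_zero]), _,
      p.1.ne_zero, h1⟩
  · obtain ⟨-, -, a, ha, e⟩ := (Set.Finite.mem_toFinset _).1 hx
    refine le_trans (card_le_card_of_injOn (t := {a, -a}) (fun p => (p.1 : F)) (fun p hp => ?_)
      fun p hp p' hp' h => ?_) card_le_two
    · simp only [coe_filter, mem_product, Set.Finite.mem_toFinset, Set.mem_ofPred_eq] at hp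
      have h1 : f.Q y = p.1 * p.1 * f.Q x := by rw [← hp.2, orth_Q_smul, hp.1.2.2]; field_simp
      have h2 : f.Q x ≠ 0 := fun h => hy (by rw [e, h, mul_zero])
      simpa using mul_self_eq_mul_self_iff.1 (mul_right_cancel₀ h2 (h1.symm.trans e))
    · simp only [coe_filter, Set.mem_ofPred_eq] at hp hp'
      have h1 : p.1 = p'.1 := Units.ext h
      exact Prod.ext h1 (smul_right_injective V (inv_ne_zero p.1.ne_zero)
        (hp.2.trans (h1 ▸ hp'.2.symm)))

theorem Cq_eq_Cn (h2 : (2 : F) = 0) (hu : f.Q u = 0) (hy : f.Q y ≠ 0) : Cq f u y = Cn f u := by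
  ext x
  refine ⟨fun ⟨h1, _, a, _, e⟩ => ⟨h1, fun h => hy (by rw [e, h, mul_zero])⟩, fun h => ?_⟩
  obtain ⟨a, ha⟩ := isSquare_of_two_eq_zero h2 (f.Q y / f.Q x)
  exact ⟨h.1, not_mem_span_of_Q hu h.2, a, by rintro rfl; simp [hy, h.2] at ha,
    by rw [← ha, div_mul_cancel₀ _ h.2]⟩

theorem card_Cs_add (hu : f.Q u = 0) (hu0 : u ≠ 0) :
    (Cs f u).ncard + Nat.card F = {y | f.B y u = 0 ∧ f.Q y = 0}.ncard := by
  rw [← ncard_span (F := F) hu0, ← Set.ncard_union_eq (Set.disjoint_left.2 fun _ h => h.2.2)]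
  congr 1
  ext x
  constructor
  · rintro (h | h)
    · exact ⟨h.1, h.2.1⟩
    · obtain ⟨s, rfl⟩ := Submodule.mem_span_singleton.1 h
      exact ⟨by simp [f.B_self_of_Q hu], by simp [orth_Q_smul, hu]⟩
  · exact fun h => (em (x ∈ F ∙ u)).elim Or.inr fun e => Or.inl ⟨h.1, h.2, e⟩

end Cfsg.Agent.MI
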