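import Cfsg.Agent.Lib.MI.O6
import Cfsg.Agent.Lib.Forms.Spinor
import Cfsg.Agent.Lib.Forms.OrthTwo

/-!
Small transitive actions of orthogonal groups.
-/

set_option autoImplicit false

namespace Cfsg.Agent.MI

open Module Cfsg.Agent.Forms Cfsg.Agent.Forms.Form Cfsg.Agent.Cls Cfsg.Agent.Deg Finset

variable {F : Type*} [Field F] {V : Type*} [AddCommGroup V] [Module F V]
  {f : Form (Param.orth F) V} [Fintype F] [Finite V] {u y z v : V}
  {X : Type*} [MulAction f.Isom X] {c : Chr (Param.orth F)} {ω : X} {Y Y' : Finset X}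

/-- numerical conditions -/
structure ONum (F : Type*) [Field F] (q R n₀ nm B : ℤ) : Prop where
  h6 : (q - 1) * B ≤ n₀ + (q - 1) * R - 1
  h7 : B ≤ 2 * R
  odd : (2 : F) ≠ 0 → 2 * B ≤ nm + 2 * R ∧ (q = 3 → B ≤ 2 * nm ∧ B ≤ nm + n₀ - 3) ∧
    (q = 5 → 2 * B ≤ 4 * nm) ∧ (7 ≤ q → 2 * q * B ≤ 3 * ((q - 1) * nm))
  even : (2 : F) = 0 → (q - 1) * B ≤ q * R - n₀ + (q - 1) * R ∧
    (q = 2 → B ≤ 2 * R - 2 ∧ 3 * B ≤ 8 * (2 * R - n₀)) ∧ (4 ≤ q → q * B ≤ 2 * (q * R - n₀))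

theorem even_card (h2 : (2 : F) = 0) : Even (Nat.card F) := by
  by_contra h
  exact two_ne_zero_of_odd (by rwa [← Nat.card_eq_fintype_card, ← Nat.not_even_iff_odd]) h2

theorem Sys.orth_small (S : Sys f (commutator f.Isom) Y) {k : ℕ} (hk : finrank F V = k + 2)
    (h5 : 5 ≤ k) {B : ℕ} (hB : Y.card < B) {n₀ nm : ℤ}
    (h0 : (Nat.card {v // f.Q v = 0} : ℤ) = n₀ + (Nat.card F - 1) * Nat.card F ^ k)
    (hm : ∀ c, c ≠ 0 → nm + (Nat.card F - 1) * Nat.card F ^ k ≤ Nat.card {v // f.Q v = c})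
    (N : ONum F (Nat.card F) (Nat.card F ^ k) n₀ nm B) (hω : ω ∈ Y) (hu : f.Q u = 0)
    (hu0 : u ≠ 0) (hc : ¬ Full f u ω) :
    f.TotSing (Mh f c u ω) ∧ f.orth (Mh f c u ω) = Mh f c u ω := by
  have h1 : 1 < Nat.card F := Finite.one_lt_card
  have h1' : (1 : ℤ) < Nat.card F := by exact_mod_cast h1
  have e1 : ∀ u, f.Q u = 0 → u ≠ 0 → ((Cs f u).ncard : ℤ) = n₀ - Nat.card F := fun u hu hu0 => by
    have a1 := card_perp_Q S.nd hu hu0 hk 0
    rw [← card_Cs_add hu hu0] at a1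
    zify [h1.le] at a1
    linarith
  have e2 : ∀ u, f.Q u = 0 → u ≠ 0 → ∀ y, f.Q y ≠ 0 →
      (Nat.card F - 1) * nm ≤ 2 * (Cq f u y).ncard := fun u hu hu0 y hy => by
    have a1 := card_perp_Q S.nd hu hu0 hk (f.Q y)
    have a2 := card_Cq_ge hu hy
    have a3 := hm _ hy
    zify [h1.le] at a1 a2
    exact le_trans (by gcongr; linarith) a2
  have e3 : (2 : F) = 0 → ∀ u, f.Q u = 0 → u ≠ 0 → ∀ y, f.Q y ≠ 0 →
      ((Cq f u y).ncard : ℤ) = Nat.card F * Nat.card F ^ k - n₀ := fun h2 u hu hu0 y hy => by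
    have a1 := card_perp_eq hu hu0
    rw [card_perp_pow S.nd hu0 hk] at a1
    zify at a1
    rw [Cq_eq_Cn h2 hu hy]
    linear_combination -a1 - e1 u hu hu0
  have e4 := fun u (hu : f.Q u = 0) hu0 => card_hyp_orth S.nd hu hu0 hk
  have e5 : ∀ ω ∈ Y, ∀ u, f.Q u = 0 → u ≠ 0 → ¬ Reg f u ω := fun ω hω u hu hu0 =>
    S.orth_no_reg (by omega) hB (fun u hu hu0 y _ hy => by
      rw [e4 u hu hu0]
      zify [h1.le]
      by_cases h2 : (2 : F) = 0
      · rw [e3 h2 u hu hu0 y hy]; exact (N.even h2).1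
      · have := e2 u hu hu0 y hy
        have := mul_le_mul_of_nonneg_left (N.odd h2).1 (sub_nonneg.2 h1'.le)
        linarith) (by
      have := ncard_sing_add_one f
      have := N.h6
      zify [h1.le] at *
      linarith) (fun u hu hu0 => by rw [e4 u hu hu0]; exact_mod_cast N.h7) hω hu hu0
  refine orth_max S.nd (by omega) (fun u hu hu0 => S.orth_good (by omega) hB hu hu0 ?_ hω
    (e5 ω hω u hu hu0)) hu hu0 hc
  by_cases h2 : (2 : F) = 0
  · obtain ⟨-, a1, a2⟩ := N.even h2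
    by_cases hq : Nat.card F = 2
    · refine Or.inr ⟨Or.inl hq, fun y _ hy => ⟨fun _ => ?_, fun y' b1 b2 b3 => ?_⟩⟩
      · zify
        rw [e3 h2 u hu hu0 y hy]
        rw [hq] at a1 ⊢
        exact (a1 rfl).2
      · rw [Cq_eq_Cn h2 hu hy] at b3
        zify
        rw [e3 h2 u hu hu0 y hy, Cq_eq_Cs (by_contra fun h => b3 ⟨b1, h⟩), e1 u hu hu0]
        rw [hq] at a1 ⊢
        have := (a1 rfl).1
        push_cast at this ⊢
        linarith
    · refine Or.inl fun y _ hy => le_trans ?_ (Nat.mul_le_mul_right _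
        (CharP.char_is_prime F (ringChar F)).two_le)
      have := even_card h2
      have := a2 (by rw [Nat.even_iff] at this; omega)
      zify
      rw [e3 h2 u hu hu0 y hy]
      linarith
  · obtain ⟨-, a1, a2, a3⟩ := N.odd h2
    have hodd := odd_card h2
    rw [← Nat.card_eq_fintype_card, Nat.odd_iff] at hodd
    by_cases hq : Nat.card F = 3
    · refine Or.inr ⟨Or.inr hq, fun y _ hy => ⟨fun h => by omega, fun y' b1 b2 b3 => ?_⟩⟩
      have b4 := e2 u hu hu0 y hy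
      have b5 := e2 u hu hu0 y'
      have b6 := e1 u hu hu0
      rw [hq] at a1 b4 b5 b6
      obtain ⟨a1, a4⟩ := a1 rfl
      zify
      push_cast at b4 b5 b6
      by_cases h : f.Q y' = 0
      · rw [Cq_eq_Cs h]; linarith
      · linarith [b5 h]
    refine Or.inl fun y _ hy => ?_
    have b4 := e2 u hu hu0 y hy
    by_cases hq5 : Nat.card F = 5
    · rw [ringChar_eq_of_card Nat.prime_five hq5]
      rw [hq5] at a2 b4 ⊢
      have := a2 rfl
      zify
      push_cast at b4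
      linarith
    · have : 3 ≤ ringChar F := by
        have := (CharP.char_is_prime F (ringChar F)).two_le
        have := ringChar_ne_two h2
        omega
      refine le_trans ?_ (Nat.mul_le_mul_right _ this)
      have := a3 (by omega)
      zify
      linarith

theorem omega_index_ge (hf : f.Nondeg) {k : ℕ} (hk : finrank F V = k + 2)
    (h5 : 5 ≤ k) {B : ℕ} {n₀ nm : ℤ}
    (h0 : (Nat.card {v // f.Q v = 0} : ℤ) = n₀ + (Nat.card F - 1) * Nat.card F ^ k)
    (hm : ∀ c, c ≠ 0 → nm + (Nat.card F - 1) * Nat.card F ^ k ≤ Nat.card {v // f.Q v = c})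
    (N : ONum F (Nat.card F) (Nat.card F ^ k) n₀ nm B)
    (hno : ∀ M, f.TotSing M → 2 * finrank F M ≠ finrank F V)
    (H : Subgroup (commutator f.Isom)) (hH : H ≠ ⊤) : B ≤ H.index := by
  obtain ⟨Y, S, e⟩ := exists_sys hf (orth_big hf (by omega)) (isE_mem_comm hf (by omega))
    (orth_gen hf (by omega)) H hH
  rw [← e]
  by_contra hB
  obtain ⟨c⟩ := exists_chr_orth F
  obtain ⟨ω, hω⟩ := S.ne
  obtain ⟨u, hu, hu0, hc⟩ := S.proper ω hω
  obtain ⟨h1, h2⟩ := S.orth_small (c := c) hk h5 (not_le.1 hB) h0 hm N hω hu hu0 hc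
  have := hf.finrank_add_orth (Mh f c u ω)
  rw [h2] at this
  exact hno _ h1 (by omega)

theorem omega_index_sing (hf : f.Nondeg) (h5 : 5 ≤ finrank F V) :
    ∃ H : Subgroup (commutator f.Isom), Subgroup.center _ ≤ H ∧
      (H.index : ℤ) * (Nat.card F - 1) = Nat.card {v // f.Q v = 0} - 1 := by
  obtain ⟨u, hu0, hu⟩ := hf.orth_exists_singular (by omega)
  obtain ⟨H, e1, e2⟩ := exists_index_sing hf (orth_big hf (by omega)) (by omega)
    (isE_mem_comm hf h5) hu hu0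
  have h1 : 1 < Nat.card F := Finite.one_lt_card
  have := ncard_sing_add_one f
  zify [h1.le] at e2 this
  exact ⟨H, e1, by linarith⟩

theorem omega_index_Q (hf : f.Nondeg) (h5 : 5 ≤ finrank F V)
    (hq : Nat.card F = 2 ∨ Nat.card F = 3) {c : F} (hc : c ≠ 0) :
    ∃ H : Subgroup (commutator f.Isom), Subgroup.center _ ≤ H ∧
      H.index * (Nat.card F - 1) = Nat.card {v // f.Q v = c} := by
  obtain ⟨x, hx⟩ := hf.orth_exists_Q_eq (by omega) c
  have h0 : ∀ x, f.Q x = c → x ≠ 0 := by rintro _ h rfl; exact hc (h.symm.trans f.Q_zero)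
  obtain ⟨H, e1, e2⟩ := exists_index (commutator f.Isom) (C := {w | f.Q w = c}) (h0 x hx)
    (fun g _ a ha => by
      rw [Set.mem_ofPred_eq, orth_Q_smul, mul_self_eq_one_of_card hq ha, Isom.map_Q, hx, one_mul])
    fun w hw => by
      obtain ⟨g, hg⟩ := hf.witt_one (h0 x hx) (h0 w hw) (by rw [orth_B_self, orth_B_self, hx, hw])
        (hx.trans hw.symm)
      obtain ⟨g', h1, h2⟩ := exists_om_fix' hf h5 (S := F ∙ x)
        (by rw [finrank_span_singleton (h0 x hx)]; omega) g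
      exact ⟨g', h1, 1, one_ne_zero, by
        rw [h2 x (Submodule.mem_span_singleton_self x), hg, one_smul]⟩
  refine ⟨H, fun z hz => e1 z ?_, e2⟩
  obtain ⟨u, hu0, hu⟩ := hf.orth_exists_singular (by omega)
  obtain ⟨e, he⟩ := hf.exists_hypPair hu hu0
  obtain ⟨s, hs⟩ := scalar_of_fix_singular he
    (orth_big hf (by omega) u e hu he.Qe (by rw [he.Bue]; exact one_ne_zero)) z.1 fun w hw =>
      let ⟨s, hs⟩ := Submodule.mem_span_singleton.1
        (center_fix_sing hf (by omega) (isE_mem_comm hf h5) hz hw)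
      ⟨s, hs.symm⟩
  exact Submodule.mem_span_singleton.2 ⟨s, (hs x).symm⟩

theorem odd_counts (m : ℕ) :
    (Nat.card {v // (oddForm (m + 1) F).Q v = 0} : ℤ) = Nat.card F * (Nat.card F ^ m) ^ 2 +
      (Nat.card F - 1) * Nat.card F ^ (2 * m + 1) ∧ ∀ c, c ≠ 0 →
      (Nat.card F * (Nat.card F ^ m) ^ 2 - Nat.card F * Nat.card F ^ m : ℤ) +
        (Nat.card F - 1) * Nat.card F ^ (2 * m + 1) ≤ Nat.card {v // (oddForm (m + 1) F).Q v = c} := by
  refine ⟨?_, fun c _ => ?_⟩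
  · rw [oddForm_Q, card_odd, Nat.card_eq_one_iff_exists.2 ⟨⟨0, by simp⟩, fun p =>
      Subtype.ext (pow_eq_zero_iff two_ne_zero |>.1 p.2)⟩]
    push_cast; ring
  · rw [oddForm_Q, card_odd]
    exact le_add_of_le_of_nonneg (le_of_eq (by ring)) (by positivity)

end Cfsg.Agent.MI
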