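import Cfsg.Agent.Lib.MI.O7

/-!
Small transitive actions of orthogonal groups of plus type.
-/

set_option autoImplicit false

namespace Cfsg.Agent.MI

open Module Cfsg.Agent.Forms Cfsg.Agent.Forms.Form Cfsg.Agent.Cls Cfsg.Agent.Deg Finset

variable {F : Type*} [Field F] {V : Type*} [AddCommGroup V] [Module F V]
  {f : Form (Param.orth F) V} {u y z v : V}
  {X : Type*} [MulAction f.Isom X] {c : Chr (Param.orth F)} {ω : X} {Y Y' : Finset X}

theorem oE_eq {g g' : f.Isom} {l l' : F} (h : IsE g u v l) (h' : IsE g' u v l') : g = g' :=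
  h.eq (h'.congr rfl ((f.orth_isLam_iff.1 h'.lam).trans (f.orth_isLam_iff.1 h.lam).symm))

theorem map_mem_Mh {k : f.Isom} (hk : k.1 u = u) (h : y ∈ Mh f c u ω) :
    k.1 y ∈ Mh f c u (k • ω) :=
  (Submodule.span_le (s := (Bl c f u ω : Set V))
    (p := (Mh f c u (k • ω)).comap (k.1 : V →ₗ[F] V))).2
    (fun _ ha => mem_Mh (c := c) (mem_Bl_fix hk ha)) h

theorem SO.Mh_eq (hu : f.Q u = 0) {ω' : X} (h : SO f u ω ω') : Mh f c u ω = Mh f c u ω' := by
  rw [Mh, Mh, h.Bl_eq hu]

variable [Fintype F] [Finite V]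

theorem exists_not_mem_of_finrank {S T : Submodule F V} (h : finrank F T < finrank F S) :
    ∃ x ∈ S, x ∉ T := by
  by_contra hc
  push Not at hc
  exact (Submodule.finrank_mono hc).not_gt h

theorem eq_of_le_max (hf : f.Nondeg) {M M' : Submodule F V} (h : f.orth M = M)
    (h' : f.orth M' = M') (e : M ≤ M') : M' = M :=
  le_antisymm (by rw [← h, ← h']; exact f.orth_le e) e

theorem finrank_max (hf : f.Nondeg) {M : Submodule F V} (h : f.orth M = M) {m : ℕ}
    (hm : finrank F V = 2 * m) : finrank F M = m := by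
  have := hf.finrank_add_orth M
  rw [h] at this
  omega

theorem Sys.mu_ge_plus (S : Sys f (commutator f.Isom) Y) {j : ℕ} (hj : finrank F V = 2 * (j + 4))
    (hu : f.Q u = 0) (hu0 : u ≠ 0) (hY : PInv f (commutator f.Isom) u Y') (hω : ω ∈ Y')
    (hy : y ∈ Bl c f u ω) (hy' : y ∉ F ∙ u) (h1 : f.TotSing (Mh f c u ω))
    (h2 : f.orth (Mh f c u ω) = Mh f c u ω) :
    (Nat.card F ^ (j + 1) + 1 : ℚ) ≤ mu c f u Y' y ∧ ∀ ω' ∈ Y', y ∈ Bl c f u ω' →
      Mh f c u ω' = Mh f c u ω → ¬ SO f u ω ω' → (Nat.card F ^ (j + 1) + 2 : ℚ) ≤ mu c f u Y' y := by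
  have e0 := finrank_max S.nd h2 hj
  have mu' := mem_Mh (self_mem_Bl (c := c) (ω := ω) hu)
  have my := mem_Mh hy
  obtain ⟨x, x1, x2⟩ := exists_not_mem_of_finrank (S := Mh f c u ω) (T := Submodule.span F {u, y})
    (by have := finrank_span_pair_le (F := F) u y; omega)
  have x3 : ∀ h ∈ Submodule.span F {u, y}, f.B h x = 0 := fun h hh => h1.2 h
    (Submodule.span_le.2 (Set.pair_subset mu' my) hh) x x1
  obtain ⟨x', x4, x5⟩ := S.nd.exists_hypPair_orth (h1.1 x x1) x2 x3
  have x6 := x5 u (Submodule.subset_span (by simp))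
  have x7 := x5 y (Submodule.subset_span (by simp))
  obtain ⟨g, -, g1, g2⟩ := S.nd.witt_step f.containsElem_top (Submodule.span F {u, y}) x2 (y := x')
    (fun h => by simpa [x4.Beu] using x3 x' h) (fun h hh => by rw [x3 h hh, x5 h hh])
    (by rw [x4.Buu, x4.Bee]) (by rw [x4.Qu, x4.Qe])
  obtain ⟨g', g3, g4⟩ := exists_om_fix' S.nd (by omega) (S := Submodule.span F {u, y, x})
    (by have := finrank_span_triple_le (F := F) u y x; omega) g
  have g5 : g'.1 u = u := by
    rw [g4 u (Submodule.subset_span (by simp)), g1 u (Submodule.subset_span (by simp))]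
  have g6 : g'.1 y = y := by
    rw [g4 y (Submodule.subset_span (by simp)), g1 y (Submodule.subset_span (by simp))]
  have g7 : g'.1 x = x' := by rw [g4 x (Submodule.subset_span (by simp)), g2]
  let D := f.orth (Submodule.span F {u, y, x'})
  let T := (Mh f c u ω ⊔ F ∙ x') ⊓ f.orth (F ∙ x')
  obtain ⟨N, hN⟩ := Submodule.exists_isCompl (T.comap D.subtype)
  have e1 : j + 1 ≤ finrank F N := by
    have a1 := Submodule.finrank_add_eq_of_isCompl hN
    have a2 := S.nd.finrank_add_orth (Submodule.span F {u, y, x'})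
    have a3 := finrank_span_triple_le (F := F) u y x'
    have a4 : finrank F (T.comap D.subtype) ≤ finrank F T := by
      rw [← Submodule.finrank_map_subtype_eq]
      exact Submodule.finrank_mono (Submodule.map_comap_le _ _)
    have a5 := f.finrank_inf_orth_singleton (S := Mh f c u ω ⊔ F ∙ x') (a := x') fun h => by
      simpa [x4.Bue] using mem_orth_singleton.1 (h (Submodule.mem_sup_left x1))
    have a6 := Submodule.finrank_add_le_finrank_add_finrank (Mh f c u ω) (F ∙ x')
    rw [finrank_span_singleton x4.e_ne_zero] at a6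
    change _ + _ = finrank F (f.orth _) at a1
    simp only [T] at a1 a4
    omega
  have hv := fun v : N => mem_orth_triple.1 v.1.2
  have hg := fun v : N => isE_siegel x4.Qe (hv v).2.2
  let k : Option N → f.Isom := fun i => i.elim g' fun v => f.siegel x' v x4.Qe (hv v).2.2
  have k1 : ∀ i, k i ∈ commutator f.Isom := by
    rintro (_ | v); exacts [g3, S.ein x4.Qe (hg v)]
  have k2 : ∀ i, (k i).1 u = u := by
    rintro (_ | v); exacts [g5, (hg v).apply_of_orth x6 (f.B_eq_zero_symm (hv v).1)]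
  have k3 : ∀ i, (k i).1 y = y := by
    rintro (_ | v); exacts [g6, (hg v).apply_of_orth x7 (f.B_eq_zero_symm (hv v).2.1)]
  have k4 : ∀ i j, (k j)⁻¹.1 ((k i).1 x) ∈ Mh f c u ω → i = j := by
    rintro (_ | v) (_ | w) h
    · rfl
    · have := h1.2 _ h x x1
      rw [← Isom.B_right] at this
      change f.B (g'.1 x) ((f.siegel x' w x4.Qe (hv w).2.2).1 x) = 0 at this
      rw [g7, orth_symm, (hg w).B_apply x4.Qe, x4.Bue] at this
      exact absurd this one_ne_zero
    · have := h1.2 _ h x x1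
      rw [← Isom.B_right] at this
      change f.B ((f.siegel x' v x4.Qe (hv v).2.2).1 x) (g'.1 x) = 0 at this
      rw [g7, (hg v).B_apply x4.Qe, x4.Bue] at this
      exact absurd this one_ne_zero
    · have a1 := ((hg w).inv x4.Qe).mul x4.Qe (hg v)
      have a2 := oE_app a1 x
      rw [Isom.mul_apply, x4.Bue, one_smul] at a2
      have a3 := sub_mem h x1
      change (f.siegel x' w x4.Qe (hv w).2.2)⁻¹.1 ((f.siegel x' v x4.Qe (hv v).2.2).1 x) - x ∈ _ at a3
      rw [a2, add_sub_cancel_left] at a3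
      have a4 : (v - w).1 ∈ T.comap D.subtype := ⟨by
        have := add_mem (Submodule.mem_sup_left (T := F ∙ x') a3) (Submodule.mem_sup_right
          (Submodule.smul_mem _ (f.B x (-w.1.1 + v.1.1) + f.Q (-w.1.1 + v.1.1) * 1)
            (Submodule.mem_span_singleton_self x')))
        rw [sub_add_cancel, neg_add_eq_sub] at this
        exact this, mem_orth_singleton.2 (hv (v - w)).2.2⟩
      exact congrArg some (sub_eq_zero.1 (Subtype.ext
        ((Submodule.disjoint_def.1 hN.disjoint) _ a4 (v - w).2)))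
  have k5 : ∀ i, (k i).1 u = (1 : F) • u := fun i => by rw [k2, one_smul]
  have k6 : ∀ i j, Mh f c u (k i • ω) = Mh f c u (k j • ω) → i = j := fun i j h => k4 i j (by
    have := map_mem_Mh (k := (k j)⁻¹) (by nth_rw 1 [← k2 j]; rw [Isom.inv_apply])
      (h ▸ map_mem_Mh (k2 i) x1)
    rwa [inv_smul_smul] at this)
  have k7 : k (some 0) • ω = ω := by
    rw [show k (some 0) = 1 from f.siegel_zero _ _ _, one_smul]
  have e2 : (Nat.card F ^ (j + 1) : ℚ) ≤ Nat.card N := by
    rw [Module.natCard_eq_pow_finrank (K := F) (V := N)]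
    exact_mod_cast Nat.pow_le_pow_right Nat.card_pos e1
  have k8 := fun i => hY _ (k1 i) 1 one_ne_zero (k5 i) ω hω
  have k9 : ∀ i, y ∈ Bl c f u (k i • ω) := fun i => k3 i ▸ mem_Bl_fix (k2 i) hy
  refine ⟨?_, fun ω' a1 a2 a3 a4 => ?_⟩
  · have := mu_ge_family S.nd hu hu0 (S.cl hu hY) (fun i => k i • ω) k8 k9
      (fun i j h => k6 i j (h.Mh_eq hu)) (w := 1) fun i => wt_pos _ _
    rw [Finite.card_option] at this
    push_cast at this
    linarith
  · have := mu_ge_family (c := c) (y := y) S.nd hu hu0 (S.cl hu hY)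
      (fun i : Option (Option N) => i.elim ω' fun i => k i • ω) (by rintro (_ | i); exacts [a1, k8 i])
      (by rintro (_ | i); exacts [a2, k9 i]) (by
        have : ∀ i, ¬ SO f u (k i • ω) ω' := fun i h => by
          obtain rfl := k6 i (some 0) (by rw [k7, h.Mh_eq hu, a3])
          exact a4 (k7 ▸ h)
        rintro (_ | i) (_ | j) h
        · rfl
        · exact absurd (h.symm hu) (this j)
        · exact absurd h (this i)
        · exact congrArg some (k6 i j (h.Mh_eq hu))) (w := 1) fun i => wt_pos _ _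
    rw [Finite.card_option, Finite.card_option] at this
    push_cast at this
    linarith

theorem Sys.Mh_le_Bl (S : Sys f (commutator f.Isom) Y) (hj : finrank F V = 2 * (0 + 4))
    (hu : f.Q u = 0) (hu0 : u ≠ 0) (hω : ω ∈ Y) (hy : y ∈ Bl c f u ω) (hy' : y ∉ F ∙ u)
    (hM : ∀ ω ∈ Y, ¬ Full f u ω → f.TotSing (Mh f c u ω) ∧ f.orth (Mh f c u ω) = Mh f c u ω)
    (hc : ¬ Full f u ω) (hlt : mu c f u Y y < Nat.card F + 2) {w : V} (hw : w ∈ Mh f c u ω) :
    w ∈ Bl c f u ω := by
  obtain ⟨h1, h2⟩ := hM ω hω hc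
  have e0 := finrank_max S.nd h2 hj
  obtain ⟨a, a1, a2⟩ : ∃ a ∈ Bl c f u ω, a ∉ Submodule.span F {u, y, w} := by
    by_contra h
    push Not at h
    have := (Submodule.finrank_mono (Submodule.span_le.2 h)).trans (finrank_span_triple_le u y w)
    change finrank F (Mh f c u ω) ≤ 3 at this
    omega
  obtain ⟨v, v1, v2⟩ := S.nd.exists_orth_eq_one a2
  have v3 := v1 u (Submodule.subset_span (by simp))
  have v4 := v1 y (Submodule.subset_span (by simp))
  obtain ⟨g, hg⟩ := exists_isE (h1.1 w hw)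
    (f.B_eq_zero_symm (v1 w (Submodule.subset_span (by simp)))) (f.orth_isLam v)
  have g1 := hg.apply_of_orth (h1.2 u (mem_Mh (self_mem_Bl hu)) w hw) v3
  have g2 := hg.apply_of_orth (h1.2 y (mem_Mh hy) w hw) v4
  have g3 := S.inv g (S.ein (h1.1 w hw) hg) ω hω
  have g4 : SO f u ω (g • ω) := by
    by_contra h
    have := (S.mu_ge_plus hj hu hu0 (S.pinv u) hω hy hy' h1 h2).2 _ g3 (g2 ▸ mem_Bl_fix g1 hy)
      (eq_of_le_max S.nd h2 (hM _ g3 fun e => hc (by
        simpa using e.conj (k := g⁻¹) (a := 1) (u' := u)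
          (by nth_rw 1 [← g1]; rw [Isom.inv_apply, one_smul]) one_ne_zero)).2 fun x hx => by
        have := map_mem_Mh (c := c) (ω := ω) (y := g⁻¹.1 x) g1 (by
          rw [IsE_apply_orth (hg.inv (h1.1 w hw)) (h1.2 x hx w hw)]
          exact add_mem hx (Submodule.smul_mem _ _ hw))
        rwa [Isom.apply_inv] at this) h
    simp only [zero_add, pow_one] at this
    linarith
  have := mem_Bl_fix g1 a1
  rw [← g4.Bl_eq hu, IsE_apply_orth hg (h1.2 a (mem_Mh a1) w hw),
    AddSubgroup.add_mem_cancel_left _ a1, v2] at this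
  simpa using this

end Cfsg.Agent.MI
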