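import Cfsg.Agent.Lib.MI.O8
import Cfsg.Agent.Lib.Deg.Orbit1

/-!
Small transitive actions of orthogonal groups of plus type: the end of the argument.
-/

set_option autoImplicit false

namespace Cfsg.Agent.MI

open Module Cfsg.Agent.Forms Cfsg.Agent.Forms.Form Cfsg.Agent.Cls Cfsg.Agent.Deg Finset

variable {F : Type*} [Field F] {V : Type*} [AddCommGroup V] [Module F V]
  {f : Form (Param.orth F) V} {u y z v : V}
  {X : Type*} [MulAction f.Isom X] {c : Chr (Param.orth F)} {ω : X} {Y Y' : Finset X}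
  [Fintype F] [Finite V]

theorem exists_mem_Bl_Cs (hf : f.Nondeg) (hu : f.Q u = 0) (hc : ¬ Full f u ω)
    (h : f.TotSing (Mh f c u ω)) : ∃ y ∈ Bl c f u ω, y ∈ Cs f u := by
  obtain ⟨y, h1, h2⟩ : ∃ y ∈ Bl c f u ω, y ∉ F ∙ u := by
    by_contra h
    push Not at h
    exact hc (ofull_of_Bl_le hf hu h)
  exact ⟨y, h1, orth_of_mem_Bl h1, h.1 y (mem_Mh h1), h2⟩

theorem Sys.card_full_ge (S : Sys f (commutator f.Isom) Y) (hj : finrank F V = 2 * 4) (hω : ω ∈ Y)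
    (hM : ∀ u, f.Q u = 0 → u ≠ 0 → ¬ Full f u ω →
      f.TotSing (Mh f c u ω) ∧ f.orth (Mh f c u ω) = Mh f c u ω)
    {p : V} (hp : f.Q p = 0) (hp0 : p ≠ 0) (h : Full f p ω) :
    Nat.card F ^ 4 ≤ {w | (f.Q w = 0 ∧ w ≠ 0) ∧ Full f w ω}.ncard + 1 := by
  obtain ⟨x, hx⟩ := S.nd.exists_hypPair hp hp0
  obtain ⟨h1, h2⟩ := hM x hx.Qe hx.e_ne_zero fun h' => by
    simpa [hx.Bue] using S.not_full_pair hω h h' hp hx.Qe
  have mx := mem_Mh (self_mem_Bl (c := c) (ω := ω) hx.Qe)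
  have e1 := f.finrank_inf_orth_singleton (S := Mh f c x ω) (a := p) fun h => by
    simpa [hx.Beu] using mem_orth_singleton.1 (h mx)
  rw [finrank_max S.nd h2 hj] at e1
  have e2 : p ∉ Mh f c x ω := fun h => by simpa [hx.Bue] using h1.2 p h x mx
  have e3 : ∀ y ∈ Mh f c x ω ⊓ f.orth (F ∙ p), y ≠ 0 → Full f y ω := fun y hy hy0 => by
    by_contra h'
    obtain ⟨a1, a2⟩ := hM y (h1.1 y hy.1) hy0 h'
    have a3 := perp_Mh_symm S.nd hx.Qe (h1.1 y hy.1) (h2.ge hy.1)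
    have a4 := perp_Mh_symm (c := c) (ω := ω) S.nd hp (h1.1 y hy.1) (f.orth_le (Submodule.span_le.2
      fun a ha => mem_span_of_mem_Bl S.nd (fun v => h.mem_Sb) ha) hy.2)
    simpa [hx.Bue] using a1.2 p (a2.le a4) x (a2.le a3)
  have e4 : 4 ≤ finrank F ↥((Mh f c x ω ⊓ f.orth (F ∙ p)) ⊔ F ∙ p) := by
    have := Submodule.finrank_lt_finrank_of_lt (s := Mh f c x ω ⊓ f.orth (F ∙ p))
      (t := (Mh f c x ω ⊓ f.orth (F ∙ p)) ⊔ F ∙ p) (lt_of_le_of_ne le_sup_left fun e =>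
        e2 (e.ge (Submodule.mem_sup_right (Submodule.mem_span_singleton_self p))).1)
    omega
  refine (Nat.pow_le_pow_right Nat.card_pos e4).trans ?_
  rw [← Module.natCard_eq_pow_finrank, add_comm, ← Set.ncard_singleton (0 : V)]
  refine le_trans (Set.ncard_le_ncard ?_) (Set.ncard_union_le _ _)
  intro w hw
  obtain ⟨y, hy, _, hs, rfl⟩ := Submodule.mem_sup.1 hw
  obtain ⟨s, rfl⟩ := Submodule.mem_span_singleton.1 hs
  by_cases hw0 : y + s • p = 0
  · exact Or.inl hw0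
  refine Or.inr ⟨⟨by rw [Q_add_smul hp (mem_orth_singleton.1 hy.2), h1.1 y hy.1], hw0⟩, ?_⟩
  by_cases hs : s = 0
  · simpa [hs] using e3 y hy (by simpa [hs] using hw0)
  by_cases hy0 : y = 0
  · simpa [hy0] using h.smul hs
  obtain ⟨v, v1, v2⟩ := exists_B_two S.nd hy0 (w := p) (fun h => e2
    ((Submodule.span_singleton_le_iff_mem _ _).2 hy.1 h)) 0 (-s⁻¹)
  obtain ⟨g, hg⟩ := exists_isE (h1.1 y hy.1) (f.B_eq_zero_symm v1) (f.orth_isLam v)
  have := (h.smul hs).map g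
  rw [(e3 y hy hy0).smul_eq hg, map_smul, IsE_apply_orth hg
    (f.B_eq_zero_symm (mem_orth_singleton.1 hy.2)), v2] at this
  convert this using 1
  simp [smul_smul, hs, add_comm]

theorem exists_sq_ne_one (h : 4 ≤ Nat.card F) : ∃ a : F, a ≠ 0 ∧ a * a ≠ 1 := by
  by_contra hc
  push Not at hc
  have h1 := card_pow_eq_le (F := F) two_pos 1
  have h2 : (Set.univ : Set F).ncard ≤ _ := (Set.ncard_le_ncard (t := {0} ∪ {s : F | s ^ 2 = 1})
    fun a _ => by by_cases h : a = 0; exacts [Or.inl h, Or.inr (by simpa [sq] using hc a h)]).trans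
      (Set.ncard_union_le _ _)
  rw [Set.ncard_univ, Set.ncard_singleton] at h2
  change Set.ncard {s : F | s ^ 2 = 1} ≤ 2 at h1
  omega

theorem Sys.exists_full (S : Sys f (commutator f.Isom) Y) (hj : finrank F V = 2 * (0 + 4))
    (hq : 4 ≤ Nat.card F) (hM : ∀ ω ∈ Y, ∀ u, f.Q u = 0 → u ≠ 0 → ¬ Full f u ω →
      f.TotSing (Mh f c u ω) ∧ f.orth (Mh f c u ω) = Mh f c u ω) (hu : f.Q u = 0) (hu0 : u ≠ 0)
    (hlt : ∀ y ∈ Cs f u, mu c f u Y y < Nat.card F + 2) :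
    ∃ ω ∈ Y, ∃ p, f.Q p = 0 ∧ p ≠ 0 ∧ Full f p ω := by
  by_contra hc
  push Not at hc
  replace hM := fun ω hω u hu hu0 => hM ω hω u hu hu0 (hc ω hω u hu hu0)
  have h0 : ∀ ω ∈ Y, ∀ w ∈ Mh f c u ω, w ∈ Bl c f u ω := fun ω hω w hw => by
    obtain ⟨y, h1, h2⟩ := exists_mem_Bl_Cs S.nd hu (hc ω hω u hu hu0) (hM ω hω u hu hu0).1
    exact S.Mh_le_Bl hj hu hu0 hω h1 h2.2.2 (fun ω hω _ => hM ω hω u hu hu0) (hc ω hω u hu hu0)
      (hlt y h2) hw
  obtain ⟨ω, hω⟩ := S.ne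
  obtain ⟨e, he⟩ := S.nd.exists_hypPair hu hu0
  obtain ⟨b, hb, hb'⟩ := exists_sq_ne_one hq
  have ha := mul_ne_zero hb hb
  generalize ea : b * b = a at hb' ha
  have t0 : he.hscale a ha ∈ commutator f.Isom := by
    have := S.nd.sq_mem_commutator (Or.inr (by omega)) (he.hscale b hb)
    rw [sq, he.hscale_mul] at this
    simpa only [ea] using this
  have t1 := he.hscale_u a ha
  have t2 := he.hscale_apply a ha
  have t3 := fun x => he.hscale_of_orth a ha (x := x)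
  generalize he.hscale a ha = t at t0 t1 t2 t3
  have t4 := S.inv t t0 ω hω
  obtain ⟨h1, h2⟩ := hM ω hω u hu hu0
  have mu' := mem_Mh (self_mem_Bl (c := c) (ω := ω) hu)
  have e1 : Mh f c u ω = Mh f c u (t • ω) := eq_of_le_max S.nd (hM _ t4 u hu hu0).2 h2
    (Submodule.span_le.2 fun x hx => by
      obtain ⟨x, rfl⟩ : ∃ x', a⁻¹ • t.1 x' = x := ⟨t⁻¹.1 (a • x), by simp [smul_smul, ha]⟩
      have := (conj_mem_Bl_iff hu t1 ha).1 hx
      rw [t2, orth_of_mem_Bl this, mul_zero, zero_smul, add_zero]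
      exact Submodule.smul_mem _ _ (add_mem (mem_Mh this) (Submodule.smul_mem _ _ mu')))
  obtain ⟨y, y1, y2⟩ := exists_mem_Bl_Cs S.nd hu (hc ω hω u hu hu0) h1
  obtain ⟨g, v, l, g1, g2⟩ : SO f u ω (t • ω) := by
    by_contra h
    have := (S.mu_ge_plus hj hu hu0 (S.pinv u) hω y1 y2.2.2 h1 h2).2 _ t4
      (h0 _ t4 y (e1 ▸ mem_Mh y1)) e1.symm h
    rw [zero_add, pow_one] at this
    exact (hlt y y2).not_ge this
  obtain ⟨v, l, g1, g3, -⟩ := g1.exists_orth hu (e := e) (by simp [he.Bue])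
  have ha1 : 1 - a ≠ 0 := sub_ne_zero.2 hb'.symm
  obtain ⟨k, k1⟩ := exists_isE hu (v := (1 - a)⁻¹ • v) (by rw [B_smul_left, g1.orth, mul_zero])
    (f.orth_isLam _)
  have k2 : t • k • ω = k • ω := by
    have := (k1.of_conj t1 ha).mul hu g1
    rw [t3 _ k1.orth (by rw [B_smul_left, g3, mul_zero])] at this
    nth_rw 2 [← oE_eq (this.congr (v' := (1 - a)⁻¹ • v) (by
      simp only [Param.orth_σ, RingHom.id_apply]
      rw [← sub_eq_zero, smul_smul, ← one_smul F v]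
      simp only [smul_smul, ← add_smul, ← sub_smul]
      rw [show a * (1 - a)⁻¹ * 1 + 1 - (1 - a)⁻¹ * 1 = 0 by field_simp; ring, zero_smul]) rfl) k1]
    simp only [mul_smul, g2, inv_smul_smul]
  have k3 := S.inv k (S.ein hu k1) ω hω
  generalize k • ω = ω at k2 k3
  have e2 : ∀ z, f.Q z = 0 → z ≠ 0 → z ∈ f.orth (Submodule.span F {u, e}) →
      z ∈ Mh f c u ω ∨ z ∈ Mh f c e ω := fun z hz hz0 h => by
    obtain ⟨a1, a2⟩ := hM ω k3 z hz hz0
    by_cases h' : e ∈ f.orth (Mh f c z ω)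
    · exact Or.inr ((hM ω k3 e he.Qe he.e_ne_zero).2.le (perp_Mh_symm S.nd hz he.Qe h'))
    refine Or.inl ((hM ω k3 u hu hu0).2.le (perp_Mh_symm S.nd hz hu (a2.ge ?_)))
    obtain ⟨x, x1, x2⟩ : ∃ x ∈ Mh f c z ω, f.B x e ≠ 0 := by simpa [mem_orth'] using h'
    have x3 := map_mem_Mh (t3 z (mem_orth_pair.1 h).1 (mem_orth_pair.1 h).2) x1
    rw [k2, t2, add_assoc, Submodule.add_mem_iff_right _ x1] at x3
    have x4 := a1.1 _ x3
    have x5 := mul_ne_zero (sub_ne_zero.2 hb') x2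
    rw [f.Q_add, f.Q_smul, f.Q_smul, hu, he.Qe, B_smul_left, oB_smul, he.Bue] at x4
    simp only [mul_zero, zero_add, mul_one, Param.orth_τ, mul_eq_zero (a := (a - 1) * _), x5,
      false_or] at x4
    rwa [x4, zero_smul, add_zero, Submodule.smul_mem_iff _ x5] at x3
  obtain ⟨x, x1, x', x2, x3⟩ := exists_hyp_orth S.nd (Submodule.span F {u, e})
    (by rw [he.finrank_span]; omega)
  obtain ⟨z, z1, z2, z3⟩ := exists_nonorth (he.restrict_orth_nondeg S.nd)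
    (orth_big (he.restrict_orth_nondeg S.nd) (by have := he.finrank_orth S.nd; omega))
    (u := ⟨x, x1⟩) (u' := ⟨x', x2⟩) x3.Qu (fun h => x3.u_ne_zero (congrArg Subtype.val h)) x3.Qe
    (fun h => x3.e_ne_zero (congrArg Subtype.val h))
  have b1 := (hM ω k3 u hu hu0).1.2
  have b2 := (hM ω k3 e he.Qe he.e_ne_zero).1.2
  have b3 : f.B x x' ≠ 0 := by simp [x3.Bue]
  rcases e2 x x3.Qu x3.u_ne_zero x1 with h | h <;>
  rcases e2 x' x3.Qe x3.e_ne_zero x2 with h' | h' <;>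
  rcases e2 z z1 (fun h => z2 (by simp [h])) z.2 with h'' | h''
  all_goals first | exact b3 (b1 _ h _ h') | exact b3 (b2 _ h _ h') | exact z2 (b1 _ h'' _ h) |
    exact z2 (b2 _ h'' _ h) | exact z3 (b1 _ h'' _ h') | exact z3 (b2 _ h'' _ h')

theorem omega_plus_ge (hf : f.Nondeg) {j : ℕ} (hj : finrank F V = 2 * (j + 4)) {B : ℕ}
    {n₀ nm : ℤ}
    (h0 : (Nat.card {v // f.Q v = 0} : ℤ) = n₀ + (Nat.card F - 1) * Nat.card F ^ (2 * j + 6))
    (hm : ∀ c, c ≠ 0 → nm + (Nat.card F - 1) * Nat.card F ^ (2 * j + 6) ≤ Nat.card {v // f.Q v = c})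
    (N : ONum F (Nat.card F) (Nat.card F ^ (2 * j + 6)) n₀ nm B)
    (n1 : Nat.card F * B ≤ (Nat.card F + 2) * n₀)
    (n2 : j = 0 → n₀ = Nat.card F * ((Nat.card F ^ 2 + 1) * (Nat.card F ^ 3 - 1) + 1) ∧
      (B ≤ Nat.card F ^ 3 * (Nat.card F + 1) * (Nat.card F ^ 2 + 1) ∨ 4 ≤ Nat.card F ∧
        B ≤ (Nat.card F ^ 3 + 1) * (Nat.card F + 1) * (Nat.card F ^ 2 + 1)))
    (H : Subgroup (commutator f.Isom)) (hH : H ≠ ⊤) : B ≤ H.index := by
  classical
  obtain ⟨Y, S, e⟩ := exists_sys hf (orth_big hf (by omega)) (isE_mem_comm hf (by omega))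
    (orth_gen hf (by omega)) H hH
  rw [← e]
  by_contra hB
  push Not at hB
  obtain ⟨c⟩ := exists_chr_orth F
  have hk : finrank F V = 2 * j + 6 + 2 := by omega
  have hM := fun ω hω u hu hu0 => S.orth_small (c := c) (ω := ω) (u := u) hk (by omega) hB h0 hm N
    hω hu hu0
  obtain ⟨ω, hω⟩ := S.ne
  obtain ⟨u, hu, hu0, hc⟩ := S.proper ω hω
  obtain ⟨h1, h2⟩ := hM ω hω u hu hu0 hc
  obtain ⟨y, y1, y2⟩ := exists_mem_Bl_Cs hf hu hc h1
  have q1 : 1 < Nat.card F := Finite.one_lt_card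
  have e1 : ((Cs f u).ncard : ℤ) + Nat.card F = n₀ := by
    have a1 := card_perp_Q hf hu hu0 hk 0
    rw [← card_Cs_add hu hu0] at a1
    zify [q1.le] at a1
    linarith
  have hlt : ∀ y ∈ Cs f u, mu c f u Y y < Nat.card F + 2 := fun y hy => by
    by_contra h
    have a1 := S.cq_le (c := c) (by omega) hu hu0 (S.pinv u) hy.1 hy.2.2
    rw [Cq_eq_Cs hy.2.1] at a1
    have a2 := (mul_le_mul_of_nonneg_right (not_lt.1 h) (by positivity)).trans a1
    rw [← e1] at n1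
    have a3 : (Nat.card F : ℤ) * Y.card < Nat.card F * B := by gcongr
    exact (a3.trans_le n1).not_ge (by exact_mod_cast a2)
  have e2 := fun Y' hY' (hω : ω ∈ Y') =>
    (S.mu_ge_plus (Y' := Y') hj hu hu0 hY' hω y1 y2.2.2 h1 h2).1
  obtain rfl : j = 0 := by
    by_contra h
    have a1 := (e2 Y (S.pinv u) hω).trans_lt (hlt y y2)
    have a2 := Nat.pow_le_pow_right q1.le (show 2 ≤ j + 1 by omega)
    have a3 : Nat.card F ^ (j + 1) + 1 < Nat.card F + 2 := by exact_mod_cast a1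
    nlinarith
  obtain ⟨n2, n3⟩ := n2 rfl
  have hY' := (S.pinv u).not_full
  have e3 := class_small (c := c) (Y := Y.filter fun ω => ¬ Full f u ω) hu hu0 (C := Cs f u)
    (fun y hy => hy.2.2) (b := Nat.card F ^ 3) (fun ω hω => by
      rw [← pow_succ, ← finrank_max hf (hM ω (mem_filter.1 hω).1 u hu hu0 (mem_filter.1 hω).2).2 hj,
        ← Module.natCard_eq_pow_finrank]
      exact Nat.card_le_card_of_injective (fun a => ⟨a.1, mem_Mh a.2⟩) fun a b h =>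
        Subtype.ext (Subtype.mk.inj h)) (m := Nat.card F + 1) fun y' hy' => by
      have := e2 _ hY' (mem_filter.2 ⟨hω, hc⟩)
      rw [zero_add, pow_one] at this
      exact this.trans (S.mu_cq (by omega) hu hu0 hY' y2.1 y2.2.2 (by rwa [Cq_eq_Cs y2.2.1]))
  have e4 := card_filter_add_card_filter_not (s := Y) (Full f u)
  have e5 := fun ω hω => S.double_count (ω := ω) (Full f) (fun g _ _ _ h => h.map g)
    (fun _ _ _ ha _ h => h.smul ha) hu hu0 hω
  have e6 := ncard_sing_add_one f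
  generalize (Y.filter fun ω => ¬ Full f u ω).card = b at e3 e4
  generalize (Y.filter (Full f u)).card = a at e4 e5
  have q2 : (1 : ℤ) < Nat.card F := by exact_mod_cast q1
  have e7 : (Nat.card F : ℤ) ^ 3 * (Nat.card F + 1) * (Nat.card F ^ 2 + 1) ≤ b := by
    have a1 : (Nat.card F : ℤ) ^ 3 * ((Nat.card F + 1) * (Cs f u).ncard) + Nat.card F * b ≤
      Nat.card F ^ 3 * (Nat.card F * b) := by exact_mod_cast e3
    rw [show ((Cs f u).ncard : ℤ) = _ from eq_sub_of_add_eq (e1.trans n2)] at a1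
    refine le_of_mul_le_mul_left (a := (Nat.card F : ℤ) * (Nat.card F ^ 3 - 1)) (by linarith) ?_
    have := one_lt_pow₀ q2 three_ne_zero
    exact mul_pos (by omega) (by omega)
  rcases n3 with n3 | ⟨hq, n3⟩
  · zify at n3 hB e4
    omega
  obtain ⟨ω, hω, p, hp, hp0, h⟩ := S.exists_full hj hq hM hu hu0 hlt
  have e8 := S.card_full_ge hj hω (hM ω hω) hp hp0 h
  specialize e5 ω hω
  zify at e4 e5 e6 e8 n3 hB
  rw [h0, n2] at e6
  rw [eq_sub_of_add_eq e6] at e5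
  have a1 := one_lt_pow₀ q2 four_ne_zero
  have a2 : (Y.card : ℤ) ≤ (Nat.card F ^ 3 + 1) * a := by
    refine le_of_mul_le_mul_left (a := (Nat.card F : ℤ) ^ 4 - 1) (le_trans ?_ (e5.trans ?_).le)
      (by omega)
    · gcongr; omega
    · ring
  have a3 : (Nat.card F : ℤ) ^ 3 * Y.card < Nat.card F ^ 3 *
    ((Nat.card F ^ 3 + 1) * (Nat.card F + 1) * (Nat.card F ^ 2 + 1)) := by gcongr; omega
  have a4 := mul_le_mul_of_nonneg_left e7 (show (0 : ℤ) ≤ Nat.card F ^ 3 + 1 by positivity)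
  rw [eq_sub_of_add_eq e4] at a2
  linarith

theorem plus_counts (m : ℕ) :
    (Nat.card {v // (plusForm (m + 2) F).Q v = 0} : ℤ) = (Nat.card F ^ 2 * (Nat.card F ^ m) ^ 2 +
      Nat.card F ^ 2 * Nat.card F ^ m - Nat.card F * Nat.card F ^ m) +
      (Nat.card F - 1) * Nat.card F ^ (2 * m + 2) ∧ ∀ c, c ≠ 0 →
      (Nat.card F ^ 2 * (Nat.card F ^ m) ^ 2 - Nat.card F * Nat.card F ^ m : ℤ) +
        (Nat.card F - 1) * Nat.card F ^ (2 * m + 2) = Nat.card {v // (plusForm (m + 2) F).Q v = c} := by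
  refine ⟨?_, fun c hc => ?_⟩
  · rw [plusForm_Q, card_plus, if_pos rfl]; ring
  · rw [plusForm_Q, card_plus, if_neg hc]; ring

end Cfsg.Agent.MI
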