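import Cfsg.Agent.Lib.MI.O1

/-!
Small transitive actions of symplectic groups: general tools.
-/

set_option autoImplicit false

namespace Cfsg.Agent.MI

open Module Cfsg.Agent.Forms Cfsg.Agent.Forms.Form Cfsg.Agent.Cls Cfsg.Agent.Deg Finset

variable {F : Type*} [Field F] {V : Type*} [AddCommGroup V] [Module F V]

section general

variable {P : Param F} {f : Form P V} {X : Type*} [MulAction f.Isom X] {u e : V} {ω : X}

theorem hscale_comm (he : f.HypPair u e) {a : F} (ha : a ≠ 0) {k : f.Isom} (h1 : k.1 u = u)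
    (h2 : k.1 e = e) : he.hscale a ha * k = k * he.hscale a ha := Isom.ext fun w => by
  have e1 : f.B (k.1 w) e = f.B w e := by nth_rw 1 [← h2]; rw [Isom.map_B]
  have e2 : f.B (k.1 w) u = f.B w u := by nth_rw 1 [← h1]; rw [Isom.map_B]
  simp only [Isom.mul_apply, he.hscale_apply, map_add, map_smul, h1, h2, e1, e2]

theorem isE_zero_comm {g k : f.Isom} {l : F} (hg : IsE g u 0 l) (hk : k.1 u = u) :
    k * g = g * k := by
  have := hg.conj k
  rw [hk, map_zero] at this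
  nth_rw 2 [← this.eq hg]
  simp

/-- after moving inside the orbit, the stabiliser of a hyperbolic pair acts through the centre -/
theorem levi_central (he : f.HypPair u e) {a : F} (ha : a ≠ 0) (ha1 : P.σ a ≠ 1)
    (hS : ∀ v, (P.σ a - 1) • v ∈ Sb f u ω → f.B v e = 0 → v ∈ Sb f u ω)
    (ht : SO f u ω (he.hscale a ha • ω)) : ∃ ω', SO f u ω ω' ∧ ∀ k : f.Isom, k.1 u = u →
      k.1 e = e → SO f u ω (k • ω) → ∃ (l : F) (g : f.Isom), IsE g u 0 l ∧ g • ω' = k • ω' := by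
  have hu := he.Qu
  have hue : f.B u e ≠ 0 := by simp [he.Bue]
  have t1 := he.hscale_u a ha
  have t3 := fun x => he.hscale_of_orth a ha (x := x)
  have t4 := fun k => hscale_comm he ha (k := k)
  generalize he.hscale a ha = t at ht t1 t3 t4
  obtain ⟨g, v, l, g1, g2⟩ := ht
  obtain ⟨v, l, g1, g3, -⟩ := g1.exists_orth hu hue
  have ha2 : 1 - P.σ a ≠ 0 := sub_ne_zero.2 ha1.symm
  obtain ⟨l', hl'⟩ := f.exists_isLam ((1 - P.σ a)⁻¹ • v)
  obtain ⟨h, h1⟩ := exists_isE hu (by rw [B_smul_left, g1.orth, mul_zero]) hl'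
  have h2 := (h1.inv hu).mul hu ((h1.of_conj t1 ha).mul hu g1)
  rw [t3 _ h1.orth (by rw [B_smul_left, g3, mul_zero]), show -((1 - P.σ a)⁻¹ • v) +
    (P.σ a • (1 - P.σ a)⁻¹ • v + v) = 0 by
      match_scalars; field_simp; ring] at h2
  have h3 : t • h • ω = (h⁻¹ * (t * h * t⁻¹ * g)) • h • ω := by
    rw [← mul_smul (h⁻¹ * _) h, ← isE_zero_comm h2 (h1.apply_self hu)]
    simp only [mul_smul, g2, inv_smul_smul, smul_inv_smul]
  generalize h⁻¹ * (t * h * t⁻¹ * g) = c at h2 h3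
  have s1 : SO f u ω (h • ω) := ⟨h, _, _, h1, rfl⟩
  refine ⟨h • ω, s1, fun k k1 k2 k3 => ?_⟩
  obtain ⟨g', w, m, b1, b2⟩ := ((s1.symm hu).trans hu k3).trans hu
    (s1.map (k := k) (a := 1) (by rw [k1, one_smul]) one_ne_zero)
  obtain ⟨w, m, b1, b3, -⟩ := b1.exists_orth hu hue
  have b4 : (g'⁻¹ * (t * g' * t⁻¹)) • h • ω = h • ω := by
    have : c • (t * g' * t⁻¹) • h • ω = c • g' • h • ω := by
      rw [← mul_smul, ← isE_zero_comm h2 (by
        simp only [Isom.mul_apply]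
        rw [show t⁻¹.1 u = a⁻¹ • u by
          rw [eq_inv_smul_iff₀ ha, ← map_smul, ← t1, Isom.inv_apply], map_smul, b1.apply_self hu,
          map_smul, t1, inv_smul_smul₀ ha]), mul_smul, ← h3, mul_smul, mul_smul, inv_smul_smul, b2,
        ← mul_smul, t4 k k1 k2, mul_smul, h3, ← mul_smul k, isE_zero_comm h2 k1, mul_smul]
    rw [mul_smul, MulAction.injective c this, inv_smul_smul]
  have b5 := Fx.mem_Sb ⟨_, (b1.inv hu).mul hu (b1.of_conj t1 ha), b4⟩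
  rw [t3 w b1.orth b3, ← s1.Sb_eq hu, neg_add_eq_sub, ← one_smul F w, smul_smul, mul_one,
    ← sub_smul] at b5
  obtain ⟨l, g₁, c3, c4⟩ := (mem_Sb hu).1 (s1.Sb_le hu (hS w b5 b3))
  have c5 := b1.mul hu (c3.inv hu)
  rw [add_neg_cancel] at c5
  exact ⟨_, _, c5, by rw [mul_smul, inv_smul_eq_iff.2 c4.symm, b2]⟩

theorem comm_of_central {k k' g g' : f.Isom} {l l' : F} (hu : f.Q u = 0) (h1 : k.1 u = u)
    (h1' : k'.1 u = u) (h2 : IsE g u 0 l) (h2' : IsE g' u 0 l') (h3 : g • ω = k • ω)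
    (h3' : g' • ω = k' • ω) : (k'⁻¹ * k⁻¹ * k' * k) • ω = ω := by
  have : k' • k • ω = k • k' • ω := by
    rw [← h3, ← mul_smul, isE_zero_comm h2 h1', mul_smul, ← h3', ← mul_smul k, isE_zero_comm h2' h1,
      mul_smul, ← h3, ← mul_smul, ← isE_zero_comm h2 (h2'.apply_self hu), mul_smul]
  simp only [mul_smul, this, inv_smul_smul]

end general

variable {f : Form (Param.sp F) V} {u y z v e : V} {l : F}
  {X : Type*} [MulAction f.Isom X] {c : Chr (Param.sp F)} {ω ω' : X} {Y Y' : Finset X}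

theorem lam0_sp (l : F) : Lam0 (Param.sp F) l := ⟨rfl, by simp⟩

theorem Lam_sp : Lam (Param.sp F) = ⊤ := eq_top_iff.2 fun l _ => lam0_sp l

theorem card_Lam_sp : Nat.card (Lam (Param.sp F)) = Nat.card F := by
  rw [Lam_sp, AddSubgroup.card_top]

theorem tau_eq_Lam_iff : tau f u ω = Lam (Param.sp F) ↔ ∀ l, Fx f u 0 l ω := by
  rw [Lam_sp, AddSubgroup.eq_top_iff']
  simp only [mem_tau (f.sp_Q u)]

variable (f) in
/-- symplectic transvections -/
def str (z : V) (l : F) : f.Isom := tr f z l (f.sp_Q z) (lam0_sp l)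

theorem str_apply (z : V) (l : F) (w : V) : (str f z l).1 w = w + (l * f.B w z) • z := by
  simp [str, tr_apply]

theorem str_orth {w : V} (h : f.B w z = 0) : (str f z l).1 w = w := tr_orth h

theorem isE_str (z : V) (l : F) : IsE (str f z l) z 0 l := isE_tr _ _

theorem sE_app {g : f.Isom} (h : IsE g u v l) (w : V) :
    g.1 w = w + f.B w u • v + (f.B w v + l * f.B w u) • u := by
  rw [h.app]; simp only [Param.sp_ε]; module

theorem str_smul_eq (h : tau f z ω = Lam (Param.sp F)) (l : F) : str f z l • ω = ω :=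
  tr_smul_eq _ _ h

theorem tau_add {w : V} (h : tau f z ω = Lam (Param.sp F)) (h' : tau f w ω = Lam (Param.sp F))
    (h0 : f.B w z ≠ 0) (s : F) : tau f (w + s • z) ω = Lam (Param.sp F) := by
  have := tau_map (u := w) (ω := ω) (str f z (s / f.B w z))
  rwa [str_smul_eq h, str_apply, div_mul_cancel₀ _ h0, h'] at this

theorem sp_big : Big f := big_of_lam0 ⟨1, one_ne_zero, lam0_sp 1⟩

theorem Fx.char_two (h2 : (2 : F) = 0) (h : Fx f u v l ω) (hs : SO f u ω ω') : Fx f u v l ω' := by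
  obtain ⟨g, w, m, g1, rfl⟩ := hs
  have := h.map g
  rw [g1.apply_self (f.sp_Q u), IsE_apply_orth g1 h.orth] at this
  refine (this.of_add_self (f.sp_Q u) _).congr rfl ?_
  simp only [Param.sp_σ, Param.sp_ε]
  linear_combination f.B v w * h2

variable [Finite F] [Finite V]

theorem sp_gen (hf : f.Nondeg) (K : Subgroup f.Isom) (hK : ∀ u v, Ein K u v) : ⊤ ≤ K :=
  (HasTr.sp_eq_top hf fun _ _ _ _ => hK _ _ _ _ _ _).ge

theorem Sys.exists_tau_ne (S : Sys f ⊤ Y) (hω : ω ∈ Y) :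
    ∃ u, u ≠ 0 ∧ tau f u ω ≠ Lam (Param.sp F) := by
  by_contra h
  push Not at h
  obtain ⟨u, hu, -, hc⟩ := S.proper ω hω
  refine hc (full_of_ein hu fun v l hu hv hl => ?_)
  rw [HasTr.sp_eq_top S.nd (hasTr_stabilizer fun u _ => h u)]
  trivial

theorem sp_class (hf : f.Nondeg) (hu0 : u ≠ 0) {y' : V} (hy : y ∈ Cs f u) (hy' : y' ∈ Cs f u)
    {a b : F} (ha : a ≠ 0) (hb : b ≠ 0) : ∃ k : f.Isom, k.1 u = a • u ∧ k.1 y = b • y' := by
  refine hf.witt_two ((LinearIndependent.pair_iff' hu0).2 fun s h => hy.2.2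
    (Submodule.mem_span_singleton.2 ⟨s, h⟩)) ((LinearIndependent.pair_iff' (smul_ne_zero ha hu0)).2
      fun s h => hy'.2.2 (Submodule.mem_span_singleton.2 ⟨b⁻¹ * s * a, by
        rw [mul_smul, mul_smul, h, inv_smul_smul₀ hb]⟩)) (by simp only [sp_B_self])
    (by simp only [sp_B_self]) ?_ (by simp only [sp_Q]) (by simp only [sp_Q])
  rw [B_smul_left, sp_B_smul_right, f.B_eq_zero_symm hy.1, f.B_eq_zero_symm hy'.1, mul_zero,
    mul_zero]

theorem mem_Cs_of_Bl (hy : y ∈ Bl c f u ω) (hy' : y ∉ F ∙ u) : y ∈ Cs f u :=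
  ⟨orth_of_mem_Bl hy, f.sp_Q y, hy'⟩

theorem card_Cs_sp (hu0 : u ≠ 0) :
    (Cs f u).ncard + Nat.card F = Nat.card (f.orth (F ∙ u)) := by
  rw [card_perp_eq (f.sp_Q u) hu0, show Cn f u = ∅ from Set.eq_empty_of_forall_notMem
    fun y hy => hy.2 (f.sp_Q y), Set.ncard_empty, zero_add]

theorem sp_mu_class (hf : f.Nondeg) (hu0 : u ≠ 0) (hY : PInv f ⊤ u Y') {y' : V} (hy : y ∈ Cs f u)
    (hy' : y' ∈ Cs f u) : mu c f u Y' y ≤ mu c f u Y' y' := by
  obtain ⟨k, e1, e2⟩ := sp_class hf hu0 hy hy' one_ne_zero one_ne_zero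
  exact mu_conj (f.sp_Q u) e1 one_ne_zero e2 (hY k trivial 1 one_ne_zero e1)

theorem sp_mu_le (hf : f.Nondeg) (hu0 : u ≠ 0) (hY : PInv f ⊤ u Y') (hy : y ∈ Cs f u) :
    mu c f u Y' y * Nat.card (f.orth (F ∙ u)) ≤ Nat.card F * Y'.card := by
  rw [← card_Cs_sp hu0]
  exact_mod_cast class_le_span (C := Cs f u) (f.sp_Q u) hu0 (fun _ h => h.2.2) hy fun _ h =>
    sp_mu_class hf hu0 hY hy h

theorem Sys.sp_small (S : Sys f ⊤ Y) (hu0 : u ≠ 0) (hY : PInv f ⊤ u Y') (hω : ω ∈ Y')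
    (hy : y ∈ Bl c f u ω) (hy' : y ∉ F ∙ u) {b : ℕ}
    (hb : ∀ ω ∈ Y', Nat.card (Bl c f u ω) ≤ b * Nat.card F) :
    b * (wt f u ω * (Cs f u).ncard) + Nat.card F * Y'.card ≤ b * (Nat.card F * Y'.card) := by
  exact_mod_cast class_small (C := Cs f u) (f.sp_Q u) hu0 (fun _ h => h.2.2) hb fun _ h =>
    (mu_ge_one S.nd (f.sp_Q u) hu0 (S.cl (f.sp_Q u) hY) hω hy).trans
      (sp_mu_class S.nd hu0 hY (mem_Cs_of_Bl hy hy') h)

theorem sp_inv (hf : f.Nondeg) {A : AddSubgroup V} (hA : ∀ y ∈ A, y ∉ F ∙ u → ∀ z, f.B z u = 0 →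
    f.B z y = 0 → ∀ l, ∀ a ∈ A, (l * f.B a z) • z ∈ A) (hy : y ∈ A) (hy' : y ∉ F ∙ u) :
    (∀ a ∈ A, ∃ s t : F, s • u + t • y = a) ∨ ∀ x, f.B x u = 0 → x ∈ A := by
  have key : ∀ y ∈ A, y ∉ F ∙ u → ∀ a ∈ A, (¬ ∃ s t : F, s • u + t • y = a) → ∃ z, f.B z u = 0 ∧
      f.B z y = 0 ∧ f.B a z ≠ 0 ∧ ∀ x, f.B x u = 0 → f.B x y = 0 → x ∈ A := fun y h1 h2 a h3 h4 => by
    obtain ⟨z, z1, z2, z3⟩ : ∃ z, f.B z u = 0 ∧ f.B z y = 0 ∧ f.B a z ≠ 0 := by
      by_contra h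
      push Not at h
      exact h4 (mem_span_pair_of_perp hf h)
    have h5 : ∀ x, f.B x u = 0 → f.B x y = 0 → f.B a x ≠ 0 → x ∈ A := fun x x1 x2 x3 => by
      simpa [x3] using hA y h1 h2 x x1 x2 (f.B a x)⁻¹ a h3
    refine ⟨z, z1, z2, z3, fun x x1 x2 => ?_⟩
    by_cases h : f.B a x = 0
    · simpa using sub_mem (h5 (x + z) (by simp [x1, z1]) (by simp [x2, z2]) (by simp [h, z3]))
        (h5 z z1 z2 z3)
    · exact h5 x x1 x2 h
  rw [or_iff_not_imp_left]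
  intro h x hx
  push Not at h
  obtain ⟨a, ha, h⟩ := h
  obtain ⟨z, z1, z2, z3, h1⟩ := key y hy hy' a ha (by simpa using h)
  obtain ⟨-, -, -, -, h2⟩ := key a ha (fun e => by
    obtain ⟨s, rfl⟩ := Submodule.mem_span_singleton.1 e
    exact h s 0 (by simp)) y hy (by
    rintro ⟨s, t, rfl⟩
    have : t ≠ 0 := by
      rintro rfl
      exact hy' (by simp [Submodule.smul_mem])
    exact h (-(t⁻¹ * s)) t⁻¹ (by match_scalars <;> field_simp; ring))
  have z4 := B_ne_symm z3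
  simpa using add_mem (h2 (x - (f.B x a / f.B z a) • z) (by simp [hx, z1]) (by simp [z4]))
    (h1 ((f.B x a / f.B z a) • z) (by simp [z1]) (by simp [z2]))

theorem Sys.sp_line_or_top (S : Sys f ⊤ Y) (hu0 : u ≠ 0) (hY : PInv f ⊤ u Y') (hω : ω ∈ Y')
    (hy : y ∈ Bl c f u ω) (hy' : y ∉ F ∙ u) (hlt : ∀ y ∈ Cs f u, mu c f u Y' y < 2 * wt f u ω) :
    (∀ a ∈ Bl c f u ω, ∃ s t : F, s • u + t • y = a) ∨ ∀ v ∈ Sb f u ω, v ∈ F ∙ u :=
  (sp_inv S.nd (fun y h1 h2 z h3 h4 l a ha => by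
    have := S.inv_of_mu_lt (f.sp_Q u) hu0 hY hω h1 (hlt y (mem_Cs_of_Bl h1 h2)) (k := str f z l)
      trivial (str_orth (f.B_eq_zero_symm h3)) (str_orth (f.B_eq_zero_symm h4)) ha
    rwa [str_apply, AddSubgroup.add_mem_cancel_left _ ha] at this) hy hy').imp_right
    (Sb_le_of_Bl S.nd)

end Cfsg.Agent.MI
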