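import Cfsg.Agent.Lib.MI.P1

/-!
Small transitive actions of symplectic groups: points without transvections.
-/

set_option autoImplicit false

namespace Cfsg.Agent.MI

open Module Cfsg.Agent.Forms Cfsg.Agent.Forms.Form Cfsg.Agent.Cls Cfsg.Agent.Deg Finset

variable {F : Type*} [Field F] {V : Type*} [AddCommGroup V] [Module F V]
  {f : Form (Param.sp F) V} {u y z v w e : V} {l : F}
  {X : Type*} [MulAction f.Isom X] {c : Chr (Param.sp F)} {ω ω' : X} {Y Y' : Finset X}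
  [Finite F] [Finite V]

theorem exists_mem_Cs_sp (hf : f.Nondeg) (h3 : 3 ≤ finrank F V) (hu0 : u ≠ 0) :
    ∃ y, y ∈ Cs f u := by
  by_contra h
  push Not at h
  have h1 := finrank_perp hf hu0
  have h2 := Submodule.finrank_mono (show f.orth (F ∙ u) ≤ F ∙ u from fun y hy => by_contra fun e =>
    h y ⟨mem_orth_singleton.1 hy, f.sp_Q y, e⟩)
  rw [finrank_span_singleton hu0] at h2
  omega

theorem exists_pair_perp (hf : f.Nondeg) (h3 : 3 ≤ finrank F V) (hu0 : u ≠ 0) :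
    ∃ y y', y ∈ Cs f u ∧ y' ∈ Cs f u ∧ f.B y y' = 1 := by
  obtain ⟨y, hy⟩ := exists_mem_Cs_sp hf h3 hu0
  obtain ⟨y', h1, h2⟩ := exists_hyp_perp hf hy
  exact ⟨y, y', hy, ⟨h2, h1.Qe, not_mem_span_of_B (f.B_eq_zero_symm hy.1)
    (by simp [h1.Beu])⟩, h1.Bue⟩

omit [Finite V] in
theorem exists_ne_zero_one (h : 3 ≤ Nat.card F) : ∃ a : F, a ≠ 0 ∧ a ≠ 1 := by
  by_contra hc
  push Not at hc
  have h2 : (Set.univ : Set F).ncard ≤ _ := (Set.ncard_le_ncard (t := {0, 1})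
    fun a _ => by by_cases h : a = 0; exacts [Or.inl h, Or.inr (hc a h)]).trans
      (Set.ncard_pair zero_ne_one).le
  rw [Set.ncard_univ] at h2
  omega

theorem Sys.sp_tau_bot (S : Sys f ⊤ Y) (h2 : (2 : F) ≠ 0) (h3 : 3 ≤ finrank F V) (hω : ω ∈ Y) :
    ∃ u, u ≠ 0 ∧ tau f u ω = ⊥ := by
  obtain ⟨u₀, hu₀0, hu₀⟩ := S.exists_tau_ne hω
  obtain ⟨u, hu, hu0, hmin⟩ := exists_min_tau ω (f.sp_Q u₀) hu₀0
  refine ⟨u, hu0, ?_⟩
  rw [← AddSubgroup.card_eq_one]
  by_contra hc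
  obtain ⟨t, ht⟩ : ∃ t, Nat.card (tau f u ω) = t + 2 :=
    ⟨Nat.card (tau f u ω) - 2, by have : 0 < Nat.card (tau f u ω) := Nat.card_pos; omega⟩
  have key : ∀ y, f.B y u = 0 → y ∉ F ∙ u → t + 2 ≤ Nat.card (Cy f u y ω) := fun y h1 h2 => by
    have := card_Cy_ge (ω := ω) hu (f.sp_Q y) h1 (t := t + 2) fun a => ht ▸ hmin _ (f.sp_Q _)
      fun e => h2 (Submodule.mem_span_singleton.2
        ⟨-a, by rw [neg_smul, neg_eq_iff_add_eq_zero, add_comm, e]⟩)
    rw [card_Lam_sp] at this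
    obtain ⟨r, hr⟩ : ∃ r, Nat.card F = r + 1 := ⟨_, (Nat.succ_pred_eq_of_pos Nat.card_pos).symm⟩
    rw [hr, Nat.add_sub_cancel, show t + 2 - 1 = t + 1 from rfl] at this
    by_contra h
    have : r * Nat.card (Cy f u y ω) ≤ r * (t + 1) := by gcongr; omega
    nlinarith
  have ne0 : ∀ A : AddSubgroup F, t + 2 ≤ Nat.card A → ∃ a ∈ A, a ≠ 0 := fun A h => by
    by_contra h'
    push Not at h'
    rw [(AddSubgroup.eq_bot_iff_forall _).2 h', AddSubgroup.card_bot] at h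
    omega
  obtain ⟨y, y', hy, hy', hb⟩ := exists_pair_perp S.nd h3 hu0
  have hb' : f.B y' y = -1 := by rw [f.sp_symm, hb]
  obtain ⟨a, ha, ha0⟩ := ne0 _ (key y' hy'.1 hy'.2.2)
  have e1 : ∀ m : F, Cy f u (y + m • y') ω = Cy f u y ω := by
    suffices ∀ m : F, Cy f u (y + m • y') ω = (tau f u ω).comap (AddMonoidHom.mulLeft (2 * a)) from
      fun m => by rw [this m, ← this 0, zero_smul, add_zero]
    intro m
    refine AddSubgroup.eq_of_le_of_card_ge (fun s hs => ?_) (le_trans ?_ (key _ (by simp [hy.1, hy'.1])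
      (not_mem_span_of_B (f.B_eq_zero_symm hy'.1) (z := y') (by simp [hb, sp_B_self]))))
    · have := comm_mem_tau hu (mem_Cy.1 ha) (mem_Cy.1 hs)
      simp only [B_smul_left, sp_B_smul_right, B_add_left, B_add_right, hb, hb', sp_B_self] at this
      change 2 * a * s ∈ tau f u ω
      convert this using 1
      ring
    · rw [← ht]
      exact Nat.card_le_card_of_injective (fun s => ⟨2 * a * s.1, s.2⟩) fun s s' h =>
        Subtype.ext (mul_left_cancel₀ (mul_ne_zero h2 ha0) (Subtype.mk.inj h))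
  obtain ⟨b, hb1, hb0⟩ := ne0 _ (key y hy.1 hy.2.2)
  have e2 : tau f u ω = ⊤ := eq_top_iff.2 fun l _ => by
    have := comm_mem_tau hu (mem_Cy.1 ((e1 (l / (2 * b * b))).ge hb1)) (mem_Cy.1 hb1)
    simp only [B_smul_left, sp_B_smul_right, B_add_left, B_add_right, hb, hb', sp_B_self] at this
    convert this using 1
    field_simp
    ring
  exact hu₀ (AddSubgroup.eq_of_le_of_card_ge (tau_le _ _) (by
    rw [Lam_sp, ← e2]; exact hmin _ (f.sp_Q _) hu₀0))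

omit [Finite V] in
theorem exists_mul_self (h2 : (2 : F) = 0) (a : F) : ∃ b, b * b = a :=
  (Finite.injective_iff_surjective (f := fun b : F => b * b)).1 (fun b b' h => by
    have : (b - b') * (b - b') = 0 := by linear_combination h + (b' * b' - b * b') * h2
    exact sub_eq_zero.1 (mul_self_eq_zero.1 this)) a

theorem Sys.sp_mid (S : Sys f ⊤ Y) (h2 : (2 : F) = 0) (hu0 : u ≠ 0) (hω : ω ∈ Y)
    (hy : y ∈ Bl c f u ω) (hy' : y ∉ F ∙ u) (h0 : tau f u ω ≠ ⊥)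
    (h1 : tau f u ω ≠ Lam (Param.sp F)) : (Nat.card F + 2 : ℚ) ≤ mu c f u Y y := by
  have hu := f.sp_Q u
  let K : Subgroup Fˣ :=
    { carrier := {a | ∀ l : F, a * l ∈ tau f u ω ↔ l ∈ tau f u ω}
      one_mem' := fun l => by simp
      mul_mem' := fun ha hb l => by rw [Units.val_mul, mul_assoc, ha, hb]
      inv_mem' := fun {a} ha l => by rw [← ha, Units.mul_inv_cancel_left] }
  choose r hr using exists_mul_self h2
  have r0 : ∀ a : Fˣ, r a ≠ 0 := fun a h => a.ne_zero (by rw [← hr a, h, mul_zero])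
  choose k k1 k2 using fun a : Fˣ => sp_class S.nd hu0 (mem_Cs_of_Bl hy hy') (mem_Cs_of_Bl hy hy')
    (r0 a) (r0 a)
  have k3 : ∀ (a : Fˣ) (l : F), a * l ∈ tau f u (k a • ω) ↔ l ∈ tau f u ω := fun a l => by
    rw [← mem_tau_conj (l := l) hu (k1 a) (r0 a), Param.sp_σ, hr]
  have e1 := mu_ge_family S.nd hu hu0 (S.cl hu (S.pinv u)) (fun i : Fˣ ⧸ K => k i.out • ω)
    (fun i => S.inv _ trivial ω hω) (fun i => mem_Bl_conj hu (k1 _) (r0 _) (k2 _) hy)
    (fun i j h => by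
      rw [← i.out_eq, ← j.out_eq]
      refine QuotientGroup.eq.2 fun l => ?_
      rw [← k3 i.out, h.tau_eq hu, Units.val_mul, mul_assoc, Units.mul_inv_cancel_left, k3])
    (w := wt f u ω) fun i => (wt_conj hu (k1 _) (r0 _)).ge
  refine le_trans ?_ e1
  have e2 := K.card_eq_card_quotient_mul_card_subgroup
  have e3 := wt_mul_card (f := f) u ω
  have e4 := (tau f u ω).card_eq_card_quotient_mul_card_addSubgroup
  have e5 := two_le_wt h1
  rw [card_Lam_sp] at e3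
  rw [Nat.card_units] at e2
  obtain ⟨x, x1, x2⟩ : ∃ x ∈ tau f u ω, x ≠ 0 := by
    simpa [AddSubgroup.eq_bot_iff_forall] using h0
  obtain ⟨x', x3⟩ : ∃ x, x ∉ tau f u ω := by
    simpa [Lam_sp, AddSubgroup.eq_top_iff'] using h1
  have e6 : Nat.card K + 1 ≤ Nat.card (tau f u ω) := by
    rw [← Finite.card_option]
    refine Nat.card_le_card_of_injective (fun a => a.elim 0 fun a => ⟨a.1 * x, (a.2 x).2 x1⟩) ?_
    rintro (_ | a) (_ | b) h
    · rfl
    · exact absurd (Subtype.mk.inj h).symm (mul_ne_zero b.1.ne_zero x2)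
    · exact absurd (Subtype.mk.inj h) (mul_ne_zero a.1.ne_zero x2)
    · exact congrArg some (Subtype.ext (Units.ext (mul_right_cancel₀ x2 (Subtype.mk.inj h))))
  have e7 : Nat.card K + 1 ≤ Nat.card (F ⧸ tau f u ω) := by
    rw [← Finite.card_option]
    refine Nat.card_le_card_of_injective (fun a => a.elim 0 fun a => ((a.1 * x' : F) : _ ⧸ _)) ?_
    rintro (_ | a) (_ | b) h
    · rfl
    · exact absurd ((b.2 x').1 ((QuotientAddGroup.eq_zero_iff _).1 h.symm)) x3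
    · exact absurd ((a.2 x').1 ((QuotientAddGroup.eq_zero_iff _).1 h)) x3
    · by_contra hne
      have a1 : (b.1 : F) - a.1 ≠ 0 := fun e =>
        hne (congrArg some (Subtype.ext (Units.ext (sub_eq_zero.1 e).symm)))
      obtain ⟨⟨s, s1⟩, s2⟩ := (Finite.injective_iff_surjective (f := fun l : tau f u ω =>
        (⟨(b.1 - a.1) * l, by
          rw [sub_mul]; exact sub_mem ((b.2 _).2 l.2) ((a.2 _).2 l.2)⟩ : tau f u ω))).1
        (fun l l' h => Subtype.ext (mul_left_cancel₀ a1 (Subtype.mk.inj h)))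
        ⟨_, QuotientAddGroup.eq.1 h⟩
      exact x3 ((show s = x' from mul_left_cancel₀ a1 ((Subtype.mk.inj s2).trans (by ring))) ▸ s1)
  have e8 : Nat.card (F ⧸ tau f u ω) = wt f u ω :=
    Nat.eq_of_mul_eq_mul_right Nat.card_pos (e4.symm.trans e3.symm)
  rw [e8] at e7
  generalize Nat.card (Fˣ ⧸ K) = N at *
  generalize wt f u ω = w at *
  generalize Nat.card (tau f u ω) = t at *
  generalize Nat.card K = s at *
  have : 0 < Nat.card F := Nat.card_pos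
  have e9 : 3 ≤ N := by
    by_contra h
    have : N * s ≤ 2 * s := by gcongr; omega
    have : 2 * t ≤ w * t := by gcongr
    omega
  have : N * (s + 1) ≤ N * w := by gcongr
  exact_mod_cast (show Nat.card F + 2 ≤ N * w by rw [mul_add] at this; omega)

theorem fx_of_perp_le (h2 : (2 : F) = 0) (hf : f.Nondeg) (hS : ∀ z, f.B z w = 0 → z ∈ Sb f w ω)
    (hw0 : w ≠ 0) (hu : u ∉ F ∙ w) (huw : f.B w u = 0) {s : F} (h : Fx f u (s • w) l ω) (hl : l ≠ 0)
    (x : F) : Fx f w (x • u) (x * x / l) ω := by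
  obtain ⟨z, z1, z2⟩ := exists_B_two hf hw0 hu 0 (-(x / l))
  have z3 := f.B_eq_zero_symm z1
  have z4 : f.B z u = x / l := by rw [f.sp_symm, z2, neg_neg]
  obtain ⟨m, hm⟩ := (mem_Sb (f.sp_Q w)).1 (hS z z3)
  obtain ⟨g, g1, g2⟩ := h
  have := hm.map_fix g2
  rw [g1.apply_of_orth huw (by rw [sp_B_smul_right, sp_B_self, mul_zero]), sE_app g1, z4,
    sp_B_smul_right, z3, mul_zero, zero_add, mul_div_cancel₀ _ hl] at this
  refine ((((hm.inv (f.sp_Q w)).mul (f.sp_Q w) this).congr (v' := x • u + (x / l * s) • w)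
    (by module) rfl).of_add_self (f.sp_Q w) _).congr rfl ?_
  simp only [Param.sp_ε, Param.sp_σ, B_add_left, B_smul_left, B_neg_right, sp_B_self, z1, z2]
  linear_combination x / l * s * h2

theorem eq_of_perp_le (h2 : (2 : F) = 0) (hf : f.Nondeg) (hS : ∀ z, f.B z w = 0 → z ∈ Sb f w ω)
    (hw0 : w ≠ 0) (hu : u ∉ F ∙ w) (huw : f.B w u = 0) (ht : tau f w ω ≠ Lam (Param.sp F))
    {s s' l' : F} (h : Fx f u (s • w) l ω) (hl : l ≠ 0) (h' : Fx f u (s' • w) l' ω) (hl' : l' ≠ 0) :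
    l = l' := by
  by_contra hne
  refine ht (tau_eq_Lam_iff.2 fun m => ?_)
  have h0 : l' - l ≠ 0 := sub_ne_zero.2 (Ne.symm hne)
  obtain ⟨x, hx⟩ := exists_mul_self h2 (m * l * l' / (l' - l))
  refine ((fx_of_perp_le h2 hf hS hw0 hu huw h hl x).sub (f.sp_Q w)
    (fx_of_perp_le h2 hf hS hw0 hu huw h' hl' x)).congr rfl ?_
  rw [hx]
  field_simp

omit [Finite F] [Finite V] in
theorem fx_self (h2 : (2 : F) = 0) (s : F) : Fx f u (s • u) 0 ω := by
  refine ((Fx.zero u ω).add_self (f.sp_Q u) s).congr (zero_add _) ?_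
  simp only [Param.sp_ε, Param.sp_σ]
  linear_combination -s * h2

theorem exists_not_fx (h2 : (2 : F) = 0) (hf : f.Nondeg) (h3 : 3 ≤ finrank F V) (hu0 : u ≠ 0)
    (ht : tau f u ω ≠ Lam (Param.sp F)) : ∃ w ∈ Cs f u, ¬ Fx f u w 0 ω := by
  by_contra h
  push Not at h
  have h1 : ∀ w, f.B w u = 0 → Fx f u w 0 ω := fun w hw => by
    by_cases e : w ∈ F ∙ u
    · obtain ⟨s, rfl⟩ := Submodule.mem_span_singleton.1 e
      exact fx_self h2 s
    · exact h w ⟨hw, f.sp_Q w, e⟩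
  obtain ⟨y, y', hy, hy', hb⟩ := exists_pair_perp hf h3 hu0
  refine ht (tau_eq_Lam_iff.2 fun l => ?_)
  simpa [hb] using ((h1 y' hy'.1).mul (f.sp_Q u) (h1 (l • y) (by simp [hy.1]))).sub (f.sp_Q u)
    (h1 _ (by simp [hy.1, hy'.1]))

theorem Sys.sp_exists_bot (S : Sys f ⊤ Y) (h3 : 3 ≤ finrank F V) (hq : 3 ≤ Nat.card F)
    (hlt : ∀ u, u ≠ 0 → ∀ y ∈ Cs f u, mu c f u Y y < Nat.card F + 2) (hω : ω ∈ Y) :
    ∃ u, u ≠ 0 ∧ tau f u ω = ⊥ ∧ ∃ y ∈ Bl c f u ω, y ∉ F ∙ u := by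
  have key : ∀ u, (¬ ∃ y ∈ Bl c f u ω, y ∉ F ∙ u) → ∀ z, f.B z u = 0 → z ∈ Sb f u ω :=
    fun u h z => mem_Sb_of_Bl_le (c := c) S.nd (by simpa using h)
  by_cases h2 : (2 : F) = 0
  swap
  · obtain ⟨u, hu0, h⟩ := S.sp_tau_bot h2 h3 hω
    refine ⟨u, hu0, h, by_contra fun hc => ?_⟩
    obtain ⟨y, y', hy, hy', hb⟩ := exists_pair_perp S.nd h3 hu0
    have := comm_mem_tau (f.sp_Q u) (key u hc y' hy'.1) (key u hc y hy.1)
    rw [h, AddSubgroup.mem_bot, f.sp_symm y y', hb] at this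
    exact h2 (by linear_combination this)
  have key2 : ∀ u, u ≠ 0 → tau f u ω ≠ Lam (Param.sp F) → (∃ y ∈ Bl c f u ω, y ∉ F ∙ u) →
      ∃ u, u ≠ 0 ∧ tau f u ω = ⊥ ∧ ∃ y ∈ Bl c f u ω, y ∉ F ∙ u := fun u hu0 h1 ⟨y, hy, hy'⟩ =>
    ⟨u, hu0, by_contra fun h => (hlt u hu0 y (mem_Cs_of_Bl hy hy')).not_ge
      (S.sp_mid h2 hu0 hω hy hy' h h1), y, hy, hy'⟩
  obtain ⟨u, hu0, h1⟩ := S.exists_tau_ne hω
  by_cases hc : ∃ y ∈ Bl c f u ω, y ∉ F ∙ u
  · exact key2 u hu0 h1 hc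
  obtain ⟨w, hw, h4⟩ := exists_not_fx h2 S.nd h3 hu0 h1
  have hw0 : w ≠ 0 := fun h => hw.2.2 (h ▸ zero_mem _)
  obtain ⟨b, hb0, hb1⟩ := exists_ne_zero_one hq
  have h5 := fun s s' l l' => eq_of_perp_le (s := s) (s' := s') (l := l) (l' := l') h2 S.nd
    (key u hc) hu0 hw.2.2 (f.B_eq_zero_symm hw.1) h1
  refine key2 w hw0 (fun h => hb1 (h5 0 0 _ _ (by simpa using tau_eq_Lam_iff.1 h b) hb0
    (by simpa using tau_eq_Lam_iff.1 h 1) one_ne_zero)) (by_contra fun h => ?_)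
  obtain ⟨l, hl⟩ := (mem_Sb (f.sp_Q u)).1 (key u hc w hw.1)
  have hl0 : l ≠ 0 := by rintro rfl; exact h4 hl
  have h6 := fx_of_perp_le (s := 1) h2 S.nd (key w h) hw0 (not_mem_span_symm hu0 hw.2.2) hw.1
    (by rwa [one_smul]) hl0
  have h7 := h5 _ _ _ _ (h6 b) (by simp [hb0, hl0]) (h6 1) (by simp [hl0])
  rw [div_left_inj' hl0] at h7
  exact hb1 (sub_eq_zero.1 (mul_self_eq_zero.1 (by linear_combination h7 + (1 - b) * h2)))

theorem totSing_of_bot (hq : 3 ≤ Nat.card F) (ht : tau f u ω = ⊥)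
    (hS : ∀ v, f.B v u = 0 → f.B v y = 0 → v ∈ Sb f u ω)
    (hs : ∀ k : f.Isom, k.1 u = u → k.1 y = y → SO f u ω (k • ω)) (h1 : f.B v u = 0)
    (h2 : f.B v y = 0) (h3 : f.B z u = 0) (h4 : f.B z y = 0) : f.B v z = 0 := by
  have hu := f.sp_Q u
  by_cases h0 : (2 : F) = 0
  swap
  · have := comm_mem_tau hu (hS z h3 h4) (hS v h1 h2)
    rw [ht, AddSubgroup.mem_bot, f.sp_symm v z] at this
    exact (mul_eq_zero.1 (by linear_combination this)).resolve_left h0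
  by_contra hb
  have key : ∀ a : F, a ≠ 0 → Fx f u z (a * f.B v z) ω := fun a ha => by
    obtain ⟨m, hm⟩ := (mem_Sb hu).1 (hS (a • v) (by simp [h1]) (by simp [h2]))
    have k1 := str_orth (l := (a * f.B v z)⁻¹) (f.B_eq_zero_symm h3)
    have := hm.map (str f z (a * f.B v z)⁻¹)
    rw [k1, str_apply, B_smul_left, inv_mul_cancel₀ (mul_ne_zero ha hb), one_smul] at this
    refine ((hm.inv hu).mul hu (this.char_two h0
      ((hs _ k1 (str_orth (f.B_eq_zero_symm h4))).symm hu))).congr (by abel) ?_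
    simp [sp_B_self, f.sp_symm v z]
  obtain ⟨b, hb0, hb1⟩ := exists_ne_zero_one hq
  have := ((key b hb0).sub hu (key 1 one_ne_zero)).mem_tau
  rw [ht, AddSubgroup.mem_bot, ← sub_mul, mul_eq_zero, sub_eq_zero] at this
  exact this.elim hb1 hb

end Cfsg.Agent.MI
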