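import Cfsg.Agent.Lib.MI.P2
import Cfsg.Agent.Lib.MI.O9

/-!
Small transitive actions of symplectic groups: regular orbits.
-/

set_option autoImplicit false

namespace Cfsg.Agent.MI

open Module Cfsg.Agent.Forms Cfsg.Agent.Forms.Form Cfsg.Agent.Cls Cfsg.Agent.Deg Finset

variable {F : Type*} [Field F] {V : Type*} [AddCommGroup V] [Module F V]
  {f : Form (Param.sp F) V} {u y z v w e p : V} {l : F}
  {X : Type*} [MulAction f.Isom X] {c : Chr (Param.sp F)} {ω ω' : X} {Y Y' : Finset X}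

theorem tau_zero_sp : tau f 0 ω = Lam (Param.sp F) :=
  tau_eq_Lam_iff.2 fun l => ⟨1, ⟨by simp, f.sp_isLam _ _, fun w => by simp⟩, one_smul _ _⟩

theorem mem_span_of_pair (he : f.HypPair u e) {s t s' t' : F} (h0 : s • u + t • e ≠ 0)
    (h : f.B (s' • u + t' • e) (s • u + t • e) = 0) : s' • u + t' • e ∈ F ∙ (s • u + t • e) := by
  simp only [B_add_left, B_add_right, B_smul_left, sp_B_smul_right, sp_B_self, he.Bue, he.Beu,
    Param.sp_ε] at h
  rw [Submodule.mem_span_singleton]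
  by_cases hs : s = 0
  · have ht : t ≠ 0 := by rintro rfl; simp [hs] at h0
    have : s' = 0 := (mul_eq_zero.1 (by rw [hs] at h; linear_combination h)).resolve_right ht
    exact ⟨t' / t, by rw [hs, this]; match_scalars <;> field_simp; ring⟩
  · exact ⟨s' / s, by match_scalars <;> field_simp; linear_combination h⟩

theorem mem_Sb_of_tau (h0 : f.B v z = 0) (h : tau f v ω = Lam (Param.sp F))
    (h' : tau f (v + z) ω = Lam (Param.sp F)) : v ∈ Sb f z ω := by
  simpa using (fx_of_tau_two (ω := ω) (a := 1) (a' := 0) (l := 1) (f.sp_Q z) (f.sp_Q v) h0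
    (by rw [one_smul, h']; exact lam0_sp 1) (by rw [zero_smul, add_zero, h]; exact lam0_sp 1)).mem_Sb

variable [Finite F] [Finite V]

theorem card_sing_sp : {w | f.Q w = 0 ∧ w ≠ 0}.ncard + 1 = Nat.card V := by
  rw [ncard_sing_add_one]
  exact Nat.card_congr (Equiv.subtypeUnivEquiv f.sp_Q)

theorem card_hyp_sp (hf : f.Nondeg) (hu0 : u ≠ 0) :
    {e | f.HypPair u e}.ncard = Nat.card (f.orth (F ∙ u)) := by
  obtain ⟨c⟩ := exists_chr_sp F
  have := card_hyp c hf (f.sp_Q u) hu0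
  rw [card_Lam_sp] at this
  exact Nat.eq_of_mul_eq_mul_right Nat.card_pos this

theorem Sys.sp_full_le (S : Sys f ⊤ Y) (hω : ω ∈ Y) (hp : p ≠ 0) (h : Full f p ω)
    (h' : ∀ w, w ≠ 0 → Full f w ω → w ∈ F ∙ p) : Nat.card V + Y.card ≤ Nat.card F * Y.card + 1 := by
  classical
  have e1 := S.double_count (Full f) (fun g _ _ _ h => h.map g) (fun _ _ _ ha _ h => h.smul ha)
    (f.sp_Q p) hp hω
  have e2 : {w | (f.Q w = 0 ∧ w ≠ 0) ∧ Full f w ω}.ncard + 1 ≤ Nat.card F := by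
    rw [← ncard_span hp, ← Set.ncard_insert_of_notMem (a := 0) (by simp)]
    refine Set.ncard_le_ncard ?_
    rintro w (rfl | hw)
    exacts [zero_mem _, h' w hw.1.2 hw.2]
  have e3 := card_pos.2 ⟨ω, mem_filter.2 ⟨hω, h⟩⟩
  have e4 := Nat.mul_le_mul_right Y.card e2
  rw [← card_sing_sp (f := f)]
  nlinarith

theorem tau_of_full (hf : f.Nondeg) (hp : p ≠ 0) (h : Full f p ω) (hv : f.B p v ≠ 0)
    (ht : tau f v ω = Lam (Param.sp F)) (w : V) : tau f w ω = Lam (Param.sp F) := by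
  have key : ∀ w, f.B p w ≠ 0 → tau f w ω = Lam (Param.sp F) := fun w hw => by
    obtain ⟨g, x, l, s, hs, g1, g2⟩ := exists_isE_map (f.sp_Q p) (f.sp_Q v) (f.sp_Q w) hv hw
    exact h.smul_eq g1 ▸ tau_conj_eq_Lam (f.sp_Q v) ht g2 hs
  by_cases h1 : f.B p w = 0
  swap
  · exact key w h1
  by_cases hw : w = 0
  · exact hw ▸ tau_zero_sp
  obtain ⟨z, -, z1, z2⟩ := exists_nonorth hf sp_big (f.sp_Q p) hp (f.sp_Q w) hw
  simpa using tau_add (key z (B_ne_symm z1)) (key (w + z) (by simpa [h1] using B_ne_symm z1))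
    (by simpa [sp_B_self] using B_ne_symm z2) (-1)

theorem tau_of_central (hf : f.Nondeg) (he : f.HypPair u e) (hq : 4 ≤ Nat.card F)
    (h1 : f.B z u = 0) (h2 : f.B z e = 0) (h : ∀ k : f.Isom, k.1 u = u → k.1 e = e → ∀ a : F, a ≠ 0 →
      k.1 z = a • z → ∃ (l : F) (g : f.Isom), IsE g u 0 l ∧ g • ω = k • ω) :
    tau f z ω = Lam (Param.sp F) := by
  cases nonempty_fintype F
  by_cases hz : z = 0
  · exact hz ▸ tau_zero_sp
  obtain ⟨x, hx, x1⟩ := hf.exists_hypPair_orth (f.sp_Q z) (H := Submodule.span F {u, e})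
    (not_mem_of_nondeg le_rfl (he.restrict_orth_nondeg hf) (mem_orth_pair.2 ⟨h1, h2⟩) hz)
    (mem_orth'.1 (mem_orth_pair.2 ⟨h1, h2⟩))
  obtain ⟨b, hb, hb'⟩ := exists_sq_ne_one hq
  have hb1 : 1 - b * b ≠ 0 := sub_ne_zero.2 hb'.symm
  refine tau_eq_Lam_iff.2 fun l => ?_
  have k1 := str_orth (l := l / (1 - b * b)) (f.B_eq_zero_symm h1)
  have k2 := hx.hscale_of_orth b⁻¹ (inv_ne_zero hb) (f.B_eq_zero_symm h1)
    (x1 u (Submodule.subset_span (by simp)))
  obtain ⟨m, g, g1, g2⟩ := h _ k1 (str_orth (f.B_eq_zero_symm h2)) 1 one_ne_zero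
    (by rw [str_orth (f.sp_B_self z), one_smul])
  obtain ⟨m', g', g3, g4⟩ := h _ k2 (hx.hscale_of_orth _ _ (f.B_eq_zero_symm h2)
    (x1 e (Submodule.subset_span (by simp)))) _ (inv_ne_zero hb) (hx.hscale_u _ _)
  refine ⟨_, ?_, comm_of_central he.Qu k1 k2 g1 g3 g2 g4⟩
  have := ((isE_str (f := f) z (l / (1 - b * b))).inv (f.sp_Q z)).of_conj
    (k := (hx.hscale b⁻¹ (inv_ne_zero hb))⁻¹) (a := b) (u' := z) (by
      rw [← inv_smul_eq_iff₀ hb, ← map_smul, ← hx.hscale_u _ (inv_ne_zero hb), Isom.inv_apply]) hb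
  rw [inv_inv] at this
  refine (this.mul (f.sp_Q z) (isE_str z _)).congr (by simp) ?_
  simp only [Param.sp_ε, Param.sp_σ, B_zero_left]
  linear_combination mul_div_cancel₀ l hb1

theorem tau_of_central' (hf : f.Nondeg) (he : f.HypPair u e) (h0 : (2 : F) ≠ 0)
    (h5 : 5 ≤ finrank F V) (h1 : f.B z u = 0) (h2 : f.B z e = 0)
    (h : ∀ k : f.Isom, k.1 u = u → k.1 e = e → ∃ (l : F) (g : f.Isom), IsE g u 0 l ∧ g • ω = k • ω) :
    tau f z ω = Lam (Param.sp F) := by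
  by_cases hz : z = 0
  · exact hz ▸ tau_zero_sp
  obtain ⟨y, y', hy, hy', hb⟩ := exists_pair_perp (he.restrict_orth_nondeg hf)
    (by have := he.finrank_orth hf; omega) (u := ⟨z, mem_orth_pair.2 ⟨h1, h2⟩⟩)
    fun h => hz (congrArg Subtype.val h)
  refine tau_eq_Lam_iff.2 fun l => ?_
  obtain ⟨k, k1⟩ := exists_isE (f := f) (f.sp_Q z) (v := y.1) hy.1 (f.sp_isLam _ 0)
  obtain ⟨k', k2⟩ := exists_isE (f.sp_Q z) (v := (l / 2) • y'.1) (by
    rw [f.B_smul_left, show f.B y' z = 0 from hy'.1, mul_zero]) (f.sp_isLam _ 0)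
  have a1 := fun x (hx : x ∈ Submodule.span F {u, e}) => k1.apply_of_orth
    (mem_orth'.1 (mem_orth_pair.2 ⟨h1, h2⟩) x hx) (mem_orth'.1 y.2 x hx)
  have a2 := fun x (hx : x ∈ Submodule.span F {u, e}) => k2.apply_of_orth
    (mem_orth'.1 (mem_orth_pair.2 ⟨h1, h2⟩) x hx) (mem_orth'.1 (Submodule.smul_mem _ _ y'.2) x hx)
  have mu' : u ∈ Submodule.span F {u, e} := Submodule.subset_span (by simp)
  have me : e ∈ Submodule.span F {u, e} := Submodule.subset_span (by simp)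
  obtain ⟨m, g, g1, g2⟩ := h k (a1 u mu') (a1 e me)
  obtain ⟨m', g', g3, g4⟩ := h k' (a2 u mu') (a2 e me)
  refine ⟨_, ((((k2.inv (f.sp_Q z)).mul (f.sp_Q z) (k1.inv (f.sp_Q z))).mul (f.sp_Q z) k2).mul
    (f.sp_Q z) k1).congr (by abel) ?_, comm_of_central he.Qu (a1 u mu') (a2 u mu') g1 g3 g2 g4⟩
  change f.B y y' = 1 at hb
  simp only [Param.sp_ε, Param.sp_σ, B_neg_left, B_neg_right, B_add_right, B_smul_left,
    sp_B_smul_right, sp_B_self, f.sp_symm y y', hb]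
  field_simp
  ring

theorem Sys.sp_not_light (S : Sys f ⊤ Y) (hB : Nat.card F * Y.card + 1 < Nat.card V + Y.card)
    (hq : 3 ≤ Nat.card F) (h4 : 4 ≤ finrank F V) (hω : ω ∈ Y) (he : f.HypPair u e) {x : V}
    (hx : f.HypPair z x) (z1 : f.B z u = 0) (z2 : f.B z e = 0) (x1 : f.B x u = 0) (x2 : f.B x e = 0)
    (hW : ∀ z, f.B z u = 0 → f.B z e = 0 → tau f z ω = Lam (Param.sp F))
    (h : ∀ v ∈ Sb f z ω, v ∈ F ∙ z) : False := by
  classical
  obtain ⟨c⟩ := exists_chr_sp F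
  obtain ⟨b, hb0, hb1⟩ := exists_ne_zero_one hq
  have hz := f.sp_Q z
  have key : ∀ w, tau f w ω = Lam (Param.sp F) → f.B w z ≠ 0 → ∃ s t : F, s • z + t • x = w :=
    fun w h1 h2 => by
    have a1 := tau_smul_eq_Lam (f.sp_Q w) h1 (neg_ne_zero.2 (inv_ne_zero h2))
    have a2 : f.B (-(f.B w z)⁻¹ • w) z = -1 := by simp [h2]
    generalize e : -(f.B w z)⁻¹ • w = w' at a1 a2
    have a3 : ∀ s, s ≠ 0 → tau f (w' - x + (s - f.B w' x) • z) ω = Lam (Param.sp F) := fun s hs => by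
      have := tau_add (hW x x1 x2) (tau_add (hW z z1 z2) a1 (by simp [a2]) (s - f.B w' x))
        (by simpa [hx.Bue]) (-1)
      convert this using 2
      module
    have a4 := h _ (fx_of_tau_two (ω := ω) (l := 1) (y := w' - x) hz (f.sp_Q _) (by simp [a2, hx.Beu])
      (by rw [a3 b hb0]; exact lam0_sp 1) (by rw [a3 1 one_ne_zero]; exact lam0_sp 1)).mem_Sb
    obtain ⟨s, hs⟩ := Submodule.mem_span_singleton.1 ((Submodule.smul_mem_iff _
      (by simpa [sub_eq_zero] using hb1)).1 a4)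
    have e' : w = -f.B w z • w' := by simp [← e, smul_smul, h2]
    exact ⟨-(f.B w z * s), -f.B w z, by linear_combination (norm := module) -f.B w z • hs - e'⟩
  have e1 := S.double_count (fun w ω => tau f w ω = Lam (Param.sp F))
    (fun g _ _ _ h => (tau_map g).trans h) (fun _ _ _ ha hu h => tau_smul_eq_Lam hu h ha) hz
    hx.u_ne_zero hω
  have e2 := card_ge_orbit (c := c) S.nd hz hx.u_ne_zero (S.cl hz ((S.pinv z).filter
    (p := fun ω => tau f z ω = Lam (Param.sp F)) fun k _ a ha hk ω h => tau_conj_eq_Lam hz h hk ha))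
    (mem_filter.2 ⟨hω, hW z z1 z2⟩)
  rw [card_Bl_of_Sb_le hz h, card_perp_pow S.nd hx.u_ne_zero (k := finrank F V - 1) (by omega)] at e2
  have e3 : {w | (f.Q w = 0 ∧ w ≠ 0) ∧ tau f w ω = Lam (Param.sp F)}.ncard ≤
      Nat.card F * Nat.card F + Nat.card F * Nat.card F := by
    refine le_trans (Set.ncard_le_ncard ?_) ((Set.ncard_union_le _ _).trans
      (add_le_add (ncard_span_pair_le z x) (ncard_span_pair_le u e)))
    rintro w ⟨-, hw⟩
    by_cases a1 : f.B w z = 0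
    swap
    · exact Or.inl (key w hw a1)
    by_cases a2 : f.B w x = 0
    swap
    · obtain ⟨s, t, e⟩ := key _ (tau_add (hW x x1 x2) hw a2 1) (by simp [a1, hx.Beu])
      exact Or.inl ⟨s, t - 1, by linear_combination (norm := module) e⟩
    obtain ⟨s, t, w, w1, w2, rfl⟩ := he.exists_decomp w
    simp only [B_add_left, B_smul_left, f.B_eq_zero_symm z1, f.B_eq_zero_symm z2, mul_zero,
      f.B_eq_zero_symm x1, f.B_eq_zero_symm x2, zero_add] at a1 a2
    obtain ⟨r, rfl⟩ := Submodule.mem_span_singleton.1 (h w (mem_Sb_of_tau a1 (hW w w1 w2)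
      (hW _ (by simp [w1, z1]) (by simp [w2, z2]))))
    rw [B_smul_left, hx.Bue, mul_one] at a2
    exact Or.inr ⟨s, t, by simp [a2]⟩
  have e4 := (Nat.pow_le_pow_right Nat.card_pos (show 3 ≤ finrank F V - 1 by omega)).trans
    ((Nat.le_mul_of_pos_right _ (wt_pos z ω)).trans e2)
  rw [pow_succ', Nat.mul_le_mul_left_iff Nat.card_pos] at e4
  rw [← card_sing_sp (f := f)] at hB
  have e5 := Nat.mul_le_mul_right Y.card e3
  have e6 := Nat.mul_le_mul_left {w | f.Q w = 0 ∧ w ≠ 0}.ncard e4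
  have e7 : 3 * Y.card ≤ Nat.card F * Y.card := by gcongr
  have e8 : 0 < Nat.card F ^ 2 := by positivity
  nlinarith

theorem full_of_swap (hf : f.Nondeg) (hq : 3 ≤ Nat.card F) (he : f.HypPair u e) {x : V}
    (hx : f.HypPair z x) (x1 : f.B x u = 0) (x2 : f.B x e = 0)
    (hW : ∀ z, f.B z u = 0 → f.B z e = 0 → tau f z ω = Lam (Param.sp F)) {s t : F}
    (hp : s • u + t • e ≠ 0) (h : ∀ r : F, Fx f (s • u + t • e) (r • z) 0 ω) :
    Full f (s • u + t • e) ω := by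
  obtain ⟨b, hb0, hb1⟩ := exists_ne_zero_one hq
  have hu := f.sp_Q (s • u + t • e)
  have key : ∀ v, f.B v u = 0 → f.B v e = 0 → f.B z v ≠ 0 → ∀ a : F, a ≠ 0 →
      Fx f (s • u + t • e) v (a * f.B z v) ω := fun v v1 v2 v3 a ha => by
    have := (h a).map_fix (str_smul_eq (hW v v1 v2) (a * f.B z v)⁻¹)
    rw [str_orth (by simp [f.B_eq_zero_symm v1, f.B_eq_zero_symm v2]), str_apply, B_smul_left,
      inv_mul_cancel₀ (mul_ne_zero ha v3), one_smul] at this
    refine (((h a).inv hu).mul hu this).congr (by abel) ?_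
    simp [sp_B_self, f.sp_symm z v]
  refine full_of hu (fun v hv => ?_) (tau_eq_Lam_iff.2 fun l => ?_)
  · obtain ⟨s', t', v, v1, v2, rfl⟩ := he.exists_decomp v
    obtain ⟨r, hr⟩ := Submodule.mem_span_singleton.1 (mem_span_of_pair he hp (s' := s') (t' := t')
      (by rwa [B_add_left _ _ v, B_add_right _ v, sp_B_smul_right, sp_B_smul_right, v1, v2, mul_zero,
        mul_zero, add_zero, add_zero] at hv))
    refine add_mem (hr ▸ smul_self_mem_Sb r) ?_
    by_cases h0 : f.B z v = 0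
    · simpa using sub_mem (key (v + x) (by simp [v1, x1]) (by simp [v2, x2]) (by simp [h0, hx.Bue]) 1
        one_ne_zero).mem_Sb (key x x1 x2 (by simp [hx.Bue]) 1 one_ne_zero).mem_Sb
    · exact (key v v1 v2 h0 1 one_ne_zero).mem_Sb
  · by_cases hl : l = 0
    · exact hl ▸ Fx.zero _ _
    have hb2 := sub_ne_zero.2 hb1
    have := key ((l / (b - 1)) • x) (by simp [x1]) (by simp [x2]) (by simp [hx.Bue, hl, hb2])
    refine ((this b hb0).sub hu (this 1 one_ne_zero)).congr rfl ?_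
    rw [sp_B_smul_right, hx.Bue]
    field_simp

end Cfsg.Agent.MI
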