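import Cfsg.Agent.Lib.MI.P3

/-!
The minimal index of a proper subgroup of a symplectic group over a field with at least three
elements.
-/

set_option autoImplicit false

namespace Cfsg.Agent.MI

open Module Cfsg.Agent.Forms Cfsg.Agent.Forms.Form Cfsg.Agent.Cls Cfsg.Agent.Deg Finset

variable {F : Type*} [Field F] {V : Type*} [AddCommGroup V] [Module F V]
  {f : Form (Param.sp F) V} {u y z v w e p : V} {l : F}
  {X : Type*} [MulAction f.Isom X] {c : Chr (Param.sp F)} {ω ω' : X} {Y Y' : Finset X}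
  [Finite F] [Finite V]

theorem Lam_sp_ne_bot : Lam (Param.sp F) ≠ ⊥ := fun h =>
  one_ne_zero (AddSubgroup.mem_bot.1 (h.le (lam0_sp (1 : F))))

theorem Sys.sp_not_reg (S : Sys f ⊤ Y) (hB : Nat.card F * Y.card + 1 < Nat.card V + Y.card)
    (hq : 3 ≤ Nat.card F) (h4 : 4 ≤ finrank F V) (hexc : 4 ≤ Nat.card F ∨ 5 ≤ finrank F V)
    (hω : ω ∈ Y) (hu0 : u ≠ 0) : ¬ Reg f u ω := fun hr => by
  classical
  cases nonempty_fintype F
  obtain ⟨c⟩ := exists_chr_sp F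
  have hu := f.sp_Q u
  obtain ⟨e, he⟩ := S.nd.exists_hypPair hu hu0
  obtain ⟨b, hb0, hb1⟩ := exists_ne_zero_one hq
  have so : ∀ k : f.Isom, ∀ a : F, a ≠ 0 → k.1 u = a • u → SO f u ω (k • ω) := fun k a ha hk =>
    S.so_of_reg c hu hu0 hω hr (S.inv k trivial ω hω) (hr.conj hu hk ha) (by
      rw [card_hyp_sp S.nd hu0]
      rw [← card_perp S.nd hu0] at hB
      nlinarith)
  obtain ⟨ω', s1, hc⟩ := levi_central he hb0 hb1 (fun v hv _ => by
    obtain ⟨s, rfl⟩ := Submodule.mem_span_singleton.1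
      ((Submodule.smul_mem_iff _ (sub_ne_zero.2 hb1)).1 (hr.1 _ hv))
    exact smul_self_mem_Sb s) (so _ b hb0 (he.hscale_u b hb0))
  replace hc := fun k k1 k2 => hc k k1 k2 (so k 1 one_ne_zero (by rw [k1, one_smul]))
  have hr' := hr
  replace hr : tau f u ω' = ⊥ := s1.tau_eq hu ▸ hr.2
  have hω' := S.cl hu (S.pinv u) ω hω ω' s1
  have hW : ∀ z, f.B z u = 0 → f.B z e = 0 → tau f z ω' = Lam (Param.sp F) := fun z h1 h2 => by
    by_cases h : 4 ≤ Nat.card F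
    · exact tau_of_central S.nd he h h1 h2 fun k k1 k2 _ _ _ => hc k k1 k2
    · exact tau_of_central' S.nd he (fun h2 => by
        have := even_card h2
        rw [show Nat.card F = 3 by omega] at this
        exact absurd this (by decide)) (hexc.resolve_left h) h1 h2 hc
  have : Nontrivial (f.orth (Submodule.span F {u, e})) :=
    (finrank_pos_iff (R := F)).1 (by have := he.finrank_orth S.nd; omega)
  obtain ⟨⟨z, hz⟩, hz0⟩ := exists_ne (0 : f.orth (Submodule.span F {u, e}))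
  replace hz0 : z ≠ 0 := fun h => hz0 (Subtype.ext h)
  obtain ⟨x, hx, x0⟩ := S.nd.exists_hypPair_orth (f.sp_Q z) (H := Submodule.span F {u, e})
    (not_mem_of_nondeg le_rfl (he.restrict_orth_nondeg S.nd) hz hz0) (mem_orth'.1 hz)
  have x1 := f.B_eq_zero_symm (x0 u (Submodule.subset_span (by simp)))
  have x2 := f.B_eq_zero_symm (x0 e (Submodule.subset_span (by simp)))
  obtain ⟨z1, z2⟩ := mem_orth_pair.1 hz
  obtain ⟨y, hy⟩ : ∃ y, ∀ a ∈ Bl c f z ω', ∃ s t : F, s • z + t • y = a := by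
    by_cases h : ∃ y ∈ Bl c f z ω', y ∉ F ∙ z
    swap
    · push Not at h
      exact ⟨0, fun a ha => by
        obtain ⟨s, rfl⟩ := Submodule.mem_span_singleton.1 (h a ha)
        exact ⟨s, 0, by simp⟩⟩
    obtain ⟨y, y1, y2⟩ := h
    have hY := (S.pinv z).not_reg (f.sp_Q z)
    refine ⟨y, (S.sp_line_or_top hz0 hY (mem_filter.2 ⟨hω', fun h => Lam_sp_ne_bot
      ((hW z z1 z2).symm.trans h.2)⟩) y1 y2 fun y hy => ?_).resolve_right
      (S.sp_not_light hB hq h4 hω' he hx z1 z2 x1 x2 hW)⟩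
    obtain ⟨ω₁, a1, a2⟩ := S.exists_reg hω hu hu0 hr' (f.sp_Q z) hz0
    have a3 := S.card_not_reg c (f.sp_Q z) hz0 a1 a2
    have a4 := sp_mu_le (c := c) S.nd hz0 hY hy
    rw [card_hyp_sp S.nd hz0] at a3
    rw [← card_perp S.nd hz0] at hB
    by_contra h
    have a5 := (mul_le_mul_of_nonneg_right ((show (2 : ℚ) ≤ _ by linarith [one_le_wt (f := f) z ω']).trans
      (not_lt.1 h)) (by positivity)).trans a4
    norm_cast at a5
    obtain ⟨r, hr⟩ : ∃ r, Nat.card F = r + 3 := ⟨_, (Nat.sub_add_cancel hq).symm⟩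
    rw [hr] at a5 hB
    nlinarith [Nat.mul_le_mul_left (r + 2) a3, Nat.mul_le_mul_left (r + 2) a5]
  obtain ⟨s, t, hp, p1⟩ : ∃ s t : F, s • u + t • e ≠ 0 ∧ f.B (s • u + t • e) y = 0 := by
    by_cases h : f.B u y = 0
    · exact ⟨1, 0, by simpa, by simpa⟩
    · refine ⟨f.B e y, -f.B u y, fun h' => h ?_, by simp [mul_comm]⟩
      simpa [he.Beu, sp_B_self] using congrArg (fun x => f.B x u) h'
  have p2 : ∀ x, f.B x u = 0 → f.B x e = 0 → f.B (s • u + t • e) x = 0 := fun x h1 h2 => by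
    simp [f.B_eq_zero_symm h1, f.B_eq_zero_symm h2]
  have hF := full_of_swap S.nd hq he hx x1 x2 hW hp (Fx.smul_swap (f.sp_Q z) (f.sp_Q _) (p2 z z1 z2)
    fun r => fx_of_tau (f.sp_Q z) (hW z z1 z2) (mem_Sb_of_line S.nd hy
      (by rw [B_smul_left, p2 z z1 z2, mul_zero]) (by rw [B_smul_left, p1, mul_zero]))
      (f.sp_isLam _ _))
  refine (S.sp_full_le hω' hp hF fun w hw0 hw => ?_).not_gt hB
  by_cases h : ∀ x, f.B x u = 0 → f.B x e = 0 → f.B w x = 0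
  · obtain ⟨s', t', rfl⟩ := mem_span_pair_of_perp S.nd h
    exact mem_span_of_pair he hp (S.not_full_pair hω' hw hF (f.sp_Q _) (f.sp_Q _))
  · push Not at h
    obtain ⟨x, h1, h2, h3⟩ := h
    exact absurd ((tau_of_full S.nd hw0 hw h3 (hW x h1 h2) u).symm.trans hr) Lam_sp_ne_bot

omit [Finite F] in
theorem le_of_card_lt_two_mul {A B : AddSubgroup V} (h : A ≤ B)
    (hc : Nat.card B < 2 * Nat.card A) : B ≤ A := by
  obtain ⟨j, hj⟩ := AddSubgroup.card_dvd_of_le h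
  refine (AddSubgroup.eq_of_le_of_card_ge h ?_).ge
  have : j < 2 := by
    by_contra h
    nlinarith
  rw [hj]
  interval_cases j <;> simp

omit [Finite F] [Finite V] in
theorem exists_Bl_conj {P : Param F} {f : Form P V} [MulAction f.Isom X] {c : Chr P} {k : f.Isom}
    {a : F} (hz : f.Q z = 0) (hk : k.1 u = a • z) (ha : a ≠ 0) (h : ∃ y ∈ Bl c f u ω, y ∉ F ∙ u) :
    ∃ y ∈ Bl c f z (k • ω), y ∉ F ∙ z := by
  obtain ⟨y, h1, h2⟩ := h
  refine ⟨a⁻¹ • k.1 y, ?_, fun h => h2 ?_⟩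
  · rw [← smul_mem_Bl_smul hz ha, smul_inv_smul₀ ha, ← hk]
    exact map_mem_Bl k h1
  · obtain ⟨s, hs⟩ := Submodule.mem_span_singleton.1 h
    refine Submodule.mem_span_singleton.2 ⟨s, k.1.injective ?_⟩
    rw [map_smul, hk, smul_comm, hs, smul_inv_smul₀ ha]

theorem card_full_pair {P : Param F} {f : Form P V} [MulAction f.Isom X] (hf : f.Nondeg)
    (hz0 : z ≠ 0) (h : Full f z ω) (h' : Full f w ω) (hw : w ∉ F ∙ z) (hwz : f.B w z = 0)
    (hz : f.Q z = 0 := by exact sp_Q _ _) (hw' : f.Q w = 0 := by exact sp_Q _ _) :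
    Nat.card F ^ 2 ≤ {v | (f.Q v = 0 ∧ v ≠ 0) ∧ Full f v ω}.ncard + 1 := by
  rw [sq, ← Nat.card_prod, ← Set.ncard_univ, ← Set.ncard_insert_of_notMem (a := 0) (by simp)]
  refine Set.ncard_le_ncard_of_injOn (fun p => p.1 • z + p.2 • w) (fun ⟨s, t⟩ _ => ?_)
    fun p _ p' _ e => ?_
  · by_cases h0 : s • z + t • w = 0
    · exact Or.inl h0
    refine Or.inr ⟨⟨by rw [add_comm, Q_add_smul hz (by simp [hwz]), f.Q_smul, hw', mul_zero], h0⟩, ?_⟩
    by_cases ht : t = 0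
    · simpa [ht] using h.smul (a := s) (by rintro rfl; simp [ht] at h0)
    obtain ⟨v, v1, v2⟩ := exists_B_two hf hz0 hw 0 (-(P.ε * (s / t)))
    obtain ⟨l, hl⟩ := f.exists_isLam v
    obtain ⟨g, hg⟩ := exists_isE hz (f.B_eq_zero_symm v1) hl
    have := (h'.smul ht).map g
    rw [h.smul_eq hg, map_smul, IsE_apply_orth hg hwz, v2, mul_neg, neg_neg, ← mul_assoc, P.εε,
      one_mul, smul_add, smul_smul, mul_div_cancel₀ _ ht, add_comm] at this
    exact this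
  · have := (LinearIndependent.pair_iff' hz0).2 fun s h =>
      hw (Submodule.mem_span_singleton.2 ⟨s, h⟩)
    exact Prod.ext (this.eq_of_pair e).1 (this.eq_of_pair e).2

theorem Sys.sp_le (S : Sys f ⊤ Y) (hq : 3 ≤ Nat.card F) (h4 : 4 ≤ finrank F V)
    (hexc : 4 ≤ Nat.card F ∨ 5 ≤ finrank F V) : Nat.card V + Y.card ≤ Nat.card F * Y.card + 1 := by
  classical
  cases nonempty_fintype F
  by_contra hB
  push Not at hB
  obtain ⟨c⟩ := exists_chr_sp F
  have hlt : ∀ u, u ≠ 0 → ∀ y ∈ Cs f u, mu c f u Y y < Nat.card F + 2 := fun u hu0 y hy => by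
    by_contra h
    have a1 := (mul_le_mul_of_nonneg_right (not_lt.1 h) (by positivity)).trans
      (sp_mu_le S.nd hu0 (S.pinv u) hy)
    norm_cast at a1
    rw [← card_perp S.nd hu0] at hB
    obtain ⟨r, hr⟩ : ∃ r, Nat.card F = r + 3 := ⟨_, (Nat.sub_add_cancel hq).symm⟩
    rw [hr] at a1 hB
    nlinarith [Nat.mul_le_mul_left (r + 2) a1, Nat.mul_le_mul_left (r + 3) hB]
  have hlt' : ∀ u, u ≠ 0 → ∀ ω : X, tau f u ω = ⊥ → ∀ y ∈ Cs f u, mu c f u Y y < 2 * wt f u ω :=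
    fun u hu0 ω ht y hy => by
    rw [wt_of_bot ht, card_Lam_sp]
    have : (3 : ℚ) ≤ Nat.card F := by exact_mod_cast hq
    linarith [hlt u hu0 y hy]
  have hL : ∀ u, u ≠ 0 → ∀ ω ∈ Y, tau f u ω = ⊥ → ∀ y ∈ Bl c f u ω, y ∉ F ∙ u →
      ∀ a ∈ Bl c f u ω, ∃ s t : F, s • u + t • y = a := fun u hu0 ω hω ht y y1 y2 =>
    (S.sp_line_or_top hu0 (S.pinv u) hω y1 y2 (hlt' u hu0 ω ht)).resolve_right fun h =>
      S.sp_not_reg hB hq h4 hexc hω hu0 ⟨h, ht⟩
  obtain ⟨ω, hω⟩ := S.ne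
  obtain ⟨u, hu0, ht, y, y1, y2⟩ := S.sp_exists_bot (by omega) hq hlt hω
  have hu := f.sp_Q u
  have so := fun (k : f.Isom) (a : F) => S.so_of_mu_lt hu hu0 (S.pinv u) hω y1
    (hlt' u hu0 ω ht y (mem_Cs_of_Bl y1 y2)) (k := k) (a := a) trivial
  have hn : finrank F V = 4 := by
    by_contra h
    obtain ⟨v, v1, w, w1, h⟩ := exists_B_ne_perp S.nd (Submodule.span F {u, y})
      (by have := finrank_span_pair_le (F := F) u y; omega)
    exact h (totSing_of_bot hq ht (fun v => mem_Sb_of_line S.nd (hL u hu0 ω hω ht y y1 y2))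
      (fun k k1 k2 => so k 1 one_ne_zero (by rw [k1, one_smul]) (by rw [k2, one_smul]))
      (mem_orth_pair.1 v1).1 (mem_orth_pair.1 v1).2 (mem_orth_pair.1 w1).1 (mem_orth_pair.1 w1).2)
  replace hexc : 4 ≤ Nat.card F := by omega
  have e1 : ∀ u, u ≠ 0 → (Cs f u).ncard + Nat.card F = Nat.card F ^ 3 := fun u hu0 => by
    rw [card_Cs_sp hu0, card_perp_pow S.nd hu0 hn]
  rw [Module.natCard_eq_pow_finrank (K := F) (V := V), hn] at hB
  obtain ⟨r, hr⟩ : ∃ r, Nat.card F = r + 4 := ⟨_, (Nat.sub_add_cancel hexc).symm⟩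
  have e2 : ∀ t : F, t • y ∈ Bl c f u ω := by
    have a1 : (r + 3) * Nat.card F < Nat.card (Bl c f u ω) := by
      by_contra h
      have a1 := S.sp_small hu0 ((S.pinv u).card_Bl (c := c) (· ≤ (r + 3) * Nat.card F) hu)
        (mem_filter.2 ⟨hω, not_lt.1 h⟩) y1 y2 fun ω hω => (mem_filter.1 hω).2
      have a2 := card_filter_le Y fun ω => Nat.card (Bl c f u ω) ≤ (r + 3) * Nat.card F
      have a3 := e1 u hu0
      rw [wt_of_bot ht, card_Lam_sp] at a1
      generalize (Y.filter fun ω => Nat.card (Bl c f u ω) ≤ (r + 3) * Nat.card F).card = d at a1 a2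
      rw [hr] at a1 a3 hB
      zify at a1 a2 a3 hB
      rw [eq_sub_of_add_eq a3] at a1
      have a4 : ((r : ℤ) + 3) * ((r + 4) ^ 3 - (r + 4)) ≤ (r + 2) * Y.card :=
        le_trans (le_of_mul_le_mul_left (a := (r : ℤ) + 4) (by linarith) (by positivity))
          (mul_le_mul_of_nonneg_left a2 (by positivity))
      have a5 := mul_le_mul_of_nonneg_left a4 (show (0 : ℤ) ≤ r + 3 by positivity)
      have a6 := mul_lt_mul_of_pos_left hB (show (0 : ℤ) < r + 2 by positivity)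
      have a7 : (0 : ℤ) ≤ r ^ 2 := by positivity
      linarith
    intro t
    refine le_of_card_lt_two_mul (B := (Submodule.span F {u, y}).toAddSubgroup)
      (fun a ha => Submodule.mem_span_pair.2 (hL u hu0 ω hω ht y y1 y2 a ha)) ?_
      (Submodule.mem_span_pair.2 ⟨0, t, by simp⟩)
    have := ncard_span_pair_le (F := F) u y
    simp only [← Submodule.mem_span_pair] at this
    refine this.trans_lt ?_
    rw [hr] at a1 ⊢
    nlinarith
  obtain ⟨e, he⟩ := S.nd.exists_hypPair hu hu0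
  obtain ⟨b, hb0, hb1⟩ := exists_ne_zero_one hq
  obtain ⟨z1, z2⟩ := mem_orth_pair.1 (proj_perp he (orth_of_mem_Bl y1))
  have e3 : ∀ t : F, t • (y - f.B y e • u) ∈ Bl c f u ω := fun t => by
    rw [smul_sub, smul_smul]
    exact sub_mem (e2 t) (smul_self_mem_Bl hu _)
  have z0 : y - f.B y e • u ∉ F ∙ u := fun h => y2 (by
    simpa using add_mem h (Submodule.smul_mem _ (f.B y e) (Submodule.mem_span_singleton_self u)))
  generalize y - f.B y e • u = z at z0 z1 z2 e3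
  have hz0 : z ≠ 0 := fun h => z0 (h ▸ zero_mem _)
  have hz := f.sp_Q z
  have z3 : z ∈ Bl c f u ω := one_smul F z ▸ e3 1
  have so' : ∀ k : f.Isom, ∀ a b : F, a ≠ 0 → b ≠ 0 → k.1 u = a • u → k.1 z = b • z →
      SO f u ω (k • ω) := fun k a b ha hb k1 k2 => by
    by_contra h
    have := mu_ge_two S.nd hu hu0 (S.cl hu (S.pinv u)) hω z3 (S.inv k trivial ω hω)
      (mem_Bl_conj hu k1 ha (by rw [map_smul, k2, smul_smul, div_mul_cancel₀ _ hb]) (e3 (a / b))) h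
    rw [wt_conj hu k1 ha] at this
    linarith [hlt' u hu0 ω ht z (mem_Cs_of_Bl z3 z0)]
  obtain ⟨ω', s1, hc⟩ := levi_central he hb0 hb1 (fun v hv _ => by
    have hb2 := sub_ne_zero.2 hb1
    refine mem_Sb_of_line S.nd (hL u hu0 ω hω ht y y1 y2) ?_ (f.B_eq_zero_symm ?_)
    · simpa [hb2] using orth_of_mem_Sb hu hv
    · simpa [hb2] using Chr.B_eq_zero_of_smul_mem_ann e2 hv)
    (so' _ b 1 hb0 one_ne_zero (he.hscale_u b hb0) (by rw [he.hscale_of_orth b hb0 z1 z2, one_smul]))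
  have hω' := S.cl hu (S.pinv u) ω hω ω' s1
  have hT := tau_of_central S.nd he hexc z1 z2 fun k k1 k2 a ha k3 =>
    hc k k1 k2 (so' k 1 a one_ne_zero ha (by rw [k1, one_smul]) k3)
  have hp : ∀ k ∈ (⊤ : Subgroup f.Isom), ∀ a : F, a ≠ 0 → k.1 z = a • z → ∀ ω : X,
      (tau f z ω = ⊥ ∧ ∃ y ∈ Bl c f z ω, y ∉ F ∙ z) →
        tau f z (k • ω) = ⊥ ∧ ∃ y ∈ Bl c f z (k • ω), y ∉ F ∙ z :=
    fun k _ a ha hk ω h => ⟨tau_conj_eq_bot hz h.1 hk ha, exists_Bl_conj hz hk ha h.2⟩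
  have e4 := card_filter_add_card_filter_not (s := Y)
    fun ω => tau f z ω = ⊥ ∧ ∃ y ∈ Bl c f z ω, y ∉ F ∙ z
  obtain ⟨k, a, ha, k1, k2⟩ := S.exists_conj hω hu hu0 hz hz0
  obtain ⟨y', y3, y4⟩ := exists_Bl_conj hz k1 ha ⟨y, y1, y2⟩
  have e5 := S.sp_small hz0 ((S.pinv z).filter hp) (mem_filter.2 ⟨k2, tau_conj_eq_bot hu ht k1 ha,
    y', y3, y4⟩) y3 y4 (b := Nat.card F) fun ω hω => by
      obtain ⟨a1, a2, y, a3, a4⟩ := mem_filter.1 hω
      exact card_Bl_le_of_line (hL z hz0 ω a1 a2 y a3 a4)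
  rw [wt_of_bot (tau_conj_eq_bot hu ht k1 ha), card_Lam_sp] at e5
  have e6 : ∀ y ∈ Bl c f z ω', y ∉ F ∙ z → Nat.card F ^ 3 ≤ Nat.card F * (Y.filter fun ω =>
      ¬(tau f z ω = ⊥ ∧ ∃ y ∈ Bl c f z ω, y ∉ F ∙ z)).card := fun y a1 a2 => by
    have hY := (S.pinv z).filter_not hp
    have a3 := (mul_le_mul_of_nonneg_right ((one_le_wt z ω').trans (mu_ge_one S.nd hz hz0 (S.cl hz hY)
      (mem_filter.2 ⟨hω', fun h => Lam_sp_ne_bot (hT.symm.trans h.1)⟩) a1)) (by positivity)).trans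
      (sp_mu_le S.nd hz0 hY (mem_Cs_of_Bl a1 a2))
    rw [one_mul, card_perp_pow S.nd hz0 hn] at a3
    exact_mod_cast a3
  have e7 := S.double_count (Full f) (fun g _ _ _ h => h.map g) (fun _ _ _ ha _ h => h.smul ha)
    hz hz0 hω'
  have e8 := card_le_card (monotone_filter_right Y (p := Full f z)
    (q := fun ω => ¬(tau f z ω = ⊥ ∧ ∃ y ∈ Bl c f z ω, y ∉ F ∙ z))
    fun ω _ h h' => Lam_sp_ne_bot (h.tau_eq.symm.trans h'.1))
  have e9 := e1 z hz0
  have e10 := card_sing_sp (f := f)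
  rw [Module.natCard_eq_pow_finrank (K := F) (V := V), hn] at e10
  generalize (Y.filter fun ω => ¬(tau f z ω = ⊥ ∧ ∃ y ∈ Bl c f z ω, y ∉ F ∙ z)).card = d₂ at *
  generalize (Y.filter fun ω => tau f z ω = ⊥ ∧ ∃ y ∈ Bl c f z ω, y ∉ F ∙ z).card = d₁ at *
  have e11 : Nat.card F ^ 3 + Nat.card F ^ 2 ≤ d₁ := by
    rw [hr] at e5 e9 ⊢
    zify at e5 e9 ⊢
    rw [eq_sub_of_add_eq e9] at e5
    exact le_of_mul_le_mul_left (a := ((r : ℤ) + 4) * (r + 3)) (by linarith) (by positivity)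
  have hF : Full f z ω' := full_of hz (fun v => mem_Sb_of_Bl_le (c := c) S.nd fun y a1 => by
    by_contra a2
    have a3 := e6 y a1 a2
    rw [pow_succ', Nat.mul_le_mul_left_iff Nat.card_pos] at a3
    rw [hr] at a3 e11 hB
    nlinarith) hT
  have := S.sp_full_le hω' hz0 hF fun w hw0 hw => by
    by_contra h
    have a1 := card_full_pair S.nd hz0 hF hw h (S.not_full_pair hω' hw hF (f.sp_Q _) hz)
    have a2 := Nat.mul_le_mul_right Y.card a1
    have a3 := Nat.mul_le_mul_left {w | f.Q w = 0 ∧ w ≠ 0}.ncard e8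
    rw [hr] at a2 e10 e11 hB
    zify at a2 a3 e4 e7 e10 e11 hB
    rw [eq_sub_of_add_eq e10] at a3 e7
    have a4 : (Y.card : ℤ) ≤ ((r + 4) ^ 2 + 1) * d₂ :=
      le_of_mul_le_mul_left (a := ((r : ℤ) + 5) * (r + 3)) (by linarith) (by positivity)
    have a5 : (r : ℤ) + 5 ≤ d₂ :=
      le_of_mul_le_mul_left (a := ((r : ℤ) + 4) ^ 2) (by linarith) (by positivity)
    nlinarith
  rw [Module.natCard_eq_pow_finrank (K := F) (V := V), hn] at this
  omega

end Cfsg.Agent.MI
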