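import Cfsg.Agent.Lib.MI.Geo
import Cfsg.Agent.Lib.Forms.Center

/-!
From subgroups to actions and back.
-/

set_option autoImplicit false

namespace Cfsg.Agent.MI

open Module Cfsg.Agent.Forms Cfsg.Agent.Forms.Form Cfsg.Agent.Cls Cfsg.Agent.Deg Finset

variable {F : Type*} [Field F] {P : Param F} {V : Type*} [AddCommGroup V] [Module F V]
  {f : Form P V}

instance instFiniteIsom [Finite V] (f : Form P V) : Finite f.Isom :=
  Finite.of_injective (fun g => (g.1 : V → V)) fun _ _ h => Isom.ext fun x => congrFun h x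

theorem exists_sys [Finite V] (hf : f.Nondeg) (hb : Big f) {G : Subgroup f.Isom}
    (ein : ∀ {g u v l}, f.Q u = 0 → IsE g u v l → g ∈ G)
    (gen : ∀ K : Subgroup f.Isom, (∀ u v, Ein K u v) → G ≤ K) (H : Subgroup G) (hH : H ≠ ⊤) :
    ∃ Y : Finset (f.Isom ⧸ H.map G.subtype), Sys f G Y ∧ Y.card = H.index := by
  let x : f.Isom ⧸ H.map G.subtype := ((1 : f.Isom) : f.Isom ⧸ H.map G.subtype)
  have hx : MulAction.stabilizer G x = H := by
    ext g
    rw [MulAction.mem_stabilizer_iff]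
    change (((g : f.Isom) * 1 : f.Isom) : f.Isom ⧸ H.map G.subtype) = ((1 : f.Isom) : _) ↔ _
    rw [QuotientGroup.eq, mul_one, mul_one, Subgroup.inv_mem_iff]
    exact ⟨fun ⟨a, ha, e⟩ => (Subtype.ext e : a = g) ▸ ha, fun h => ⟨g, h, rfl⟩⟩
  refine ⟨(MulAction.orbit G x).toFinite.toFinset, ⟨hf, hb, ein, ?_, ?_, ⟨x, by simp⟩, ?_⟩, ?_⟩
  · simp only [Set.Finite.mem_toFinset]
    rintro g hg _ ⟨a, rfl⟩
    exact ⟨⟨g, hg⟩ * a, mul_smul _ _ _⟩
  · simp only [Set.Finite.mem_toFinset]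
    rintro _ ⟨a, rfl⟩ _ ⟨b, rfl⟩
    exact ⟨(b * a⁻¹ : G), (b * a⁻¹).2, by
      change (b * a⁻¹) • a • x = b • x
      rw [mul_smul, inv_smul_smul]⟩
  · simp only [Set.Finite.mem_toFinset]
    rintro _ ⟨a, rfl⟩
    by_contra hc
    push Not at hc
    have := gen (MulAction.stabilizer f.Isom (a • x)) fun u v l hu hv hl => by
      by_cases h0 : u = 0
      · subst h0
        convert Subgroup.one_mem _
        exact Isom.ext fun w => by simp [eichler_apply]
      · exact (hc u hu h0).smul_eq (isE_eichler hu hv hl)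
    apply hH
    rw [eq_top_iff, ← hx]
    intro g _
    have h1 : (a * g * a⁻¹) • a • x = a • x := this (a * g * a⁻¹).2
    rwa [mul_smul, inv_smul_smul, mul_smul, smul_left_cancel_iff] at h1
  · rw [← Set.ncard_eq_toFinset_card, ← MulAction.index_stabilizer, hx]

theorem exists_index [Finite F] [Finite V] (G : Subgroup f.Isom) {C : Set V} {u : V} (hu0 : u ≠ 0)
    (h1 : ∀ g ∈ G, ∀ a : F, a ≠ 0 → a • g.1 u ∈ C)
    (h2 : ∀ w ∈ C, ∃ g ∈ G, ∃ a : F, a ≠ 0 ∧ g.1 u = a • w) :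
    ∃ H : Subgroup G, (∀ g : G, g.1.1 u ∈ F ∙ u → g ∈ H) ∧
      H.index * (Nat.card F - 1) = C.ncard := by
  let _ : MulAction (G × Fˣ) V :=
    { smul := fun p v => (p.2 : F) • p.1.1.1 v
      one_smul := fun v => one_smul F v
      mul_smul := fun p r v => by
        change ((p.2 : F) * r.2) • p.1.1.1 (r.1.1.1 v) = (p.2 : F) • p.1.1.1 ((r.2 : F) • _)
        rw [map_smul, mul_smul] }
  have e1 : MulAction.orbit (G × Fˣ) u = C := by
    ext w
    constructor
    · rintro ⟨p, rfl⟩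
      exact h1 _ p.1.2 _ p.2.ne_zero
    · intro hw
      obtain ⟨g, hg, a, ha, e⟩ := h2 w hw
      exact ⟨(⟨g, hg⟩, (Units.mk0 a ha)⁻¹), by
        change ((Units.mk0 a ha)⁻¹ : Fˣ).1 • g.1 u = w
        rw [e]; simp [ha]⟩
  let S := MulAction.stabilizer (G × Fˣ) u
  refine ⟨S.map (MonoidHom.fst G Fˣ), fun g hg => ?_, ?_⟩
  · obtain ⟨a, ha⟩ := Submodule.mem_span_singleton.1 hg
    have h0 : a ≠ 0 := by
      rintro rfl
      exact hu0 (by simpa using ha.symm)
    exact ⟨(g, (Units.mk0 a h0)⁻¹), by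
      change ((Units.mk0 a h0)⁻¹ : Fˣ).1 • g.1.1 u = u
      rw [← ha]; simp [h0], rfl⟩
  · have e2 : Nat.card (S.map (MonoidHom.fst G Fˣ)) = Nat.card S := by
      refine (Nat.card_congr (Equiv.ofBijective (fun x : S => ⟨x.1.1, x.1, x.2, rfl⟩)
        ⟨fun x y h => ?_, by rintro ⟨_, x, hx, rfl⟩; exact ⟨⟨x, hx⟩, rfl⟩⟩)).symm
      have h3 : x.1.1 = y.1.1 := congrArg Subtype.val h
      have h4 : (x.1.2 : F) • x.1.1.1.1 u = u := x.2
      have h5 : (y.1.2 : F) • y.1.1.1.1 u = u := y.2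
      rw [← h3] at h5
      exact Subtype.ext (Prod.ext h3 (Units.ext (smul_left_injective F
        (show x.1.1.1.1 u ≠ 0 by simpa using hu0) (h4.trans h5.symm))))
    have e3 := S.index_mul_card
    rw [MulAction.index_stabilizer, e1, Nat.card_prod, Nat.card_units,
      ← (S.map (MonoidHom.fst G Fˣ)).index_mul_card, e2] at e3
    refine Nat.eq_of_mul_eq_mul_right (Nat.card_pos (α := S)) ?_
    rw [e3]; ring

theorem center_fix_sing [FiniteDimensional F V] (hf : f.Nondeg) (h3 : 3 ≤ finrank F V)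
    {G : Subgroup f.Isom} (ein : ∀ {g u v l}, f.Q u = 0 → IsE g u v l → g ∈ G) {z : G}
    (hz : z ∈ Subgroup.center G) {u : V} (hu : f.Q u = 0) : z.1.1 u ∈ F ∙ u := by
  by_cases hu0 : u = 0
  · simp [hu0]
  have key : ∀ v, f.B v u = 0 → ∃ s : F,
      f.B (z.1.1 u) u • v - (P.ε * f.B (z.1.1 u) v + s * f.B (z.1.1 u) u) • u = 0 := by
    intro v hv
    obtain ⟨l, hl⟩ := f.exists_isLam v
    obtain ⟨g, hg⟩ := exists_isE hu hv hl
    have h1 := congrArg (fun x : G => x.1.1 u) (Subgroup.mem_center_iff.1 hz ⟨g, ein hu hg⟩)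
    change g.1 (z.1.1 u) = z.1.1 (g.1 u) at h1
    rw [hg.apply_self hu, hg.app] at h1
    exact ⟨P.ε * l, by linear_combination (norm := module) h1⟩
  have h1 : f.B (z.1.1 u) u = 0 := by
    by_contra hc
    have : f.orth (F ∙ u) ≤ F ∙ u := fun v hv => by
      obtain ⟨s, hs⟩ := key v (mem_orth_singleton.1 hv)
      rw [← Submodule.smul_mem_iff _ hc, sub_eq_zero.1 hs]
      exact Submodule.smul_mem _ _ (Submodule.mem_span_singleton_self u)
    have h2 := Submodule.finrank_mono this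
    have h4 := hf.finrank_add_orth (F ∙ u)
    rw [finrank_span_singleton hu0] at h2 h4
    omega
  rw [← hf.orth_orth (F ∙ u), mem_orth]
  intro v hv
  obtain ⟨s, hs⟩ := key v (mem_orth_singleton.1 hv)
  simpa [h1, hu0, P.ε_ne_zero] using hs

section quot

variable {G : Type*} [Group G]

theorem le_index_quot {B : ℕ} (h : ∀ H : Subgroup G, H ≠ ⊤ → B ≤ H.index)
    (H : Subgroup (G ⧸ Subgroup.center G)) (hH : H ≠ ⊤) : B ≤ H.index := by
  have hidx := H.index_comap_of_surjective (QuotientGroup.mk'_surjective (Subgroup.center G))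
  rw [← hidx]
  exact h _ (by rw [Ne, ← Subgroup.index_eq_one, hidx, Subgroup.index_eq_one]; exact hH)

theorem exists_index_quot {B : ℕ} (h : ∃ H : Subgroup G, Subgroup.center G ≤ H ∧ H.index = B) :
    ∃ H : Subgroup (G ⧸ Subgroup.center G), H.index = B := by
  obtain ⟨H, h1, h2⟩ := h
  refine ⟨H.map (QuotientGroup.mk' _), ?_⟩
  rw [Subgroup.index_map, QuotientGroup.ker_mk', sup_eq_left.2 h1, h2,
    MonoidHom.range_eq_top.2 (QuotientGroup.mk'_surjective _), Subgroup.index_top, mul_one]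

theorem min_index_congr {G' : Type*} [Group G'] (e : G ≃* G') {B : ℕ}
    (h : (∀ H : Subgroup G', H ≠ ⊤ → B ≤ H.index) ∧ ∃ H : Subgroup G', H.index = B) :
    (∀ H : Subgroup G, H ≠ ⊤ → B ≤ H.index) ∧ ∃ H : Subgroup G, H.index = B := by
  refine ⟨fun H hH => ?_, ?_⟩
  · have hidx := H.index_comap_of_surjective (f := (e.symm : G' →* G)) e.symm.surjective
    rw [← hidx]
    exact h.1 _ (by rw [Ne, ← Subgroup.index_eq_one, hidx, Subgroup.index_eq_one]; exact hH)
  · obtain ⟨H, hH⟩ := h.2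
    exact ⟨H.comap (e : G →* G'), (H.index_comap_of_surjective e.surjective).trans hH⟩

theorem min_index_quot {G' : Type*} [Group G'] (e : G ≃* G') {B : ℕ}
    (h1 : ∀ H : Subgroup G', H ≠ ⊤ → B ≤ H.index)
    (h2 : ∃ H : Subgroup G', Subgroup.center G' ≤ H ∧ H.index = B) :
    (∀ H : Subgroup (G ⧸ Subgroup.center G), H ≠ ⊤ → B ≤ H.index) ∧
      ∃ H : Subgroup (G ⧸ Subgroup.center G), H.index = B :=
  min_index_congr (centerQuotEquiv e) ⟨le_index_quot h1, exists_index_quot h2⟩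

end quot

end Cfsg.Agent.MI
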