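import Cfsg.Agent.Lib.MI.Sys

/-!
Lemmas on transvections in point stabilisers.
-/

set_option autoImplicit false

namespace Cfsg.Agent.MI

open Module Cfsg.Agent.Forms Cfsg.Agent.Forms.Form Cfsg.Agent.Cls Cfsg.Agent.Deg Finset

variable {F : Type*} [Field F] {P : Param F} {V : Type*} [AddCommGroup V] [Module F V]
  {c : Chr P} {f : Form P V} {X : Type*} [MulAction f.Isom X]

theorem isLam_of_lam0 {v : V} {l : F} (hv : f.Q v = 0) (hl : Lam0 P l) : f.IsLam v l :=
  ⟨by rw [hl.1, hv], by rw [hl.2, f.B_self_of_Q hv]⟩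

theorem Q_add_smul {u y : V} (hu : f.Q u = 0) (hyu : f.B y u = 0) (a : F) :
    f.Q (y + a • u) = f.Q y := by
  rw [f.Q_add_of_orth (by rw [B_smul_right, hyu, mul_zero]), f.Q_smul, hu, mul_zero, add_zero]

theorem fx_of_tau_two {u y : V} {ω : X} (hu : f.Q u = 0) (hy : f.Q y = 0) (hyu : f.B y u = 0)
    {a a' l : F} (h : l ∈ tau f (y + a • u) ω) (h' : l ∈ tau f (y + a' • u) ω) :
    Fx f u ((-(P.ε * l * P.σ (a - a'))) • y) (l * (a * P.σ a - a' * P.σ a')) ω := by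
  obtain ⟨t, ht, e⟩ := h.2 (by rw [Q_add_smul hu hyu, hy])
  obtain ⟨t', ht', e'⟩ := h'.2 (by rw [Q_add_smul hu hyu, hy])
  obtain ⟨g, hg⟩ := exists_isE (v := (-(P.ε * l * P.σ (a - a'))) • y)
    (l := l * (a * P.σ a - a' * P.σ a')) hu (by rw [B_smul_left, hyu, mul_zero])
    (isLam_of_lam0 (by rw [f.Q_smul, hy, mul_zero]) (by
      rw [mul_sub, mul_comm l, mul_comm l]
      exact (Lam P).sub_mem (norm_mul_mem_Lam a h.1) (norm_mul_mem_Lam a' h.1)))
  refine ⟨g, hg, ?_⟩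
  have : t = g * t' := Isom.ext fun w => by
    simp only [Isom.mul_apply, ht.app, ht'.app, hg.app, B_sub_left, B_add_left, B_add_right,
      B_smul_left, B_smul_right, B_zero_right, B_zero_left, hyu, f.B_eq_zero_symm hyu, f.B_self_of_Q hu,
      f.B_self_of_Q hy, map_neg P.σ, map_mul P.σ, map_sub P.σ, P.σσ, P.σε, h.1.σ_eq]
    match_scalars
    · ring
    · ring
    · linear_combination (P.ε * l * (a - a') * f.B w y) * P.εε
  rw [← e'] at e ⊢
  rw [← mul_smul, ← this, e']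
  rwa [e'] at e

variable (f) in
/-- the multiples of `y` in the vector part of the stabiliser -/
def Cy (u y : V) (ω : X) : AddSubgroup F :=
  (Sb f u ω).comap (LinearMap.toSpanSingleton F V y).toAddMonoidHom

theorem mem_Cy {u y : V} {ω : X} {s : F} : s ∈ Cy f u y ω ↔ s • y ∈ Sb f u ω := Iff.rfl

theorem card_Cy_ge [Finite F] {u y : V} {ω : X} (hu : f.Q u = 0) (hy : f.Q y = 0)
    (hyu : f.B y u = 0) {t : ℕ} (ht : ∀ a : F, t ≤ Nat.card (tau f (y + a • u) ω)) :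
    Nat.card F * (t - 1) ≤ (Nat.card (Lam P) - 1) * Nat.card (Cy f u y ω) := by
  classical
  have := Fintype.ofFinite F
  have h := card_mul_le_card_mul (s := (univ : Finset F))
    (t := (univ.filter fun l => l ∈ Lam P).erase 0) (fun a l => l ∈ tau f (y + a • u) ω)
    (m := t - 1) (n := Nat.card (Cy f u y ω)) (fun a _ => ?_) fun l hl => ?_
  · rwa [card_univ, card_erase_of_mem (by simp), ← Fintype.card_subtype,
      ← Nat.card_eq_fintype_card (α := F), ← Nat.card_eq_fintype_card] at h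
  · have : bipartiteAbove (fun a l => l ∈ tau f (y + a • u) ω)
        ((univ.filter fun l => l ∈ Lam P).erase 0) a =
        (univ.filter fun l => l ∈ tau f (y + a • u) ω).erase 0 := by
      ext l
      simp only [mem_bipartiteAbove, mem_erase, mem_filter, mem_univ, true_and]
      exact ⟨fun h => ⟨h.1.1, h.2⟩, fun h => ⟨⟨h.1, tau_le _ _ h.2⟩, h.2⟩⟩
    rw [this, card_erase_of_mem (by simp), ← Fintype.card_subtype]
    exact Nat.sub_le_sub_right ((ht a).trans_eq Nat.card_eq_fintype_card) 1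
  · rcases (bipartiteBelow (fun (a : F) l => l ∈ tau f (y + a • u) ω) univ l).eq_empty_or_nonempty
      with h | ⟨a₀, h⟩
    · simp [h]
    rw [← Nat.card_eq_finsetCard]
    refine Nat.card_le_card_of_injective (fun a => ⟨_, mem_Cy.2 (fx_of_tau_two hu hy hyu
      (mem_bipartiteBelow _ |>.1 a.2).2 (mem_bipartiteBelow _ |>.1 h).2).mem_Sb⟩) fun a b e => ?_
    have h1 := congrArg Subtype.val e
    simp only [neg_inj] at h1
    exact Subtype.ext (sub_left_injective (P.σ.injective (mul_left_cancel₀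
      (mul_ne_zero P.ε_ne_zero (mem_erase.1 hl).1) h1)))

theorem exists_min_tau (ω : X) {u : V} (hu : f.Q u = 0) (hu0 : u ≠ 0) :
    ∃ u, f.Q u = 0 ∧ u ≠ 0 ∧ ∀ w, f.Q w = 0 → w ≠ 0 →
      Nat.card (tau f u ω) ≤ Nat.card (tau f w ω) := by
  obtain ⟨⟨w, h1, h2⟩, h⟩ := exists_min_image' (α := {w // f.Q w = 0 ∧ w ≠ 0})
    (fun w => Nat.card (tau f w.1 ω)) ⟨u, hu, hu0⟩
  exact ⟨w, h1, h2, fun w a b => h ⟨w, a, b⟩⟩
where
  exists_min_image' {α : Type _} (g : α → ℕ) (a : α) : ∃ x, ∀ y, g x ≤ g y :=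
    have : Nonempty α := ⟨a⟩
    ⟨Function.argmin g, fun y => Function.argmin_le g y⟩

theorem hasTr_stabilizer {ω : X} (h : ∀ u, f.Q u = 0 → u ≠ 0 → tau f u ω = Lam P) :
    HasTr f (MulAction.stabilizer f.Isom ω) := fun d l hd hl => by
  by_cases h0 : d = 0
  · subst h0
    convert Subgroup.one_mem _
    exact Isom.ext fun w => by simp [tr_apply]
  · have : l ∈ tau f d ω := (h d hd h0) ▸ hl
    exact (this.2 hd).smul_eq (isE_tr hd hl)

theorem full_of_ein {ω : X} {u : V} (hu : f.Q u = 0)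
    (h : ∀ v, Ein (MulAction.stabilizer f.Isom ω) u v) : Full f u ω := fun v l hv hl =>
  ⟨_, isE_eichler hu hv hl, h v l hu hv hl⟩

theorem tr_smul_eq {ω : X} {u : V} {l : F} (hu : f.Q u = 0) (hl : Lam0 P l)
    (h : tau f u ω = Lam P) : tr f u l hu hl • ω = ω :=
  ((h ▸ hl : l ∈ tau f u ω).2 hu).smul_eq (isE_tr hu hl)

theorem top_of_line [FiniteDimensional F V] (hf : f.Nondeg) (h0 : ∃ l, l ≠ 0 ∧ Lam0 P l)
    {A : AddSubgroup V} (hA : ∀ z, f.Q z = 0 → ∀ l, Lam0 P l → ∀ a ∈ A, (l * f.B a z) • z ∈ A)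
    {z : V} (hz : f.Q z = 0) (hz0 : z ≠ 0) (h : ∀ s : F, s • z ∈ A) (x : V) : x ∈ A := by
  obtain ⟨l, hl0, hl⟩ := id h0
  have step : ∀ z z', (∀ s : F, s • z ∈ A) → f.Q z' = 0 → f.B z z' ≠ 0 → ∀ s : F, s • z' ∈ A :=
    fun z z' h hz' h1 s => by
      have := hA z' hz' l hl _ (h (s / (l * f.B z z')))
      rwa [B_smul_left, show l * (s / (l * f.B z z') * f.B z z') = s by field_simp] at this
  have key : ∀ w, f.Q w = 0 → ∀ s : F, s • w ∈ A := fun w hw s => by
    by_cases hw0 : w = 0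
    · simp [hw0]
    obtain ⟨z', h1, h2, h3⟩ := exists_nonorth hf (big_of_lam0 h0) hz hz0 hw hw0
    exact step z' w (step z z' h h1 (B_ne_symm h2)) hw h3 s
  obtain ⟨e, he⟩ := hf.exists_hypPair hz hz0
  obtain ⟨w, s, t, hw, rfl⟩ := exists_sum_sing he x
  exact A.add_mem (A.add_mem (by simpa using key w hw 1) (h s)) (key e he.Qe t)

theorem nondeg_perp [FiniteDimensional F V] (hf : f.Nondeg) {y : V} (hy : f.B y y ≠ 0) :
    (f.restrict (f.orth (F ∙ y))).Nondeg := by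
  refine hf.restrict_orth ?_
  rw [Submodule.disjoint_def]
  intro x h1 h2
  obtain ⟨s, rfl⟩ := Submodule.mem_span_singleton.1 h1
  have := mem_orth_singleton.1 h2
  rw [B_smul_left] at this
  rw [(mul_eq_zero.1 this).resolve_right hy, zero_smul]

theorem finrank_perp [FiniteDimensional F V] (hf : f.Nondeg) {y : V} (hy : y ≠ 0) :
    finrank F (f.orth (F ∙ y)) + 1 = finrank F V := by
  rw [← hf.finrank_add_orth (F ∙ y), finrank_span_singleton hy, add_comm]

theorem perp_le_of_line [FiniteDimensional F V] (hf : f.Nondeg) (h0 : ∃ l, l ≠ 0 ∧ Lam0 P l)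
    {A : AddSubgroup V} {y : V} (hy : f.B y y ≠ 0)
    (hA : ∀ z, f.Q z = 0 → f.B z y = 0 → ∀ l, Lam0 P l → ∀ a ∈ A, (l * f.B a z) • z ∈ A)
    {z : V} (hz : f.Q z = 0) (hz0 : z ≠ 0) (hzy : f.B z y = 0) (h : ∀ s : F, s • z ∈ A) (x : V)
    (hx : f.B x y = 0) : x ∈ A :=
  top_of_line (nondeg_perp hf hy) h0 (A := A.comap (f.orth (F ∙ y)).subtype.toAddMonoidHom)
    (fun z hz l hl a ha => hA z hz (mem_orth_singleton.1 z.2) l hl a ha)
    (z := ⟨z, mem_orth_singleton.2 hzy⟩) hz (fun e => hz0 (congrArg Subtype.val e)) h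
    ⟨x, mem_orth_singleton.2 hx⟩

/-- singular vectors span -/
theorem exists_sing_ne (hf : f.Nondeg) {u e : V} (h : f.HypPair u e) {a : V} (ha : a ≠ 0) :
    ∃ z, f.Q z = 0 ∧ f.B a z ≠ 0 := by
  by_contra hc
  push Not at hc
  refine ha (hf a fun x => ?_)
  obtain ⟨w, s, t, hw, rfl⟩ := exists_sum_sing h x
  simp [B_smul_right, hc w hw, hc _ h.Qu, hc _ h.Qe]

theorem mem_span_of_perp [FiniteDimensional F V] (hf : f.Nondeg) {y a : V}
    (h : ∀ x, f.B x y = 0 → f.B a x = 0) : a ∈ F ∙ y := by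
  rw [← hf.orth_orth (F ∙ y)]
  exact fun x hx => h x (mem_orth_singleton.1 hx)

theorem mem_span_pair_of_perp [FiniteDimensional F V] (hf : f.Nondeg) {y z a : V}
    (h : ∀ x, f.B x y = 0 → f.B x z = 0 → f.B a x = 0) : ∃ s t : F, s • y + t • z = a := by
  rw [← Submodule.mem_span_pair, ← hf.orth_orth (Submodule.span F {y, z})]
  exact fun x hx => h x (mem_orth_pair.1 hx).1 (mem_orth_pair.1 hx).2

end Cfsg.Agent.MI
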