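import Cfsg.Agent.Lib.MI.Sys
import Cfsg.Agent.Lib.Deg.Unitary
import Cfsg.Agent.Lib.Forms.Card

/-!
Special unitary groups: generation, Witt's theorem, invariant subgroups.
-/

set_option autoImplicit false

namespace Cfsg.Agent.MI

open Module Cfsg.Agent.Forms Cfsg.Agent.Forms.Form Cfsg.Agent.Cls Cfsg.Agent.Deg Finset

variable {F : Type*} [Field F] {V : Type*} [AddCommGroup V] [Module F V]

theorem det_hscale {P : Param F} {f : Form P V} [FiniteDimensional F V] {u e : V}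
    (h : f.HypPair u e) (a : F) (ha : a ≠ 0) :
    (f.detHom (h.hscale a ha) : F) = a * (P.σ a)⁻¹ := by
  have : ((h.hscale a ha).1 : V →ₗ[F] V) =
      LinearMap.transvection ((a - 1) • f.B.flip e) u ∘ₗ
        LinearMap.transvection ((((P.σ a)⁻¹ - 1) * P.ε) • f.B.flip u) e := by
    ext w
    simp only [LinearEquiv.coe_coe, h.hscale_apply, LinearMap.comp_apply,
      LinearMap.transvection.apply, LinearMap.smul_apply,
      LinearMap.flip_apply, smul_eq_mul, B_add_left, B_smul_left, h.Bee]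
    module
  rw [coe_detHom, this, LinearMap.det_comp, LinearMap.transvection.det, LinearMap.transvection.det]
  simp only [LinearMap.smul_apply, LinearMap.flip_apply, smul_eq_mul, h.Bue, h.Beu]
  linear_combination a * ((P.σ a)⁻¹ - 1) * P.εε

theorem isE_mem_SIsom {P : Param F} {f : Form P V} [FiniteDimensional F V] {g : f.Isom} {u v : V}
    {l : F} (hu : f.Q u = 0) (h : IsE g u v l) : g ∈ f.SIsom := by
  rw [h.eq_eichler hu]; exact Deg.eichler_mem_SIsom _ _ _ _ _ _ _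

theorem card_le_mul_of_add {A B : Type*} [AddCommGroup A] [AddCommGroup B] [Finite A] [Finite B]
    (φ : A →+ B) (S : AddSubgroup A) (T : AddSubgroup B) (h : ∀ x ∈ S, φ x ∈ T) :
    Nat.card S ≤ Nat.card T * Nat.card (S ⊓ φ.ker : AddSubgroup A) := by
  let ψ := φ.comp S.subtype
  rw [AddSubgroup.card_eq_card_quotient_mul_card_addSubgroup ψ.ker,
    Nat.card_congr (QuotientAddGroup.quotientKerEquivRange ψ).toEquiv]
  gcongr
  · exact AddSubgroup.card_le_of_le (by rintro _ ⟨x, rfl⟩; exact h x x.2)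
  · exact Nat.card_le_card_of_injective (fun x => ⟨x.1.1, x.1.2, x.2⟩) fun x y e =>
      Subtype.ext (Subtype.ext (congrArg (fun z : (S ⊓ φ.ker : AddSubgroup A) => z.1) e))

variable [Fintype F] {q : ℕ} {hF : Fintype.card F = q ^ 2}

theorem mem_Lam_unit {l : F} : l ∈ Lam (uP hF) ↔ frobq hF l = -l := by
  rw [mem_Lam, lam0_unit, add_comm, add_eq_zero_iff_eq_neg]

theorem lam0_unit' {l : F} : Lam0 (uP hF) l ↔ frobq hF l = -l := mem_Lam_unit

theorem exists_trace {t : F} (ht : frobq hF t = t) : ∃ a, a + frobq hF a = t := by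
  obtain ⟨a, ha⟩ := frobq_ne hF
  obtain ⟨l, hl0, hl⟩ := exists_lam0 hF
  have hl' := lam0_unit'.1 hl
  have h1 : a - frobq hF a ≠ 0 := sub_ne_zero.2 ha.symm
  have h2 : frobq hF a - a ≠ 0 := sub_ne_zero.2 ha
  refine ⟨t * a / (a - frobq hF a), ?_⟩
  rw [map_div₀, map_mul, map_sub, frobq_frobq, ht]
  field_simp
  ring

theorem card_F (hF : Fintype.card F = q ^ 2) : Nat.card F = q ^ 2 := by
  rw [Nat.card_eq_fintype_card, hF]

theorem card_Lam_unit : Nat.card (Lam (uP hF)) = q := by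
  obtain ⟨l, hl0, hl⟩ := exists_lam0 hF
  have hl' := lam0_unit'.1 hl
  have h1 : (uP hF).τ.ker = Lam (uP hF) := by ext x; exact mem_Lam_iff.symm
  have h2 : Nat.card (uP hF).τ.range = Nat.card (Lam (uP hF)) := by
    refine Nat.card_congr (Equiv.subtypeEquiv (Equiv.mulLeft₀ l hl0) fun x => ?_)
    rw [mem_Lam_unit, Equiv.mulLeft₀_apply, map_mul, hl', neg_mul, neg_inj, mul_right_inj' hl0]
    exact ⟨by rintro ⟨a, rfl⟩; simp [frobq_frobq, add_comm], exists_trace⟩
  have h3 := AddSubgroup.card_eq_card_quotient_mul_card_addSubgroup (uP hF).τ.ker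
  rw [Nat.card_congr (QuotientAddGroup.quotientKerEquivRange _).toEquiv, h1, h2, card_F hF,
    ← sq] at h3
  exact (Nat.pow_left_injective two_ne_zero h3).symm

theorem exists_chr_unit (hF : Fintype.card F = q ^ 2) :
    ∃ c : Chr (uP hF), ∀ a, frobq hF a = -a → c.ψ a = 1 := by
  obtain ⟨a, ha⟩ := exists_trace (hF := hF) (map_one _)
  obtain ⟨c, hc⟩ := exists_chr_tau (uP hF) ⟨a, by simp [ha]⟩
  exact ⟨c, fun a h => hc a (by simp [h])⟩

theorem exists_norm_one_sq_ne (hF : Fintype.card F = q ^ 2) :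
    ∃ d : F, d * frobq hF d = 1 ∧ d * d ≠ 1 := by
  by_contra hc
  push Not at hc
  have h1 := Nat.card_le_card_of_injective (β := {s : F // s ^ 2 = 1})
    (fun x : {x : F // x * frobq hF x = 1} => ⟨x.1, by rw [sq, hc _ x.2]⟩) fun x y h =>
      Subtype.ext (congrArg (fun z : {s : F // s ^ 2 = 1} => z.1) h)
  have h2 := card_pow_eq_le (F := F) two_pos 1
  have := two_le_q hF
  rw [card_norm_one] at h1
  omega

variable {f : Form (uP hF) V}

theorem uB_smul (a : F) (x y : V) : f.B x (a • y) = frobq hF a * f.B x y := f.B_smul_right a x y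

theorem uB_symm (x y : V) : f.B y x = frobq hF (f.B x y) := f.unit_symm x y

theorem utr_apply (d : V) (l : F) (hd hl) (w : V) :
    (tr f d l hd hl).1 w = w - (l * f.B w d) • d := by
  simp [tr_apply]

theorem exists_qrefl_det [FiniteDimensional F V] {x : V} (hx : f.B x x ≠ 0) {s : F}
    (hs : s * frobq hF s = 1) : ∃ r : f.Isom, (f.detHom r : F) = s ∧
      ∀ w, r.1 w = w - ((1 - s) / f.B x x * f.B w x) • x := by
  by_cases h1 : s = 1
  · exact ⟨1, by simp [h1], fun w => by simp [h1]⟩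
  have h2 : 1 - s ≠ 0 := sub_ne_zero.2 (Ne.symm h1)
  have h3 : s ≠ 0 := left_ne_zero_of_mul_eq_one hs
  have h4 : frobq hF s = s⁻¹ := eq_inv_of_mul_eq_one_right hs
  have h5 : frobq hF (f.B x x / (1 - s)) = -(s * f.B x x / (1 - s)) := by
    have : s - 1 ≠ 0 := sub_ne_zero.2 h1
    rw [map_div₀, map_sub, h4, ← uB_symm, map_one]; field_simp; ring
  have hl : f.IsLam x (f.B x x / (1 - s)) := by
    rw [unit_isLam_iff]
    change _ + frobq hF _ = _
    rw [h5]; field_simp; ring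
  refine ⟨f.qrefl x _ hl (div_ne_zero hx h2), ?_, fun w => by rw [qrefl_apply, inv_div]⟩
  rw [coe_detHom, det_qrefl, Param.unit_σ, h5, Param.unit_ε]
  field_simp

theorem exists_su_fix [FiniteDimensional F V] (hf : f.Nondeg) {x : V} (hx : f.B x x ≠ 0)
    (g : f.Isom) : ∃ g' ∈ f.SIsom, ∀ w, f.B w x = 0 → g'.1 w = g.1 w := by
  obtain ⟨r, h1, h2⟩ := exists_qrefl_det hx (hf.det_mul_σ_det g⁻¹)
  refine ⟨g * r, ?_, fun w hw => by simp [Isom.mul_apply, h2, hw]⟩
  rw [SIsom, MonoidHom.mem_ker, map_mul, Units.ext h1, ← map_mul, mul_inv_cancel, map_one]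

theorem exists_aniso_orth [FiniteDimensional F V] (hf : f.Nondeg) (S : Submodule F V)
    (h : ¬ f.orth S ≤ S) : ∃ x ∈ f.orth S, f.B x x ≠ 0 := by
  by_contra hc
  push Not at hc
  apply h
  rw [← hf.orth_le_orth_iff, hf.orth_orth, ← hf.orth_le_orth_iff]
  intro x hx
  rw [hf.orth_orth]
  rw [← hf.orth_orth S]
  intro y hy
  obtain ⟨a, ha⟩ := frobq_ne hF
  have h1 : ∀ s : F, s * f.B x y + frobq hF (s * f.B x y) = 0 := fun s => by
    have := hc (s • x + y) (add_mem (Submodule.smul_mem _ _ hx) hy)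
    simp only [B_add_left, B_add_right, B_smul_left, uB_smul, hc x hx, hc y hy] at this
    rw [map_mul, ← uB_symm]
    linear_combination this
  have h2 := h1 a
  have h3 := h1 1
  rw [map_mul] at h2 h3
  rw [map_one] at h3
  exact mul_left_cancel₀ (sub_ne_zero.2 ha.symm) (by linear_combination h2 - frobq hF a * h3)

theorem exists_aniso_orth' [FiniteDimensional F V] (hf : f.Nondeg) (S : Submodule F V)
    (h : 2 * finrank F S < finrank F V) : ∃ x ∈ f.orth S, f.B x x ≠ 0 :=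
  exists_aniso_orth hf S fun hle => by
    have := Submodule.finrank_mono hle
    have := hf.finrank_add_orth S
    omega

theorem ein_of_hasTr [FiniteDimensional F V] (hf : f.Nondeg) (h : 4 ≤ finrank F V ∨ 3 ≤ q)
    {K : Subgroup f.Isom} (hK : HasTr f K) (u v : V) : Ein K u v := by
  let N := Subgroup.normalClosure {g | ∃ d l hd hl, g = tr f d l hd hl}
  have hN : HasTr f N := fun d l hd hl => Subgroup.subset_normalClosure ⟨d, l, hd, hl, rfl⟩
  have hle : N ≤ K := by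
    refine (Subgroup.closure_le _).mpr fun x hx => ?_
    obtain ⟨_, ⟨d, l, hd, hl, rfl⟩, hx⟩ := Group.mem_conjugatesOfSet_iff.mp hx
    obtain ⟨g, rfl⟩ := isConj_iff.mp hx
    rw [tr_conj]
    exact hK _ _ _ _
  exact fun l hu hv hl => hle (unit_ein hf h hN u v l hu hv hl)

theorem su_gen [FiniteDimensional F V] (hf : f.Nondeg) (h2 : 2 ≤ finrank F V)
    (K : Subgroup f.Isom) (hK : ∀ u v, Ein K u v) : f.SIsom ≤ K := by
  let N := Subgroup.normalClosure {g | ∃ u v l hu hv hl, g = f.eichler u v l hu hv hl}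
  have hN : ∀ u v, Ein N u v := fun u v l hu hv hl =>
    Subgroup.subset_normalClosure ⟨u, v, l, hu, hv, hl, rfl⟩
  have hT : HasTr f N := fun d l hd hl => hN _ _ _ _ _ _
  have hle : N ≤ K ⊓ f.SIsom := by
    refine (Subgroup.closure_le _).mpr fun x hx => ?_
    obtain ⟨_, ⟨u, v, l, hu, hv, hl, rfl⟩, hx⟩ := Group.mem_conjugatesOfSet_iff.mp hx
    obtain ⟨g, rfl⟩ := isConj_iff.mp hx
    rw [eichler_conj]
    exact ⟨hK _ _ _ _ _ _, Deg.eichler_mem_SIsom _ _ _ _ _ _ _⟩
  obtain ⟨u₀, hu0, hu⟩ := hf.unit_exists_singular h2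
  obtain ⟨e₀, he⟩ := hf.exists_hypPair hu hu0
  have hc := comm_mem_of_ein hf hT hN (exists_lam0 hF) he
  have : Nontrivial V := (finrank_pos_iff (R := F)).1 (by omega)
  obtain ⟨d₀, hd₀⟩ := hf.unit_exists_B_eq (map_one _) one_ne_zero
  let R : Subgroup f.Isom :=
    { carrier := {r | ∀ w, f.B w d₀ = 0 → r.1 w = w}
      one_mem' := fun _ _ => rfl
      mul_mem' := fun ha hb w hw => by rw [Isom.mul_apply, hb w hw, ha w hw]
      inv_mem' := fun {a} ha w hw => by nth_rw 1 [← ha w hw]; rw [Isom.inv_apply] }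
  have hq : ∀ d l h h0, f.qrefl d l h h0 ∈ N ⊔ R := fun d l h h0 => by
    by_cases hd : f.Q d = 0
    · rw [qrefl_eq_tr h h0 hd]; exact Subgroup.mem_sup_left (hT _ _ _ _)
    obtain ⟨s, hs⟩ := exists_norm_eq hF (f.unit_B_self_fixed d)
    have e1 : f.B d d = f.B (s • d₀) (s • d₀) := by rw [B_smul_left, uB_smul, hd₀, ← hs]; ring
    obtain ⟨g, hg⟩ := hf.witt_one (x := d) (y := s • d₀) (by rintro rfl; exact hd f.Q_zero)
      (fun e => hd (by rw [unit_Q, e1, e]; simp)) e1 (by rw [unit_Q, unit_Q, e1])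
    have e2 : g * f.qrefl d l h h0 * g⁻¹ ∈ R := fun w hw => by
      rw [qrefl_conj, qrefl_apply_of_orth]
      rw [hg, uB_smul, hw, mul_zero]
    have e3 := hc (f.qrefl d l h h0) g
    convert (N ⊔ R).mul_mem (Subgroup.mem_sup_left e3) (Subgroup.mem_sup_right e2) using 1
    group
  have hw : ∀ u e, f.HypPair u e → ∀ α : F, α ≠ 0 → ∃ w ∈ N ⊔ R, w.1 u = -α • e ∧
      w.1 e = -(frobq hF α)⁻¹ • u ∧ ∀ x, f.B x u = 0 → f.B x e = 0 → w.1 x = x := by
    intro u e h α hα
    have hσ : frobq hF α ≠ 0 := (map_ne_zero _).2 hα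
    have hb : f.B e u = 1 := h.Beu
    have hl : f.IsLam (u + α • e) (frobq hF α) := by
      rw [unit_isLam_iff]
      simp [uB_smul, h.Buu, h.Bee, h.Bue, hb, frobq_frobq]
    set r := f.qrefl _ _ hl hσ with hr
    have e1 : r.1 u = -α • e := by
      rw [hr, qrefl_apply]; simp [uB_smul, h.Buu, h.Bue, hσ]
    have e2 : ∀ x, f.B x u = 0 → f.B x e = 0 → r.1 x = x := fun x h1 h2 =>
      f.qrefl_apply_of_orth _ _ _ _ (by simp [uB_smul, h1, h2])
    have h1 := h.map r
    rw [e1] at h1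
    obtain ⟨v, l, hu, hv, hl', e3, e4⟩ := exists_eichler_map h1 (e' := -(frobq hF α)⁻¹ • u)
      ⟨h1.Qu, by rw [f.Q_smul, h.Qu, mul_zero], by
        simp [uB_smul, hb, frobq_frobq, hα]⟩
    refine ⟨f.eichler _ v l hu hv hl' * r, Subgroup.mul_mem _ (Subgroup.mem_sup_left
      (hN _ _ _ _ _ _)) (hq _ _ _ _), by rw [Isom.mul_apply, e1, eichler_apply_self], e3,
      fun x a1 a2 => ?_⟩
    rw [Isom.mul_apply, e2 x a1 a2]
    exact e4 x (by simp [uB_smul, a2]) (by rw [← e2 x a1 a2, Isom.map_B, a2])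
      (by simp [uB_smul, a1])
  have htop : N ⊔ R = ⊤ := hf.eq_top_of_containsElem ⟨hq, fun u v l hu hv h =>
    Subgroup.mem_sup_left (hN _ _ _ _ _ _), fun u e h a ha => by
      have hσ : frobq hF a ≠ 0 := (map_ne_zero _).2 ha
      obtain ⟨w, hw1, e1, e2, e3⟩ := hw u e h 1 one_ne_zero
      obtain ⟨w', hw1', e1', e2', e3'⟩ := hw u e h _ (inv_ne_zero hσ)
      have : h.hscale a ha * w = w' := hyp_ext h
        (by rw [Isom.mul_apply, e1, e1', map_smul, h.hscale_e]; simp)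
        (by rw [Isom.mul_apply, e2, e2', map_smul, h.hscale_u]; simp [frobq_frobq])
        fun x h1 h2 => by rw [Isom.mul_apply, e3 x h1 h2, e3' x h1 h2, h.hscale_of_orth _ _ h1 h2]
      exact (Subgroup.mul_mem_cancel_right _ hw1).1 (this ▸ hw1')⟩
  intro g hg
  obtain ⟨n, hn, r, hr, rfl⟩ := Subgroup.mem_sup_of_normal_left.1 (htop ▸ Subgroup.mem_top g)
  have h1 : r ∈ f.SIsom := (Subgroup.mul_mem_cancel_left _ (hle hn).2).1 hg
  have h3 : r.1 d₀ ∈ F ∙ d₀ := by
    rw [← hf.orth_orth (F ∙ d₀), mem_orth']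
    intro w hw
    rw [← hr w (mem_orth_singleton.1 hw), Isom.map_B, mem_orth_singleton.1 hw]
  obtain ⟨δ, hδ⟩ := Submodule.mem_span_singleton.1 h3
  have h4 : ∀ w, r.1 w = w + ((δ - 1) * f.B w d₀) • d₀ := fun w => by
    have := hr (w - f.B w d₀ • d₀) (by simp [hd₀])
    rw [map_sub, map_smul, ← hδ] at this
    linear_combination (norm := module) this
  have h5 : (r.1 : V →ₗ[F] V) = LinearMap.transvection ((δ - 1) • f.B.flip d₀) d₀ := by
    ext w; simp [h4, LinearMap.transvection.apply]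
  rw [mem_SIsom, h5, LinearMap.transvection.det] at h1
  have h6 : δ = 1 := by simpa [hd₀] using h1
  rw [show r = 1 from Isom.ext fun w => by simp [h4, h6], mul_one]
  exact (hle hn).1

theorem su_witt_two [FiniteDimensional F V] (hf : f.Nondeg) {u y u' y' : V} (hu0 : u ≠ 0)
    (hy : y ∉ F ∙ u) (hu0' : u' ≠ 0) (hy' : y' ∉ F ∙ u') (h1 : f.B u u = f.B u' u')
    (h2 : f.B y y = f.B y' y') (h3 : f.B u y = f.B u' y') {x : V} (hx : f.B x x ≠ 0)
    (h4 : f.B u x = 0) (h5 : f.B y x = 0) : ∃ g ∈ f.SIsom, g.1 u = u' ∧ g.1 y = y' := by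
  obtain ⟨g, e1, e2⟩ := hf.witt_two (x := u) (x' := y) (y := u') (y' := y')
    (LinearIndependent.pair_iff' hu0 |>.2 fun a e => hy (Submodule.mem_span_singleton.2 ⟨a, e⟩))
    (LinearIndependent.pair_iff' hu0' |>.2 fun a e => hy' (Submodule.mem_span_singleton.2 ⟨a, e⟩))
    h1 h2 h3 (by rw [unit_Q, unit_Q, h1]) (by rw [unit_Q, unit_Q, h2])
  obtain ⟨g', hg', e⟩ := exists_su_fix hf hx g
  exact ⟨g', hg', by rw [e u h4, e1], by rw [e y h5, e2]⟩

end Cfsg.Agent.MI
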