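import Cfsg.Agent.Lib.MI.U1
import Cfsg.Agent.Lib.MI.Line

/-!
Transitive actions of special unitary groups: classes of vectors, transvections, blocks.
-/

set_option autoImplicit false

namespace Cfsg.Agent.MI

open Module Cfsg.Agent.Forms Cfsg.Agent.Forms.Form Cfsg.Agent.Cls Cfsg.Agent.Deg Finset

variable {F : Type*} [Field F] {V : Type*} [AddCommGroup V] [Module F V]
  [Fintype F] {q : ℕ} {hF : Fintype.card F = q ^ 2} {f : Form (uP hF) V} [Finite V]
  {X : Type*} [MulAction f.Isom X] {c : Chr (uP hF)} {u y : V} {ω : X} {Y Y' : Finset X}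
  {G : Subgroup f.Isom}

theorem exists_aniso_two (hf : f.Nondeg) (h5 : 5 ≤ finrank F V) (u y : V) :
    ∃ x, f.B x x ≠ 0 ∧ f.B x u = 0 ∧ f.B x y = 0 := by
  obtain ⟨x, h1, h2⟩ := exists_aniso_orth' hf (Submodule.span F {u, y})
    (by have := finrank_span_pair_le (F := F) u y; omega)
  exact ⟨x, h2, mem_orth_pair.1 h1⟩

theorem su_class (hf : f.Nondeg) (hu : f.Q u = 0) (hu0 : u ≠ 0) {y' : V}
    (hy : f.B y u = 0) (hy' : f.B y' u = 0) (h1 : y ∉ F ∙ u) (h1' : y' ∉ F ∙ u)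
    (h : f.Q y = 0 ↔ f.Q y' = 0) (hx : ∃ x, f.B x x ≠ 0 ∧ f.B x u = 0 ∧ f.B x y = 0) :
    ∃ k ∈ f.SIsom, ∃ a : F, a ≠ 0 ∧ k.1 u = a • u ∧ k.1 y = a • y' := by
  obtain ⟨a, ha, e⟩ : ∃ a : F, a ≠ 0 ∧ f.B y y = a * frobq hF a * f.B y' y' := by
    by_cases h0 : f.Q y = 0
    · exact ⟨1, one_ne_zero, by rw [f.B_self_of_Q h0, f.B_self_of_Q (h.1 h0), mul_zero]⟩
    · have h2 : f.B y' y' ≠ 0 := fun e => h0 (h.2 (by rwa [unit_Q]))
      obtain ⟨a, ha⟩ := exists_norm_eq hF (c := f.B y y / f.B y' y')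
        (by rw [map_div₀, f.unit_B_self_fixed, f.unit_B_self_fixed])
      refine ⟨a, ?_, by rw [ha, div_mul_cancel₀ _ h2]⟩
      rintro rfl
      rw [zero_mul, eq_comm, div_eq_zero_iff, ← unit_Q] at ha
      tauto
  obtain ⟨x, e1, e2, e3⟩ := hx
  obtain ⟨g, hg, e4, e5⟩ := su_witt_two hf (u' := a • u) (y' := a • y') hu0 h1
    (smul_ne_zero ha hu0) (by
      rwa [Submodule.span_singleton_smul_eq ha.isUnit, Submodule.smul_mem_iff _ ha])
    (by simp [uB_smul, f.B_self_of_Q hu]) (by rw [B_smul_left, uB_smul, e, mul_assoc])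
    (by simp [uB_smul, f.B_eq_zero_symm hy, f.B_eq_zero_symm hy']) e1 (f.B_eq_zero_symm e2)
    (f.B_eq_zero_symm e3)
  exact ⟨g, hg, a, ha, e4, e5⟩

theorem su_rk2 (hf : f.Nondeg) (h4 : 4 ≤ finrank F V) (u e : V) (h : f.HypPair u e) :
    ∃ y, y ≠ 0 ∧ f.Q y = 0 ∧ f.B y u = 0 ∧ f.B y e = 0 := by
  obtain ⟨y, h0, hy⟩ := (h.restrict_orth_nondeg hf).unit_exists_singular
    (by have := h.finrank_orth hf; omega)
  exact ⟨y, fun e => h0 (Subtype.ext e), hy, mem_orth_pair.1 y.2⟩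

theorem exists_mem_Cs (hf : f.Nondeg) (h4 : 4 ≤ finrank F V) (hu : f.Q u = 0) (hu0 : u ≠ 0) :
    ∃ y, y ∈ Cs f u := exists_mem_Cs_of_rk2 hf (su_rk2 hf h4) hu hu0

/-- `s ↦ a σ s - s σ a` -/
def skew (hF : Fintype.card F = q ^ 2) (a : F) : F →+ F where
  toFun s := a * frobq hF s - s * frobq hF a
  map_zero' := by simp
  map_add' x y := by rw [map_add]; ring

theorem card_ker_skew {a : F} (ha : a ≠ 0) : Nat.card (skew hF a).ker = q := by
  obtain ⟨l, hl0, hl⟩ := exists_lam0 hF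
  have hl' := lam0_unit'.1 hl
  have hσ : frobq hF a ≠ 0 := (map_ne_zero _).2 ha
  refine (Nat.card_congr (Equiv.subtypeEquiv (Equiv.mulLeft₀ (l / a) (div_ne_zero hl0 ha))
    fun x => ?_)).trans (card_Lam_unit (hF := hF))
  rw [mem_Lam_unit, Equiv.mulLeft₀_apply, map_mul, map_div₀, hl', AddMonoidHom.mem_ker]
  change a * frobq hF x - x * frobq hF a = 0 ↔ _
  constructor
  · intro h; field_simp; linear_combination -h
  · intro h; field_simp at h; linear_combination -h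

theorem Sys.su_tau_bot (S : Sys f G Y) (h4 : 4 ≤ finrank F V) (hω : ω ∈ Y) :
    ∃ u, f.Q u = 0 ∧ u ≠ 0 ∧ tau f u ω = ⊥ := by
  obtain ⟨u₀, hu₀0, hu₀⟩ := S.nd.unit_exists_singular (by omega)
  obtain ⟨u, hu, hu0, hmin⟩ := exists_min_tau ω hu₀ hu₀0
  refine ⟨u, hu, hu0, ?_⟩
  rw [← AddSubgroup.card_eq_one]
  by_contra hc
  have hq := two_le_q hF
  obtain ⟨t, ht⟩ : ∃ t, Nat.card (tau f u ω) = t + 2 :=
    ⟨Nat.card (tau f u ω) - 2, by have : 0 < Nat.card (tau f u ω) := Nat.card_pos; omega⟩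
  obtain ⟨r, hr⟩ : ∃ r, q = r + 1 := ⟨q - 1, by omega⟩
  have key : ∀ y ∈ Cs f u, q ^ 2 * (t + 1) ≤ r * Nat.card (Cy f u y ω) := fun y hy => by
    have := card_Cy_ge (ω := ω) hu hy.2.1 hy.1 (t := t + 2) fun a => ht ▸ hmin _
      (by rw [Q_add_smul hu hy.1, hy.2.1]) fun e => hy.2.2 (Submodule.mem_span_singleton.2
        ⟨-a, by rw [neg_smul, neg_eq_iff_add_eq_zero, add_comm, e]⟩)
    rwa [card_F hF, card_Lam_unit, show q - 1 = r by omega] at this
  obtain ⟨y, hy⟩ := exists_mem_Cs S.nd h4 hu hu0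
  obtain ⟨y', h1, h2⟩ := exists_hyp_perp S.nd hy
  have hy' : y' ∈ Cs f u := ⟨h2, h1.Qe, not_mem_span_of_B (f.B_eq_zero_symm hy.1)
    (by rw [h1.Beu]; exact one_ne_zero)⟩
  have hb : f.B y' y = 1 := h1.Beu
  have h3 : ∀ a ∈ Cy f u y' ω, ∀ s ∈ Cy f u y ω, skew hF a s ∈ tau f u ω := fun a ha s hs => by
    have := comm_mem_tau hu (mem_Cy.1 hs) (mem_Cy.1 ha)
    simp only [B_smul_left, uB_smul, hb, h1.Bue, mul_one] at this
    exact this
  have h4 : ∀ a ∈ Cy f u y' ω, a ≠ 0 → (skew hF a).ker ≤ Cy f u y ω := fun a ha ha0 => by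
    have e1 := card_le_mul_of_add (skew hF a) _ _ (h3 a ha)
    have e2 := key y hy
    obtain ⟨j, hj⟩ := AddSubgroup.card_dvd_of_le
      (inf_le_right : Cy f u y ω ⊓ (skew hF a).ker ≤ _)
    rw [← AddSubgroup.eq_of_le_of_card_ge (inf_le_right : Cy f u y ω ⊓ (skew hF a).ker ≤ _) ?_]
    · exact inf_le_left
    rw [card_ker_skew ha0] at hj ⊢
    rw [ht] at e1
    generalize Nat.card (Cy f u y ω ⊓ (skew hF a).ker : AddSubgroup F) = i at *
    by_contra hlt
    have hj2 : 2 ≤ j := by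
      by_contra h; interval_cases j <;> omega
    have e3 : 2 * i ≤ q := by nlinarith
    have e4 : q ^ 2 * (t + 1) ≤ r * ((t + 2) * i) := e2.trans (by gcongr)
    have e5 : r * (t + 2) * (2 * i) ≤ r * (t + 2) * q := by gcongr
    subst hr
    nlinarith
  have e6 : q < Nat.card (Cy f u y' ω) := by
    have := key y' hy'
    by_contra h
    have : r * Nat.card (Cy f u y' ω) ≤ r * q := by gcongr; omega
    nlinarith
  obtain ⟨a, ha, ha0⟩ : ∃ a ∈ Cy f u y' ω, a ≠ 0 := by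
    by_contra h
    push Not at h
    rw [(AddSubgroup.eq_bot_iff_forall _).2 h, AddSubgroup.card_bot] at e6
    omega
  obtain ⟨b, hb1, hb0⟩ : ∃ b ∈ Cy f u y' ω, skew hF a b ≠ 0 := by
    by_contra h
    push Not at h
    have := AddSubgroup.card_le_of_le (K := (skew hF a).ker) h
    rw [card_ker_skew ha0] at this
    omega
  have hbσ : frobq hF (skew hF a b) = -skew hF a b := by
    change frobq hF (a * frobq hF b - b * frobq hF a) = -(a * frobq hF b - b * frobq hF a)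
    rw [map_sub, map_mul, map_mul, frobq_frobq, frobq_frobq]; ring
  have h5 : tau f u ω = Lam (uP hF) := le_antisymm (tau_le _ _) fun l hl => by
    have e1 : frobq hF (l / skew hF a b) = l / skew hF a b := by
      rw [map_div₀, mem_Lam_unit.1 hl, hbσ, neg_div_neg_eq]
    have := h3 a ha (l / skew hF a b * b) (h4 b hb1 (by rintro rfl; simp at hb0) (by
      change b * frobq hF _ - _ * frobq hF b = 0
      rw [map_mul, e1]; ring))
    convert this using 1
    change l = a * frobq hF _ - _ * frobq hF a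
    rw [map_mul, e1]
    have e2 : l = l / skew hF a b * (a * frobq hF b - b * frobq hF a) :=
      (div_mul_cancel₀ l hb0).symm
    linear_combination e2
  obtain ⟨z, hz, hz0, hc⟩ := S.proper ω hω
  refine hc (full_of_ein hz (ein_of_hasTr S.nd (Or.inl ‹_›) (hasTr_stabilizer fun w hw hw0 =>
    AddSubgroup.eq_of_le_of_card_ge (tau_le _ _) ?_) z))
  rw [← h5]; exact hmin w hw hw0

theorem utr_mem {A : AddSubgroup V} {z a : V} {l : F} {hz hl} (ha : a ∈ A)
    (h : (tr f z l hz hl).1 a ∈ A) : (l * f.B a z) • z ∈ A := by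
  rw [utr_apply] at h
  simpa using A.sub_mem ha h

/-- an additive subgroup invariant under many transvections -/
theorem su_inv (hf : f.Nondeg) (h3 : 3 ≤ finrank F V) {A : AddSubgroup V} (hy : y ∈ A)
    (hy0 : f.B y y ≠ 0) (hA : ∀ y ∈ A, f.B y y ≠ 0 → ∀ z, f.Q z = 0 → f.B z y = 0 →
      ∀ l, Lam0 (uP hF) l → ∀ a ∈ A, (l * f.B a z) • z ∈ A) {a : V} (ha : a ∈ A)
    (ha' : a ∉ F ∙ y) (x : V) : x ∈ A := by
  have hy1 : y ≠ 0 := by rintro rfl; simp at hy0
  obtain ⟨z, hz, hzy, haz⟩ : ∃ z, f.Q z = 0 ∧ f.B z y = 0 ∧ f.B a z ≠ 0 := by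
    by_contra hc
    push Not at hc
    refine ha' (mem_span_of_perp hf fun x hx => ?_)
    obtain ⟨w, hw0, hw⟩ := (nondeg_perp hf hy0).unit_exists_singular
      (by have := finrank_perp hf hy1; omega)
    obtain ⟨e, he⟩ := (nondeg_perp hf hy0).exists_hypPair hw hw0
    obtain ⟨w', s, t, h1, h2⟩ := exists_sum_sing he ⟨x, mem_orth_singleton.2 hx⟩
    rw [show x = w' + s • w.1 + t • e.1 from congrArg Subtype.val h2]
    simp [uB_smul, hc w' h1 (mem_orth_singleton.1 w'.2), hc w hw (mem_orth_singleton.1 w.2),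
      hc e he.Qe (mem_orth_singleton.1 e.2)]
  obtain ⟨l, hl0, hl⟩ := exists_lam0 hF
  have hl' := lam0_unit'.1 hl
  obtain ⟨z₁, hz₁, h0, h1, h2⟩ : ∃ z₁ ∈ A, z₁ ≠ 0 ∧ f.Q z₁ = 0 ∧ f.B z₁ y = 0 :=
    ⟨_, hA y hy hy0 z hz hzy l hl a ha, smul_ne_zero (mul_ne_zero hl0 haz)
      (by rintro rfl; simp at haz), by rw [f.Q_smul, hz, mul_zero],
      by rw [B_smul_left, hzy, mul_zero]⟩
  obtain ⟨z', h4, h5⟩ := exists_hyp_perp hf (u := y) (y := z₁) ⟨h2, h1, fun h => by
    obtain ⟨s, rfl⟩ := Submodule.mem_span_singleton.1 h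
    rw [B_smul_left] at h2
    exact h0 (by rw [(mul_eq_zero.1 h2).resolve_right hy0, zero_smul])⟩
  have hb : f.B z' z₁ = 1 := h4.Beu
  have h6 : l • z' ∈ A := by simpa [h4.Bue] using hA y hy hy0 z' h4.Qe h5 l hl z₁ hz₁
  have hν := f.unit_B_self_fixed y
  obtain ⟨γ, hγ⟩ := exists_trace (hF := hF) (t := l / f.B y y * l)
    (by rw [map_mul, map_div₀, hl', hν]; ring)
  have h2' := f.B_eq_zero_symm h2
  have h5' := f.B_eq_zero_symm h5
  have h7 : f.B (y + z₁) (y + z₁) ≠ 0 := by simpa [h2, h2', h4.Buu] using hy0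
  set β := -γ / l with hβ
  have hβσ : frobq hF β = frobq hF γ / l := by rw [hβ, map_div₀, map_neg, hl', neg_div_neg_eq]
  set w := (-l / f.B y y) • y + β • z₁ + l • z' with hw
  have e1 : f.B y w = l := by simp [hw, uB_smul, h2', h5', hl', hν, hy0]
  have e2 : f.B z' w = frobq hF β := by simp [hw, uB_smul, h5, hb, h4.Bee]
  have e3 : f.B z₁ w = -l := by simp [hw, uB_smul, h2, h4.Buu, h4.Bue, hl']
  have e4 : f.Q w = 0 := by
    rw [unit_Q]
    nth_rw 1 [hw]
    simp only [B_add_left, B_smul_left, e1, e2, e3, hβσ]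
    rw [hβ]; field_simp; field_simp at hγ; linear_combination hγ
  have e5 : f.B w (y + z₁) = 0 := f.B_eq_zero_symm (by rw [B_add_left, e1, e3, add_neg_cancel])
  have e6 : β - frobq hF β ≠ 0 := by
    rw [hβσ, hβ, ← sub_div]
    refine div_ne_zero (fun e => ?_) hl0
    have : l / f.B y y * l = 0 := by rw [← hγ]; linear_combination -e
    simp [hl0, hy0] at this
  have hA' := hA _ (A.add_mem hy hz₁) h7
  have e7 : ∀ s : F, s • w ∈ A := fun s => by
    have a1 : frobq hF ((frobq hF s - s) / (β - frobq hF β)) =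
        (frobq hF s - s) / (β - frobq hF β) := by
      rw [map_div₀, map_sub, map_sub, frobq_frobq, frobq_frobq, ← neg_div_neg_eq, neg_sub, neg_sub]
    set b := (frobq hF s - s) / (β - frobq hF β) with hb
    have a2 : frobq hF (s - b * frobq hF β) = s - b * frobq hF β := by
      rw [map_sub, map_mul, a1, frobq_frobq]
      have : b * (β - frobq hF β) = frobq hF s - s := div_mul_cancel₀ _ e6
      linear_combination -this
    have a3 := A.add_mem
      (hA' w e4 e5 ((s - b * frobq hF β) / l) (lam0_unit'.2 (by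
        rw [map_div₀, a2, hl', div_neg])) y hy)
      (hA' w e4 e5 (b / l) (lam0_unit'.2 (by rw [map_div₀, a1, hl', div_neg])) _ h6)
    rw [B_smul_left, e1, e2, ← add_smul] at a3
    convert a3 using 2
    field_simp; ring
  have e8 := perp_le_of_line hf (exists_lam0 hF) h7 hA' e4 (by rintro e; simp [e, hl0.symm] at e1)
    e5 e7
  have e9 := perp_le_of_line hf (exists_lam0 hF) hy0 (hA y hy hy0) h1 h0 h2 fun s =>
    e8 _ (by simp [h2, h4.Buu])
  have a1 : f.B (y - f.B y y • z') (y + z₁) = 0 := by simp [h5, hb, h2']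
  have := A.add_mem (e8 ((f.B x y / f.B y y) • (y - f.B y y • z'))
    (by rw [B_smul_left, a1, mul_zero]))
    (e9 (x - (f.B x y / f.B y y) • (y - f.B y y • z')) (by simp [h5, hy0]))
  simpa using this

end Cfsg.Agent.MI
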