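import Cfsg.Agent.Lib.MI.U2

/-!
Transitive actions of special unitary groups of dimension at least five: blocks.
-/

set_option autoImplicit false

namespace Cfsg.Agent.MI

open Module Cfsg.Agent.Forms Cfsg.Agent.Forms.Form Cfsg.Agent.Cls Cfsg.Agent.Deg Finset

variable {F : Type*} [Field F] {V : Type*} [AddCommGroup V] [Module F V]

theorem proj_perp {P : Param F} {f : Form P V} {u e a : V} (he : f.HypPair u e)
    (ha : f.B a u = 0) : a - f.B a e • u ∈ f.orth (Submodule.span F {u, e}) :=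
  mem_orth_pair.2 ⟨by simp [ha, he.Buu], by simp [he.Bue]⟩

variable [Fintype F] {q : ℕ} {hF : Fintype.card F = q ^ 2} {f : Form (uP hF) V} [Finite V]
  {X : Type*} [MulAction f.Isom X] {c : Chr (uP hF)} {u y : V} {ω : X} {Y Y' : Finset X}
  {G : Subgroup f.Isom}

theorem su_inv_Bl (hf : f.Nondeg) (h5 : 5 ≤ finrank F V) (hu : f.Q u = 0) (hu0 : u ≠ 0)
    (hy : y ∈ Bl c f u ω) (hy0 : f.Q y ≠ 0)
    (hA : ∀ y ∈ Bl c f u ω, f.Q y ≠ 0 → ∀ k ∈ f.SIsom, k.1 u = u → k.1 y = y →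
      ∀ a ∈ Bl c f u ω, k.1 a ∈ Bl c f u ω) :
    (∀ a ∈ Bl c f u ω, ∃ s t : F, s • u + t • y = a) ∨ ∀ x, f.B x u = 0 → x ∈ Bl c f u ω := by
  obtain ⟨e, he⟩ := hf.exists_hypPair hu hu0
  rw [or_iff_not_imp_left]
  intro hc x hx
  push Not at hc
  obtain ⟨a, ha, hc⟩ := hc
  have hp : ∀ a ∈ Bl c f u ω, a - f.B a e • u ∈ Bl c f u ω := fun a ha =>
    sub_mem ha (smul_self_mem_Bl hu _)
  have h1 := orth_of_mem_Bl hy
  have := su_inv (he.restrict_orth_nondeg hf) (by have := he.finrank_orth hf; omega)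
    (A := (Bl c f u ω).comap (f.orth (Submodule.span F {u, e})).subtype.toAddMonoidHom)
    (y := ⟨_, proj_perp he h1⟩) (hp y hy)
    (by simpa [uB_smul, h1, f.B_eq_zero_symm h1, he.Buu, ← unit_Q] using hy0)
    (fun y hy hy0 z hz hzy l hl a ha => utr_mem (hz := hz) (hl := hl) ha
      (hA y hy (by rwa [unit_Q]) (tr f z l hz hl) (tr_mem_SIsom _ _ _ _ _)
        (tr_orth (f.B_eq_zero_symm (mem_orth_pair.1 z.2).1))
        (tr_orth (f.B_eq_zero_symm hzy)) a ha))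
    (a := ⟨_, proj_perp he (orth_of_mem_Bl ha)⟩) (hp a ha) (fun h => by
      obtain ⟨t, ht⟩ := Submodule.mem_span_singleton.1 h
      have ht' : t • (y - f.B y e • u) = a - f.B a e • u := congrArg Subtype.val ht
      exact hc (f.B a e - t * f.B y e) t (by linear_combination (norm := module) ht'))
    ⟨_, proj_perp he hx⟩
  simpa using add_mem (show x - f.B x e • u ∈ Bl c f u ω from this)
    (smul_self_mem_Bl hu (f.B x e))

theorem Sys.mu_class (S : Sys f f.SIsom Y) (h5 : 5 ≤ finrank F V) (hu : f.Q u = 0) (hu0 : u ≠ 0)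
    (hY : PInv f f.SIsom u Y') {y' : V} (hy : f.B y u = 0) (hy' : f.B y' u = 0) (h1 : y ∉ F ∙ u)
    (h1' : y' ∉ F ∙ u) (h : f.Q y = 0 ↔ f.Q y' = 0) : mu c f u Y' y ≤ mu c f u Y' y' := by
  obtain ⟨k, hk, a, ha, e1, e2⟩ := su_class S.nd hu hu0 hy hy' h1 h1' h
    (exists_aniso_two S.nd h5 u y)
  exact mu_conj hu e1 ha e2 (hY k hk a ha e1)

theorem Sys.cs_le (S : Sys f f.SIsom Y) (h5 : 5 ≤ finrank F V) (hu : f.Q u = 0) (hu0 : u ≠ 0)
    (hY : PInv f f.SIsom u Y') (hy : y ∈ Cs f u) :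
    mu c f u Y' y * ((Cs f u).ncard + Nat.card F) ≤ Nat.card F * Y'.card :=
  class_le_span hu hu0 (fun _ h => h.2.2) hy fun _ h => S.mu_class h5 hu hu0 hY hy.1 h.1 hy.2.2
    h.2.2 (by simp [hy.2.1, h.2.1])

theorem Sys.cn_le (S : Sys f f.SIsom Y) (h5 : 5 ≤ finrank F V) (hu : f.Q u = 0) (hu0 : u ≠ 0)
    (hY : PInv f f.SIsom u Y') (hy : y ∈ Cn f u) :
    mu c f u Y' y * ((Cn f u).ncard + Nat.card F) ≤ Nat.card F * Y'.card :=
  class_le_span hu hu0 (fun _ h => not_mem_span_of_Q hu h.2) hy fun _ h =>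
    S.mu_class h5 hu hu0 hY hy.1 h.1 (not_mem_span_of_Q hu hy.2) (not_mem_span_of_Q hu h.2)
      (by simp [hy.2, h.2])

theorem Sys.su_ts (S : Sys f f.SIsom Y) (h5 : 5 ≤ finrank F V) (hu : f.Q u = 0) (hu0 : u ≠ 0)
    (hY : PInv f f.SIsom u Y') (hω : ω ∈ Y') (hA : ∀ a ∈ Bl c f u ω, f.Q a = 0)
    (hy : y ∈ Bl c f u ω) (hy' : y ∉ F ∙ u) {a : V} (ha : a ∈ Bl c f u ω)
    (ha' : ¬ ∃ s t : F, s • u + t • y = a) :
    ∃ y ∈ Cs f u, ((q + 1) * wt f u ω : ℚ) ≤ mu c f u Y' y := by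
  have hq := two_le_q hF
  by_cases h : ∃ a ∈ Bl c f u ω, ∃ y ∈ Bl c f u ω, f.B a y ≠ 0
  · obtain ⟨a, ha, y, hy, h⟩ := h
    have h1 := orth_of_mem_Bl ha
    have h2 := orth_of_mem_Bl hy
    have h3 := f.B_self_of_Q (hA y hy)
    refine ⟨y, ⟨h2, hA y hy, not_mem_span_of_B (f.B_eq_zero_symm h1) (B_ne_symm h)⟩, ?_⟩
    obtain ⟨x, e1, e2, e3⟩ := exists_aniso_two S.nd h5 u y
    have hg : ∀ s : F, ∃ g l, IsE g y (s • x) l := fun s =>
      let ⟨l, hl⟩ := f.exists_isLam (s • x)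
      let ⟨g, hg⟩ := exists_isE (hA y hy) (by rw [B_smul_left, e3, mul_zero]) hl
      ⟨g, l, hg⟩
    choose g l hg using hg
    refine le_trans ?_ (S.mu_images hu hu0 hY hω hy g (fun s => S.ein (hA y hy) (hg s))
      (fun s => (hg s).apply_of_orth (f.B_eq_zero_symm h2)
        (by rw [uB_smul, f.B_eq_zero_symm e2, mul_zero]))
      (fun s => (hg s).apply_self (hA y hy)) fun s t hst => ?_)
    · rw [card_F hF]
      gcongr
      norm_cast
      nlinarith
    have e4 := ((hg t).inv (hA y hy)).mul (hA y hy) (hg s)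
    have e5 := hA _ (sub_mem (hst a ha) ha)
    rw [← Isom.mul_apply, IsE_Q_sub (hA y hy) e4, ← neg_smul, ← add_smul, f.Q_smul, unit_Q] at e5
    simpa [h, e1, neg_add_eq_zero, (frobq hF).injective.eq_iff, eq_comm (a := t)] using e5
  push Not at h
  refine ⟨y, ⟨orth_of_mem_Bl hy, hA y hy, hy'⟩, ?_⟩
  obtain ⟨a', h1, h2⟩ := S.nd.exists_hypPair_orth (hA a ha) (H := Submodule.span F {u, y})
    (fun e => ha' (Submodule.mem_span_pair.1 e)) fun x hx => by
      obtain ⟨s, t, rfl⟩ := Submodule.mem_span_pair.1 hx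
      simp [h u (self_mem_Bl hu) a ha, h y hy a ha]
  have h3 := h2 u (Submodule.subset_span (by simp))
  have h4 := h2 y (Submodule.subset_span (by simp))
  have hb : f.B a' a = 1 := h1.Beu
  obtain ⟨l, hl0, hl⟩ := exists_lam0 hF
  have hl' := lam0_unit'.1 hl
  have hl1 : Lam0 (uP hF) (-l⁻¹) := lam0_unit'.2 (by rw [map_neg, map_inv₀, hl', inv_neg])
  have := S.mu_images hu hu0 hY hω hy (ι := Option (Lam (uP hF)))
    (fun i => i.elim (tr f a _ (hA a ha) hl1 * tr f a' l h1.Qe hl) fun s =>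
      tr f a' s h1.Qe (mem_Lam.1 s.2))
    (by rintro (_ | s); exacts [mul_mem (tr_mem_SIsom _ _ _ _ _) (tr_mem_SIsom _ _ _ _ _),
      tr_mem_SIsom _ _ _ h1.Qe (mem_Lam.1 s.2)])
    (by rintro (_ | s) <;> simp [Isom.mul_apply, utr_apply, h3, h u (self_mem_Bl hu) a ha])
    (by rintro (_ | s) <;> simp [Isom.mul_apply, utr_apply, h4, h y hy a ha])
    fun i j hij => by
      have e := h _ (hij a ha) a ha
      rw [← Isom.B_right] at e
      rcases i with _ | s <;> rcases j with _ | t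
      · rfl
      · simp [Isom.mul_apply, utr_apply, h1.Bue, hb, h1.Buu, h1.Bee, hl0, uB_smul] at e
      · simp [Isom.mul_apply, utr_apply, h1.Bue, hb, h1.Buu, h1.Bee, hl0, uB_smul] at e
      · simp only [Option.elim, utr_apply, h1.Bue, mul_one, B_sub_left, B_sub_right, B_smul_left,
          uB_smul, hb, h1.Buu, h1.Bee, mem_Lam_unit.1 t.2] at e
        exact congrArg some (Subtype.ext (by linear_combination -e))
  rwa [Finite.card_option, card_Lam_unit, Nat.cast_add_one] at this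

theorem smul_mem_Bl_of_bot (hc : ∀ a, frobq hF a = -a → c.ψ a = 1) (hu : f.Q u = 0)
    (h : tau f u ω = ⊥) {v : V} (hv : v ∈ Sb f u ω) {l : F} (hl : frobq hF l = -l) :
    l • v ∈ Bl c f u ω := fun w hw => hc _ (by
  have := comm_mem_tau hu hv hw
  rw [h, AddSubgroup.mem_bot, sub_eq_zero] at this
  rw [uB_smul, map_mul, frobq_frobq, hl, ← uB_symm, this]; ring)

theorem card_Sb_le_of_bot (hc : ∀ a, frobq hF a = -a → c.ψ a = 1) (hu : f.Q u = 0)
    (h : tau f u ω = ⊥) : Nat.card (Sb f u ω) ≤ Nat.card (Bl c f u ω) := by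
  obtain ⟨l, hl0, hl⟩ := exists_lam0 hF
  exact Nat.card_le_card_of_injective
    (fun v => ⟨l • v.1, smul_mem_Bl_of_bot hc hu h v.2 (lam0_unit'.1 hl)⟩) fun x y e =>
      Subtype.ext (smul_right_injective V hl0 (congrArg Subtype.val e))

theorem not_line_of_bot (hf : f.Nondeg) (h5 : 5 ≤ finrank F V)
    (hc : ∀ a, frobq hF a = -a → c.ψ a = 1) (hu : f.Q u = 0) (h : tau f u ω = ⊥) (y : V) :
    ¬ ∀ a ∈ Bl c f u ω, ∃ s t : F, s • u + t • y = a := fun e => by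
  have h1 := card_Bl_le_of_line e
  have h2 := card_Sb_le_of_bot hc hu h
  have h3 := card_Sb_mul_card_Bl (c := c) (u := u) (ω := ω) hf
  have h4 : 1 < Nat.card F := Finite.one_lt_card
  have h6 : Nat.card F ^ 4 < Nat.card V := by
    rw [Module.natCard_eq_pow_finrank (K := F) (V := V)]
    exact Nat.pow_lt_pow_right h4 h5
  have := Nat.mul_le_mul (h2.trans h1) h1
  nlinarith

end Cfsg.Agent.MI
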