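import Cfsg.Agent.Lib.MI.U3

/-!
Minimal degree of a transitive action of a special unitary group of dimension at least five.
-/

set_option autoImplicit false

namespace Cfsg.Agent.MI

open Module Cfsg.Agent.Forms Cfsg.Agent.Forms.Form Cfsg.Agent.Cls Cfsg.Agent.Deg Finset

variable {F : Type*} [Field F] {V : Type*} [AddCommGroup V] [Module F V]
  [Fintype F] {q : ℕ} {hF : Fintype.card F = q ^ 2} {f : Form (uP hF) V} [Finite V]
  {X : Type*} [MulAction f.Isom X] {c : Chr (uP hF)} {u y : V} {ω : X} {Y Y' : Finset X}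
  {G : Subgroup f.Isom}

theorem four_mul_le {s b n : ℕ} (h1 : s * b = 4 ^ n) (h2 : s < b) : 4 * s ≤ b := by
  rw [show 4 ^ n = 2 ^ (2 * n) by rw [pow_mul]; rfl] at h1
  obtain ⟨i, -, rfl⟩ := (Nat.dvd_prime_pow Nat.prime_two).1 ⟨_, h1.symm⟩
  obtain ⟨j, -, rfl⟩ := (Nat.dvd_prime_pow Nat.prime_two).1 ⟨_, h1.symm.trans (mul_comm _ _)⟩
  rw [← pow_add, Nat.pow_right_inj one_lt_two] at h1
  rw [Nat.pow_lt_pow_iff_right one_lt_two] at h2
  rw [show 4 * 2 ^ i = 2 ^ (i + 2) by ring]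
  exact Nat.pow_le_pow_right two_pos (by omega)

theorem Sys.su_two (S : Sys f f.SIsom Y) (h5 : 5 ≤ finrank F V) (hq : q = 2)
    (hc : ∀ a, frobq hF a = -a → c.ψ a = 1) (hu : f.Q u = 0) (hu0 : u ≠ 0) (hω : ω ∈ Y)
    (ht : tau f u ω = ⊥) (hr : ¬ Reg f u ω) (hy : y ∈ Bl c f u ω) (hy0 : f.Q y ≠ 0) :
    2 * (Cs f u).ncard < Y.card := by
  classical
  have hF4 : Nat.card F = 4 := by rw [card_F hF, hq]; rfl
  have h2 : (2 : F) = 0 := by
    have := FiniteField.cast_card_eq_zero F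
    rw [hF, hq] at this
    exact pow_eq_zero_iff two_ne_zero |>.1 (by exact_mod_cast this)
  have h1 : ∀ v ∈ Sb f u ω, f.Q v = 0 := fun v hv => by
    obtain ⟨l, h⟩ := hv hu
    have := ((h.mul hu h).congr (by rw [← two_smul F, h2, zero_smul]) rfl).mem_tau
    rw [ht, AddSubgroup.mem_bot, ← two_mul, h2, zero_mul, zero_add] at this
    rwa [unit_Q]
  have h3 : Sb f u ω < Bl c f u ω := lt_of_le_of_ne (fun v hv => by
    simpa using smul_mem_Bl_of_bot hc hu ht hv (l := 1)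
      (by rw [map_one]; linear_combination h2)) fun e => hy0 (h1 y (e ▸ hy))
  have h4 := card_Sb_mul_card_Bl (c := c) (u := u) (ω := ω) S.nd
  have h6 : 4 * Nat.card (Sb f u ω) ≤ Nat.card (Bl c f u ω) := four_mul_le (by rwa [Module.natCard_eq_pow_finrank (K := F) (V := V), hF4] at h4)
    (Set.ncard_lt_ncard (s := (Sb f u ω : Set V)) (t := (Bl c f u ω : Set V)) h3)
  obtain ⟨v, hv, hv'⟩ : ∃ v ∈ Sb f u ω, v ∉ F ∙ u := by
    by_contra h; push Not at h; exact hr ⟨h, ht⟩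
  have p1 := ((S.pinv u).card_Bl (c := c) (· = Nat.card (Bl c f u ω)) hu)
  have h7 := dual_cover c S.nd hu hu0 (S.cl hu p1) (C := Cs f u) (fun _ h => h.2.2)
    (m := 2 * Nat.card (Sb f u ω)) (n := Nat.card (Sb f u ω) - 4) (fun y' hy' => by
      obtain ⟨x, e1, e2, e3⟩ := exists_aniso_two S.nd h5 u v
      obtain ⟨g, hg, e4, e5⟩ := su_witt_two S.nd hu0 hv' hu0 hy'.2.2 rfl
        (by rw [f.B_self_of_Q (h1 v hv), f.B_self_of_Q hy'.2.1])
        (by rw [f.B_eq_zero_symm hy'.1, f.B_eq_zero_symm (orth_of_mem_Sb hu hv)]) e1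
        (f.B_eq_zero_symm e2) (f.B_eq_zero_symm e3)
      have e6 : g.1 u = (1 : F) • u := by rw [e4, one_smul]
      refine ⟨g • ω, p1 g hg 1 one_ne_zero e6 ω (by simp [hω]), e5 ▸ mem_Sb_fix e4 hv, ?_⟩
      rw [card_Bl_conj hu e6 one_ne_zero, wt_conj hu e6 one_ne_zero, wt_of_bot ht,
        card_Lam_unit.trans hq, hF4]
      omega) fun ω' hω' => by
      have := card_Sb_mul_card_Bl (c := c) (u := u) (ω := ω') S.nd
      rw [(mem_filter.1 hω').2, ← h4] at this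
      rw [Nat.eq_of_mul_eq_mul_right Nat.card_pos this, hF4]
      omega
  have h8 := card_filter_le Y fun ω' => Nat.card (Bl c f u ω') = Nat.card (Bl c f u ω)
  have h9 : 0 < Nat.card (Sb f u ω) := Nat.card_pos
  have h10 := card_pos.2 S.ne
  have : (Cs f u).ncard * (2 * Nat.card (Sb f u ω)) < Y.card * Nat.card (Sb f u ω) :=
    h7.trans_lt ((Nat.mul_le_mul_right _ h8).trans_lt (by gcongr; omega))
  nlinarith

theorem Sys.su_exists_reg (S : Sys f f.SIsom Y) (h5 : 5 ≤ finrank F V) {B : ℕ} (hB : Y.card < B)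
    (n1 : ∀ u, f.Q u = 0 → u ≠ 0 → Nat.card F * B ≤ 2 * q * ((Cn f u).ncard + Nat.card F) ∨
      (q = 2 ∧ B ≤ 2 * (Cs f u).ncard))
    (n2 : ∀ u, f.Q u = 0 → u ≠ 0 → Nat.card F * B ≤ (q + 1) * q * ((Cs f u).ncard + Nat.card F))
    (hω : ω ∈ Y) : ∃ u, f.Q u = 0 ∧ u ≠ 0 ∧ Reg f u ω := by
  obtain ⟨c, hc⟩ := exists_chr_unit hF
  obtain ⟨u, hu, hu0, ht⟩ := S.su_tau_bot (by omega) hω
  refine ⟨u, hu, hu0, ?_⟩
  by_contra hr
  have hw : wt f u ω = q := by rw [wt_of_bot ht, card_Lam_unit]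
  have hB' : (Nat.card F * Y.card : ℚ) < Nat.card F * B := by
    exact_mod_cast Nat.mul_lt_mul_of_pos_left hB Nat.card_pos
  by_cases h : ∀ a ∈ Bl c f u ω, f.Q a = 0
  · obtain ⟨v, hv, hv'⟩ : ∃ v ∈ Sb f u ω, v ∉ F ∙ u := by
      by_contra h; push Not at h; exact hr ⟨h, ht⟩
    obtain ⟨l, hl0, hl⟩ := exists_lam0 hF
    have h1 := not_line_of_bot S.nd h5 hc hu ht (l • v)
    push Not at h1
    obtain ⟨a, ha, h1⟩ := h1
    obtain ⟨y, hy, h2⟩ := S.su_ts h5 hu hu0 (S.pinv u) hω h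
      (smul_mem_Bl_of_bot hc hu ht hv (lam0_unit'.1 hl))
      (by rwa [Submodule.smul_mem_iff _ hl0]) ha (by simpa using h1)
    have h3 := S.cs_le (c := c) h5 hu hu0 (S.pinv u) hy
    have h4 : (Nat.card F * B : ℚ) ≤ (q + 1) * q * ((Cs f u).ncard + Nat.card F) := by
      exact_mod_cast n2 u hu hu0
    rw [hw] at h2
    have := mul_le_mul_of_nonneg_right h2 (by positivity : (0 : ℚ) ≤ (Cs f u).ncard + Nat.card F)
    linarith
  push Not at h
  obtain ⟨y, hy, hy0⟩ := h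
  rcases n1 u hu hu0 with h1 | ⟨h1, h2⟩
  · rcases su_inv_Bl S.nd h5 hu hu0 hy hy0 fun y hy hy0 k hk e1 e2 a ha =>
      S.inv_of_mu_lt hu hu0 (S.pinv u) hω hy (by
        have h3 := S.cn_le (c := c) h5 hu hu0 (S.pinv u) (y := y) ⟨orth_of_mem_Bl hy, hy0⟩
        have h4 : (Nat.card F * B : ℚ) ≤ 2 * q * ((Cn f u).ncard + Nat.card F) := by
          exact_mod_cast h1
        rw [hw]
        exact lt_of_mul_lt_mul_right (a := ((Cn f u).ncard + Nat.card F : ℚ)) (by linarith)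
          (by positivity)) hk e1 e2 ha with h | h
    · exact not_line_of_bot S.nd h5 hc hu ht y h
    · exact hr ⟨Sb_le_of_Bl S.nd h, ht⟩
  · have := S.su_two h5 h1 hc hu hu0 hω ht hr hy hy0
    omega

theorem full_of_Bl_le (hf : f.Nondeg) (h4 : 4 ≤ finrank F V) (hu : f.Q u = 0) (hu0 : u ≠ 0)
    (h : ∀ a ∈ Bl c f u ω, a ∈ F ∙ u) : Full f u ω := by
  refine full_of hu (fun v => mem_Sb_of_Bl_le hf h) (le_antisymm (tau_le _ _) fun l hl => ?_)
  obtain ⟨y, hy⟩ := exists_mem_Cs hf h4 hu hu0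
  obtain ⟨y', h1, h2⟩ := exists_hyp_perp hf hy
  obtain ⟨s, hs⟩ := exists_sub_eq (mem_Lam.1 hl)
  have := comm_mem_tau hu (mem_Sb_of_Bl_le hf h (v := s • y') (by rw [B_smul_left, h2, mul_zero]))
    (mem_Sb_of_Bl_le hf h hy.1)
  rwa [uB_smul, B_smul_left, h1.Bue, h1.Beu, Param.unit_ε, mul_one, mul_one, hs] at this

theorem Sys.su_three (S : Sys f f.SIsom Y) (h5 : 5 ≤ finrank F V) {B : ℕ} (hB : Y.card < B)
    (hu : f.Q u = 0) (hu0 : u ≠ 0)
    (n5 : (Nat.card F - 1) * B ≤ (Cn f u).ncard + (Nat.card F - 1) * {e | f.HypPair u e}.ncard)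
    (n6 : (Nat.card F - 1) * B ≤ {w | f.Q w = 0 ∧ w ≠ 0}.ncard) {ω₀ : X} (hω₀ : ω₀ ∈ Y)
    (hr : Reg f u ω₀) (hω : ω ∈ Y) (h1 : ¬ Reg f u ω) (h2 : ¬ Full f u ω) :
    tau f u ω = Lam (uP hF) ∧ ∃ y ∈ Cs f u, Ln c f u y ω := by
  classical
  have e1 := S.card_not_reg_mul c hu hu0 hω₀ hr hB n6
  have e2 := S.card_not_reg c hu hu0 hω₀ hr
  have p1 := (S.pinv u).not_reg hu
  have m1 : ω ∈ Y.filter fun ω => ¬ Reg f u ω := mem_filter.2 ⟨hω, h1⟩
  generalize (Y.filter fun ω => ¬ Reg f u ω) = Y₁ at *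
  obtain ⟨r, hr⟩ : ∃ r, Nat.card F = r + 2 :=
    ⟨Nat.card F - 2, by have : 1 < Nat.card F := Finite.one_lt_card; omega⟩
  rw [hr, show r + 2 - 1 = r + 1 from rfl] at e1 n5
  have e3 : (r + 1) * Y₁.card < (Cn f u).ncard := by
    have : (r + 1) * ({e | f.HypPair u e}.ncard + Y₁.card + 1) ≤ (r + 1) * B := by gcongr; omega
    nlinarith
  have e1' : (r + 1 : ℚ) * Y₁.card ≤ (Cs f u).ncard := by exact_mod_cast e1
  have e3' : (r + 1 : ℚ) * Y₁.card < (Cn f u).ncard := by exact_mod_cast e3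
  have e0 : (0 : ℚ) ≤ r * Y₁.card := by positivity
  have hw := one_le_wt (f := f) u ω
  have k1 : ∀ a ∈ Bl c f u ω, f.Q a = 0 := by
    by_contra hc
    push Not at hc
    obtain ⟨y, hy, hy0⟩ := hc
    rcases su_inv_Bl S.nd h5 hu hu0 hy hy0 fun y hy hy0 k hk e1 e2 a ha =>
      S.inv_of_mu_lt hu hu0 p1 m1 hy (by
        have h3 := S.cn_le (c := c) h5 hu hu0 p1 (y := y) ⟨orth_of_mem_Bl hy, hy0⟩
        rw [hr] at h3
        push_cast at h3
        refine lt_of_mul_lt_mul_right (a := ((Cn f u).ncard + (r + 2) : ℚ)) ?_ (by positivity)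
        nlinarith) hk e1 e2 ha with h | h
    · have p2 := p1.card_Bl (c := c) (· ≤ Nat.card F * Nat.card F) hu
      have h3 := class_small (c := c) hu hu0 (C := Cn f u) (fun _ h => not_mem_span_of_Q hu h.2)
        (b := Nat.card F) (m := 1) (fun ω hω => (mem_filter.1 hω).2) fun y' hy' =>
        (hw.trans (mu_ge_one S.nd hu hu0 (S.cl hu p2) (mem_filter.2 ⟨m1, card_Bl_le_of_line h⟩)
          hy)).trans (S.mu_class h5 hu hu0 p2 (orth_of_mem_Bl hy) hy'.1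
            (not_mem_span_of_Q hu hy0) (not_mem_span_of_Q hu hy'.2) (by simp [hy0, hy'.2]))
      have h4 : ((Y₁.filter fun ω => Nat.card (Bl c f u ω) ≤ Nat.card F * Nat.card F).card : ℚ) ≤
          Y₁.card := by exact_mod_cast card_filter_le _ _
      generalize ((Y₁.filter fun ω => Nat.card (Bl c f u ω) ≤ Nat.card F * Nat.card F).card : ℚ)
        = x at *
      rw [hr, ← mul_add] at h3
      have := le_of_mul_le_mul_left h3 (by positivity)
      push_cast at this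
      nlinarith
    · have h3 := card_ge_orbit (c := c) S.nd hu hu0 (S.cl hu p1) m1
      rw [card_Bl_of_Sb_le hu (Sb_le_of_Bl S.nd h), card_perp_eq hu hu0, hr] at h3
      have := wt_pos (f := f) u ω
      nlinarith
  have k2 : ∀ y ∈ Cs f u, mu c f u Y₁ y < 2 := fun y hy => by
    have h3 := S.cs_le (c := c) h5 hu hu0 p1 hy
    rw [hr] at h3
    push_cast at h3
    refine lt_of_mul_lt_mul_right (a := ((Cs f u).ncard + (r + 2) : ℚ)) ?_ (by positivity)
    nlinarith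
  obtain ⟨y, hy, hy'⟩ : ∃ y ∈ Bl c f u ω, y ∉ F ∙ u := by
    by_contra h; push Not at h; exact h2 (full_of_Bl_le S.nd (by omega) hu hu0 h)
  have hy1 : y ∈ Cs f u := ⟨orth_of_mem_Bl hy, k1 y hy, hy'⟩
  refine ⟨tau_eq_of_wt (by
    exact_mod_cast (mu_ge_one S.nd hu hu0 (S.cl hu p1) m1 hy).trans_lt (k2 y hy1)),
    y, hy1, hy, hy', fun a ha => ?_⟩
  by_contra hc
  obtain ⟨y', h3, h4⟩ := S.su_ts h5 hu hu0 p1 m1 k1 hy hy' ha hc
  have := k2 y' h3
  have hq : (2 : ℚ) ≤ q := by exact_mod_cast two_le_q hF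
  nlinarith

theorem perp_of_aniso (hf : f.Nondeg) (h5 : 5 ≤ finrank F V) {z v : V}
    (h : ∀ x, f.B x x ≠ 0 → f.B x u = 0 → f.B x z = 0 → f.B v x = 0) :
    ∃ s t : F, s • u + t • z = v := mem_span_pair_of_perp hf fun x h1 h2 => by
  by_cases hx : f.B x x = 0
  swap
  · exact h x hx h1 h2
  obtain ⟨x₀, e1, e2, e3⟩ := exists_aniso_two hf h5 u z
  obtain ⟨s, hs, e⟩ : ∃ s : F, s ≠ 0 ∧ s * f.B x₀ x + frobq hF (s * f.B x₀ x) = 0 := by
    by_cases h0 : f.B x₀ x = 0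
    · exact ⟨1, one_ne_zero, by simp [h0]⟩
    · obtain ⟨l, hl0, hl⟩ := exists_lam0 hF
      exact ⟨l / f.B x₀ x, div_ne_zero hl0 h0, by rw [div_mul_cancel₀ _ h0, lam0_unit.1 hl]⟩
  have := h (x + s • x₀) (by
    rw [map_mul, ← uB_symm] at e
    have : f.B (x + s • x₀) (x + s • x₀) = s * frobq hF s * f.B x₀ x₀ := by
      simp only [B_add_left, B_add_right, B_smul_left, uB_smul, hx]
      linear_combination e
    rw [this]
    exact mul_ne_zero (mul_ne_zero hs ((map_ne_zero _).2 hs)) e1) (by simp [h1, e2])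
    (by simp [h2, e3])
  rwa [B_add_right, uB_smul, h x₀ e1 e2 e3, mul_zero, add_zero] at this

theorem Sys.su_not_all_reg (S : Sys f f.SIsom Y) (h5 : 5 ≤ finrank F V) (hω : ω ∈ Y)
    (hr : ∀ u, f.Q u = 0 → u ≠ 0 → Reg f u ω) (hu : f.Q u = 0) (hu0 : u ≠ 0)
    (hs : ∀ ω' ∈ Y, SO f u ω ω') : False := by
  obtain ⟨z, hz⟩ := exists_mem_Cs S.nd (by omega) hu hu0
  obtain ⟨l, hl0, hl⟩ := exists_lam0 hF
  have hl' := lam0_unit'.1 hl
  have huz := f.B_eq_zero_symm hz.1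
  have hzz := f.B_self_of_Q hz.2.1
  have huu := f.B_self_of_Q hu
  set t := tr f z l hz.2.1 hl with ht
  obtain ⟨g, v, m, hg, e⟩ := (hs _ (S.inv t (S.tr_mem _ _) ω hω)).symm hu
  rw [← mul_smul] at e
  have key : ∀ k ∈ f.SIsom, k.1 u = u → k * t = t * k → ∃ r s : F, k.1 v - v = r • u + s • z :=
    fun k hk h1 h2 => by
      obtain ⟨v', -, h⟩ := (hr u hu hu0).cocycle S.nd hu hu0 (tr_orth huz) hg e h1 h2
        (hs _ (S.inv k hk ω hω))
      obtain ⟨r, hr⟩ := Submodule.mem_span_singleton.1 h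
      rw [utr_apply] at hr
      exact ⟨r, -(l * f.B v' z), by linear_combination (norm := module) -hr⟩
  have k0 : ∀ x, f.B x x ≠ 0 → ∀ r s : F, r • u + s • z ≠ x := by
    rintro _ hx r s rfl
    simp [uB_smul, hz.1, huz, hzz, huu] at hx
  have k1 : f.B v z = 0 := by
    obtain ⟨x, e1, e2, e3⟩ := exists_aniso_two S.nd h5 u z
    obtain ⟨n, hn⟩ := f.exists_isLam x
    obtain ⟨k, hk⟩ := exists_isE hz.2.1 e3 hn
    have h1 := isE_tr hz.2.1 hl
    obtain ⟨r, s, h⟩ := key k (S.ein hz.2.1 hk) (hk.apply_of_orth huz (f.B_eq_zero_symm e2))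
      ((hk.mul hz.2.1 h1).eq ((h1.mul hz.2.1 hk).congr (by simp) (by simp [add_comm])))
    by_contra hc
    rw [hk.app] at h
    exact k0 (f.B v z • x) (by simpa [uB_smul, hc] using e1) r
      (s + f.B v x + n * f.B v z) (by
        simp only [Param.unit_ε] at h; linear_combination (norm := module) -h)
  obtain ⟨α, β, rfl⟩ := perp_of_aniso S.nd h5 (u := u) (z := z) (v := v) fun x e1 e2 e3 => by
    obtain ⟨z', h1, h2⟩ := S.nd.exists_hypPair_orth hz.2.1 (H := Submodule.span F {u, x})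
      (fun h => by
        obtain ⟨a, b, h⟩ := Submodule.mem_span_pair.1 h
        have h1 := congrArg (f.B · x) h
        simp only [B_add_left, B_smul_left, f.B_eq_zero_symm e2, f.B_eq_zero_symm e3] at h1
        have h2 : b = 0 := by simpa [e1] using h1
        exact hz.2.2 (Submodule.mem_span_singleton.2 ⟨a, by simpa [h2] using h⟩))
      fun w hw => by
        obtain ⟨a, b, rfl⟩ := Submodule.mem_span_pair.1 hw
        simp [huz, e3]
    have h3 := h2 u (Submodule.subset_span (by simp))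
    have h4 := h2 x (Submodule.subset_span (by simp))
    obtain ⟨d, d1, d2⟩ := exists_norm_one_sq_ne hF
    have d0 : d ≠ 0 := left_ne_zero_of_mul_eq_one d1
    have d3 : frobq hF d = d⁻¹ := eq_inv_of_mul_eq_one_right d1
    obtain ⟨k, k2, k3⟩ := exists_qrefl_det e1 (s := (d * d)⁻¹)
      (by rw [map_inv₀, map_mul, d3]; field_simp)
    have k4 : (h1.hscale d d0 * k).1 z = d • z := by
      rw [Isom.mul_apply, k3, f.B_eq_zero_symm e3, mul_zero, zero_smul, sub_zero, h1.hscale_u]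
    obtain ⟨r, s, h⟩ := key (h1.hscale d d0 * k) (by
        rw [SIsom, MonoidHom.mem_ker, Units.ext_iff, map_mul, Units.val_mul, k2, det_hscale,
          Param.unit_σ, d3, inv_inv, mul_inv_cancel₀ (mul_ne_zero d0 d0), Units.val_one])
      (by rw [Isom.mul_apply, k3, f.B_eq_zero_symm e2, mul_zero, zero_smul, sub_zero,
        h1.hscale_of_orth _ _ huz h3])
      (mul_inv_eq_iff_eq_mul.1 ((((isE_tr hz.2.1 hl).of_conj k4 d0).congr (by simp)
        (by rw [Param.unit_σ, d1, one_mul])).eq (isE_tr hz.2.1 hl)))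
    by_contra hc
    have h6 : (1 - (d * d)⁻¹) / f.B x x * f.B v x ≠ 0 :=
      mul_ne_zero (div_ne_zero (sub_ne_zero.2 fun e => d2 (inv_eq_one.1 e.symm)) e1) hc
    rw [Isom.mul_apply, k3, map_sub, map_smul, h1.hscale_of_orth _ _ e3 h4, h1.hscale_apply, k1,
      mul_zero, zero_smul, add_zero] at h
    exact k0 (((1 - (d * d)⁻¹) / f.B x x * f.B v x) • x)
      (by rw [B_smul_left, uB_smul]; exact mul_ne_zero h6 (mul_ne_zero ((map_ne_zero _).2 h6) e1))
      (-r) ((d - 1) * f.B v z' - s) (by linear_combination (norm := module) h)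
  have hg' := IsE.add_self hu α (hg.congr (add_comm _ _) rfl)
  generalize m + (uP hF).σ α - (uP hF).ε * α = n at hg'
  have hn := lam0_unit'.1 (lam0_of_isLam hg'.lam (by rw [f.Q_smul, hz.2.1, mul_zero]))
  obtain ⟨γ, hγ⟩ := exists_norm_eq hF (c := β / l * frobq hF (β / l) - n / l)
    (by rw [map_sub, map_mul, frobq_frobq, map_div₀ _ n, hn, hl', neg_div_neg_eq, mul_comm])
  obtain ⟨a, rfl⟩ : ∃ a, γ = a + frobq hF (β / l) := ⟨γ - _, (sub_add_cancel _ _).symm⟩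
  have h1 : ∀ w, (g * t).1 w = w + (β * f.B w u - l * f.B w z) • z -
      (frobq hF β * f.B w z + n * f.B w u) • u := fun w => by
    rw [Isom.mul_apply, hg'.app, ht, utr_apply]
    simp only [B_sub_left, B_smul_left, uB_smul, hz.1, hzz, Param.unit_ε]
    module
  have hp : f.Q (z + a • u) = 0 := by rw [Q_add_smul hu hz.1, hz.2.1]
  have hp0 : z + a • u ≠ 0 := fun e => hz.2.2 (Submodule.mem_span_singleton.2
    ⟨-a, by rw [neg_smul, neg_eq_iff_add_eq_zero, add_comm, e]⟩)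
  obtain ⟨v', l', h2⟩ := exists_isE_of_fix S.nd hp hp0 (g := g * t)
    (by rw [h1]; simp [hz.1, huz, hzz, huu]) fun w hw => by
      rw [B_add_right, uB_smul, add_eq_zero_iff_eq_neg] at hw
      refine Submodule.mem_span_singleton.2 ⟨β * f.B w u - l * f.B w z, ?_⟩
      rw [h1, hw]
      rw [map_add, frobq_frobq, map_div₀, hl'] at hγ
      field_simp at hγ
      match_scalars
      · ring
      · have : a * β + l * (a * frobq hF a) - frobq hF β * frobq hF a + n = 0 :=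
          mul_left_cancel₀ hl0 (by linear_combination hγ)
        linear_combination f.B w u * this
      · ring
  have h3 := (hr _ hp hp0).eq_one hp h2 e
  obtain ⟨w, w1, w2⟩ := exists_B_two S.nd hu0 hz.2.2 0 1
  have h4 := h1 w
  rw [h3, f.B_eq_zero_symm w1, uB_symm, w2, map_one] at h4
  have h6 := congrArg (f.B · w) h4
  simp [w1, w2, hl0] at h6

theorem Sys.su_le (S : Sys f f.SIsom Y) (h5 : 5 ≤ finrank F V) {B : ℕ}
    (n1 : ∀ u, f.Q u = 0 → u ≠ 0 → Nat.card F * B ≤ 2 * q * ((Cn f u).ncard + Nat.card F) ∨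
      (q = 2 ∧ B ≤ 2 * (Cs f u).ncard))
    (n2 : ∀ u, f.Q u = 0 → u ≠ 0 → Nat.card F * B ≤ (q + 1) * q * ((Cs f u).ncard + Nat.card F))
    (n5 : ∀ u, f.Q u = 0 → u ≠ 0 →
      (Nat.card F - 1) * B ≤ (Cn f u).ncard + (Nat.card F - 1) * {e | f.HypPair u e}.ncard)
    (n6 : (Nat.card F - 1) * B ≤ {w | f.Q w = 0 ∧ w ≠ 0}.ncard)
    (n7 : ∀ u, f.Q u = 0 → u ≠ 0 → B ≤ 2 * {e | f.HypPair u e}.ncard) : B ≤ Y.card := by
  by_contra hB
  push Not at hB
  obtain ⟨c, -⟩ := exists_chr_unit hF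
  obtain ⟨ω, hω⟩ := S.ne
  obtain ⟨u, hu, hu0, hr⟩ := S.su_exists_reg h5 hB n1 n2 hω
  have h : ∀ ω ∈ Y, ∀ u, f.Q u = 0 → u ≠ 0 → Reg f u ω := fun ω' hω' u' hu' hu0' =>
    S.all_reg (c := c) h5 (su_rk2 S.nd (by omega)) (fun u hu hu0 y hy y' hy' =>
      su_class S.nd hu hu0 hy.1 hy'.1 hy.2.2 hy'.2.2 (by simp [hy.2.1, hy'.2.1])
        (exists_aniso_two S.nd h5 u y)) (fun ω' hω' z hz hz0 h1 h2 =>
      let ⟨_, h3, h4⟩ := S.exists_reg hω hu hu0 hr hz hz0
      S.su_three h5 hB hz hz0 (n5 z hz hz0) n6 h3 h4 hω' h1 h2) hu hu0 hω hr hB n6 hω' hu' hu0'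
  exact S.su_not_all_reg h5 hω (h ω hω) hu hu0 fun ω' hω' =>
    S.so_of_reg c hu hu0 hω hr hω' (h ω' hω' u hu hu0) (hB.trans_le (n7 u hu hu0))

end Cfsg.Agent.MI
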