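import Cfsg.Agent.Lib.MI.U4

/-!
Counting vectors in unitary spaces; the minimal index in special unitary groups.
-/

set_option autoImplicit false

namespace Cfsg.Agent.MI

open Module Cfsg.Agent.Forms Cfsg.Agent.Forms.Form Cfsg.Agent.Cls Cfsg.Agent.Deg Finset

variable {F : Type*} [Field F] {V : Type*} [AddCommGroup V] [Module F V]

theorem exists_index_sing {P : Param F} {f : Form P V} [Finite F] [Finite V] (hf : f.Nondeg)
    (hb : Big f) (h3 : 3 ≤ finrank F V) {G : Subgroup f.Isom}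
    (ein : ∀ {g u v l}, f.Q u = 0 → IsE g u v l → g ∈ G) {u : V} (hu : f.Q u = 0) (hu0 : u ≠ 0) :
    ∃ H : Subgroup G, Subgroup.center G ≤ H ∧
      H.index * (Nat.card F - 1) = {w | f.Q w = 0 ∧ w ≠ 0}.ncard := by
  obtain ⟨H, h1, h2⟩ := exists_index G (C := {w | f.Q w = 0 ∧ w ≠ 0}) hu0
    (fun g _ a ha => ⟨by rw [f.Q_smul, Isom.map_Q, hu, mul_zero], by simpa [ha] using hu0⟩)
    fun w hw => by
      obtain ⟨z, hz, h1, h2⟩ := exists_nonorth hf hb hu hu0 hw.1 hw.2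
      obtain ⟨g, v, l, s, hs, hg, e⟩ := exists_isE_map hz hu hw.1 h1 h2
      exact ⟨g, ein hz hg, s, hs, e⟩
  exact ⟨H, fun z hz => h1 z (center_fix_sing hf h3 ein hz hu), h2⟩

theorem ncard_sing_add_one {P : Param F} (f : Form P V) [Finite V] :
    {w | f.Q w = 0 ∧ w ≠ 0}.ncard + 1 = Nat.card {w // f.Q w = 0} := by
  rw [← Set.ncard_insert_of_notMem (a := 0) (by simp), ← Nat.card_coe_set_eq]
  exact Nat.card_congr (Equiv.subtypeEquivRight fun w => by
    by_cases h : w = 0 <;> simp [h, f.Q_zero])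

theorem card_perp_pow {P : Param F} {f : Form P V} [Finite F] [Finite V] (hf : f.Nondeg) {u : V}
    (hu0 : u ≠ 0) {k : ℕ} (hk : finrank F V = k + 1) :
    Nat.card (f.orth (F ∙ u)) = Nat.card F ^ k := by
  have := finrank_perp hf hu0
  rw [Module.natCard_eq_pow_finrank (K := F), show finrank F (f.orth (F ∙ u)) = k by omega]

variable [Fintype F] {q : ℕ} {hF : Fintype.card F = q ^ 2} {f : Form (uP hF) V} [Finite V]

theorem su_card_sing (hf : f.Nondeg) {k : ℕ} (hk : finrank F V = k + 2) :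
    ({w | f.Q w = 0 ∧ w ≠ 0}.ncard : ℤ) =
      (q ^ 2 * q ^ k - (-1) ^ k) * (q * q ^ k + (-1) ^ k) := by
  have h1 := (hf.card_unit_B hk).2
  have h2 := ncard_sing_add_one f
  simp only [unit_Q] at h2 ⊢
  have hq : (q : ℤ) ≠ 0 := by have := two_le_q hF; omega
  have h3 : ((-1 : ℤ) ^ k) ^ 2 = 1 := by rw [← pow_mul, mul_comm, pow_mul]; simp
  rw [← h2] at h1
  push_cast at h1
  apply mul_left_cancel₀ hq
  linear_combination h1 + q * h3

theorem su_counts (hf : f.Nondeg) {k : ℕ} (hk : finrank F V = k + 2) {u : V} (hu : f.Q u = 0)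
    (hu0 : u ≠ 0) : ({e | f.HypPair u e}.ncard : ℤ) = q * (q ^ k) ^ 2 ∧
      ((Cs f u).ncard : ℤ) = q * (q ^ k) ^ 2 + (-1) ^ k * q * (q - 1) * q ^ k - q ^ 2 ∧
      ((Cn f u).ncard : ℤ) = q * (q - 1) * q ^ k * (q ^ k - (-1) ^ k) := by
  obtain ⟨c, -⟩ := exists_chr_unit hF
  have hq := two_le_q hF
  have h1 := card_hyp c hf hu hu0
  have h2 := card_sing hu hu0
  have h3 := card_perp_eq hu hu0
  have h4 := su_card_sing hf hk
  have h5 : ((-1 : ℤ) ^ k) ^ 2 = 1 := by rw [← pow_mul, mul_comm, pow_mul]; simp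
  rw [card_perp_pow hf hu0 hk, card_F hF] at h1 h3
  rw [card_Lam_unit] at h1
  rw [card_F hF] at h2
  have h6 : ({e | f.HypPair u e}.ncard : ℤ) = q * (q ^ k) ^ 2 := by
    apply mul_left_cancel₀ (a := (q : ℤ) ^ 2) (by positivity)
    zify at h1
    linear_combination h1
  zify [show 1 ≤ q ^ 2 by nlinarith] at h2 h3
  rw [h4, h6] at h2
  refine ⟨h6, by linear_combination -h2 - h5, by linear_combination -h3 + h2 + h5⟩

theorem su_index_ge (hf : f.Nondeg) {k : ℕ} (hk : finrank F V = k + 2) (h3 : 3 ≤ k) {B : ℕ}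
    (hB : ((q : ℤ) ^ 2 - 1) * B ≤ (q ^ 2 * q ^ k - (-1) ^ k) * (q * q ^ k + (-1) ^ k))
    (hB' : q = 2 → Even k → (3 : ℤ) * B ≤ 2 * 2 ^ k * (4 * 2 ^ k - 1))
    (H : Subgroup f.SIsom) (hH : H ≠ ⊤) : B ≤ H.index := by
  obtain ⟨Y, S, e⟩ := exists_sys hf (big_of_lam0 (exists_lam0 hF)) isE_mem_SIsom
    (su_gen hf (by omega)) H hH
  have hq := two_le_q hF
  have hq' : (2 : ℤ) ≤ q := by exact_mod_cast hq
  have hx : (q : ℤ) ^ 3 ≤ q ^ k := pow_le_pow_right₀ (by omega) h3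
  have h1 : 1 ≤ q ^ 2 := by nlinarith
  have h0 : (0 : ℤ) < q ^ 2 - 1 := by nlinarith
  have hε := neg_one_pow_eq_or ℤ k
  rw [← e]
  refine S.su_le (by omega) (fun u hu hu0 => ?_) (fun u hu hu0 => ?_) (fun u hu hu0 => ?_) ?_
    fun u hu hu0 => ?_
  · obtain ⟨-, e2, e3⟩ := su_counts hf hk hu hu0
    rw [card_F hF]
    zify
    rw [e2, e3]
    generalize (q : ℤ) ^ k = x at *
    rcases hq.eq_or_lt with h | h
    · refine Or.inr ⟨by omega, ?_⟩
      rw [← h] at hB hx ⊢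
      rcases hε with h | h <;> rw [h] at hB ⊢ <;> push_cast at * <;> nlinarith
    · left
      obtain ⟨r, hr⟩ : ∃ r : ℤ, q = r + 3 := ⟨q - 3, by ring⟩
      have h2 : 0 ≤ r := by omega
      refine le_of_mul_le_mul_left ?_ h0
      rw [mul_left_comm]
      refine (mul_le_mul_of_nonneg_left hB (by positivity)).trans ?_
      obtain ⟨y, rfl⟩ : ∃ y, x = y + q ^ 3 := ⟨x - q ^ 3, by ring⟩
      have h4 : 0 ≤ y := by linarith
      rw [hr, ← sub_nonneg]
      rcases hε with h | h <;> rw [h] <;> ring_nf <;> positivity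
  · obtain ⟨-, e2, -⟩ := su_counts hf hk hu hu0
    rw [card_F hF]
    zify
    rw [e2]
    generalize (q : ℤ) ^ k = x at *
    obtain ⟨r, hr⟩ : ∃ r : ℤ, q = r + 2 := ⟨q - 2, by ring⟩
    have h2 : 0 ≤ r := by omega
    refine le_of_mul_le_mul_left ?_ h0
    rw [mul_left_comm]
    refine (mul_le_mul_of_nonneg_left hB (by positivity)).trans ?_
    obtain ⟨y, rfl⟩ : ∃ y, x = y + q ^ 3 := ⟨x - q ^ 3, by ring⟩
    have h4 : 0 ≤ y := by linarith
    rw [hr, ← sub_nonneg]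
    rcases hε with h | h <;> rw [h] <;> ring_nf <;> positivity
  · obtain ⟨e1, -, e3⟩ := su_counts hf hk hu hu0
    rw [card_F hF]
    zify [h1]
    rw [e1, e3]
    rcases hq.eq_or_lt with h | h
    · rcases Nat.even_or_odd k with h' | h'
      · have := hB' h.symm h'
        rw [← h, h'.neg_one_pow]
        push_cast
        linarith
      · rw [h'.neg_one_pow, ← h] at hB ⊢
        push_cast at hB ⊢
        have : (0 : ℤ) < 2 ^ k := by positivity
        linarith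
    · generalize (q : ℤ) ^ k = x at *
      obtain ⟨r, hr⟩ : ∃ r : ℤ, q = r + 3 := ⟨q - 3, by ring⟩
      have h2 : 0 ≤ r := by omega
      refine hB.trans ?_
      obtain ⟨y, rfl⟩ : ∃ y, x = y + q ^ 3 := ⟨x - q ^ 3, by ring⟩
      have h4 : 0 ≤ y := by linarith
      rw [hr, ← sub_nonneg]
      rcases hε with h | h <;> rw [h] <;> ring_nf <;> positivity
  · rw [card_F hF]
    zify [h1]
    rwa [su_card_sing hf hk]
  · obtain ⟨e1, -, -⟩ := su_counts hf hk hu hu0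
    zify
    rw [e1]
    generalize (q : ℤ) ^ k = x at *
    obtain ⟨r, hr⟩ : ∃ r : ℤ, q = r + 2 := ⟨q - 2, by ring⟩
    have h2 : 0 ≤ r := by omega
    refine le_of_mul_le_mul_left (hB.trans ?_) h0
    obtain ⟨y, rfl⟩ : ∃ y, x = y + q ^ 3 := ⟨x - q ^ 3, by ring⟩
    have h4 : 0 ≤ y := by linarith
    rw [hr, ← sub_nonneg]
    rcases hε with h | h <;> rw [h] <;> ring_nf <;> positivity

theorem su_index_sing (hf : f.Nondeg) {k : ℕ} (hk : finrank F V = k + 2) (h1 : 1 ≤ k) :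
    ∃ H : Subgroup f.SIsom, Subgroup.center f.SIsom ≤ H ∧
      (H.index : ℤ) * (q ^ 2 - 1) = (q ^ 2 * q ^ k - (-1) ^ k) * (q * q ^ k + (-1) ^ k) := by
  obtain ⟨u, hu0, hu⟩ := hf.unit_exists_singular (by omega)
  obtain ⟨H, e1, e2⟩ := exists_index_sing hf (big_of_lam0 (exists_lam0 hF)) (by omega)
    isE_mem_SIsom hu hu0
  have := two_le_q hF
  rw [card_F hF] at e2
  zify [show 1 ≤ q ^ 2 by nlinarith] at e2
  exact ⟨H, e1, by rw [e2, su_card_sing hf hk]⟩

theorem su_index_aniso (hf : f.Nondeg) {k : ℕ} (hk : finrank F V = k + 2) (h1 : 1 ≤ k) :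
    ∃ H : Subgroup f.SIsom, Subgroup.center f.SIsom ≤ H ∧
      (H.index : ℤ) * (q + 1) = q * q ^ k * (q ^ 2 * q ^ k - (-1) ^ k) := by
  have : Nontrivial V := (finrank_pos_iff (R := F)).1 (by omega)
  obtain ⟨u, hu⟩ := hf.unit_exists_aniso (frobq_ne hF)
  have hu0 : u ≠ 0 := by rintro rfl; simp at hu
  obtain ⟨H, e1, e2⟩ := exists_index f.SIsom (C := {w | f.Q w ≠ 0}) hu0
    (fun g _ a ha => by
      simpa [f.Q_smul, Isom.map_Q, ha, unit_Q, uB_smul, Isom.map_B] using hu) fun w hw => by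
      have hw' : f.B w w ≠ 0 := by rwa [← unit_Q]
      obtain ⟨a, ha⟩ := exists_norm_eq hF (c := f.B u u / f.B w w)
        (by rw [map_div₀, f.unit_B_self_fixed, f.unit_B_self_fixed])
      have ha0 : a ≠ 0 := by rintro rfl; simp [hu, hw', eq_comm (a := (0 : F))] at ha
      have e : f.B u u = f.B (a • w) (a • w) := by
        rw [B_smul_left, uB_smul, ← mul_assoc, ha, div_mul_cancel₀ _ hw']
      obtain ⟨g, hg⟩ := hf.witt_one hu0 (smul_ne_zero ha0 (by rintro rfl; simp at hw')) e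
        (by rw [unit_Q, unit_Q, e])
      obtain ⟨x, h2, h3⟩ := exists_aniso_orth' hf (F ∙ u)
        (by rw [finrank_span_singleton hu0]; omega)
      obtain ⟨g', h4, h5⟩ := exists_su_fix hf h3 g
      exact ⟨g', h4, a, ha0, by rw [h5 u (f.B_eq_zero_symm (mem_orth_singleton.1 h2)), hg]⟩
  refine ⟨H, fun z hz => e1 z ?_, ?_⟩
  · obtain ⟨s, hs⟩ := (hf.su_mem_center_iff (by omega) z).1 hz
    exact Submodule.mem_span_singleton.2 ⟨s, (hs u).symm⟩
  have hq := two_le_q hF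
  have h2 := Set.ncard_add_ncard_compl {w | f.Q w = 0}
  have h3 := ncard_sing_add_one f
  have h4 := su_card_sing hf hk
  have h5 : ((-1 : ℤ) ^ k) ^ 2 = 1 := by rw [← pow_mul, mul_comm, pow_mul]; simp
  rw [← Nat.card_coe_set_eq, Module.natCard_eq_pow_finrank (K := F) (V := V), hk, card_F hF] at h2
  rw [card_F hF] at e2
  change _ + {w | f.Q w ≠ 0}.ncard = _ at h2
  change _ = Nat.card {w | f.Q w = 0} at h3
  zify [show 1 ≤ q ^ 2 by nlinarith] at e2 h2 h3
  apply mul_left_cancel₀ (a := (q : ℤ) - 1) (by omega)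
  linear_combination e2 + h2 + h3 - h4 + h5

end Cfsg.Agent.MI
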