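import Cfsg.Agent.Lib.MI.V3
import Cfsg.Agent.Lib.Char.Linear
import Cfsg.Agent.Lib.Cls.TwoGen

/-!
Transitive actions of small degree of the three-dimensional special unitary groups: the orbits of
a Sylow subgroup are invariant under the split torus.
-/

set_option autoImplicit false

namespace Cfsg.Agent.MI

open Module Cfsg.Agent.Forms Cfsg.Agent.Forms.Form Cfsg.Agent.Cls Cfsg.Agent.Deg Finset

variable {F : Type*} [Field F] {V : Type*} [AddCommGroup V] [Module F V]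
  [Fintype F] {q : ℕ} {hF : Fintype.card F = q ^ 2} {f : Form (uP hF) V} [Finite V]
  {X : Type*} [MulAction f.Isom X] {c : Chr (uP hF)} {u e x y v : V} {ω : X} {Y Y' : Finset X}
  {g : f.Isom}

theorem su3_B_ne (hf : f.Nondeg) (h3 : finrank F V = 3) (hu : f.Q u = 0) (hu0 : u ≠ 0)
    (hy : f.Q y = 0) (h : y ∉ F ∙ u) : f.B y u ≠ 0 := fun h0 => by
  have h1 := (su_counts hf (k := 1) h3 hu hu0).2.1
  have : (Cs f u).ncard = 0 := by zify; rw [h1]; ring
  exact Set.eq_empty_iff_forall_notMem.1 ((Set.ncard_eq_zero).1 this) y ⟨h0, hy, h⟩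

theorem su3_card_hyp (hf : f.Nondeg) (h3 : finrank F V = 3) (hu : f.Q u = 0) (hu0 : u ≠ 0) :
    {e | f.HypPair u e}.ncard = q ^ 3 := by
  zify; rw [(su_counts hf (k := 1) h3 hu hu0).1]; ring

theorem su_fix_perp (hx : f.B x x ≠ 0) (hg : g ∈ f.SIsom) (h : ∀ w, f.B w x = 0 → g.1 w = w)
    (h' : g.1 x ∈ F ∙ x) : g = 1 := by
  obtain ⟨d, hd⟩ := Submodule.mem_span_singleton.1 h'
  have h1 : d * frobq hF d = 1 := by
    have := Isom.map_B g x x
    rw [← hd, B_smul_left, uB_smul] at this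
    exact mul_right_cancel₀ hx (by linear_combination this)
  obtain ⟨r, h2, h3⟩ := exists_qrefl_det hx h1
  have key : ∀ w, g.1 w = w - ((1 - d) / f.B x x * f.B w x) • x := fun w => by
    have := h (w - (f.B w x / f.B x x) • x) (by rw [B_sub_left, B_smul_left]; field_simp; ring)
    rw [map_sub, map_smul, ← hd, sub_eq_iff_eq_add] at this
    rw [this]; match_scalars <;> ring
  have e : g = r := Isom.ext fun w => by rw [key, h3]
  rw [← e, MonoidHom.mem_ker.1 hg] at h2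
  exact Isom.ext fun w => by simp [key, ← h2]

theorem mem_span_of_two (hf : f.Nondeg) (h3 : finrank F V = 3) {p p' a b : V} (hp : p ≠ 0)
    (hp' : p' ∉ F ∙ p) (ha : a ≠ 0) (a1 : f.B a p = 0) (a2 : f.B a p' = 0) (b1 : f.B b p = 0)
    (b2 : f.B b p' = 0) : b ∈ F ∙ a := by
  have e1 : finrank F (Submodule.span F {p, p'}) = 2 := by
    have := finrank_span_eq_card (LinearIndependent.pair_iff' hp |>.2 fun a e =>
      hp' (Submodule.mem_span_singleton.2 ⟨a, e⟩))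
    rwa [Matrix.range_cons_cons_empty] at this
  rw [Submodule.eq_of_le_of_finrank_le (S₁ := F ∙ a) (S₂ := f.orth (Submodule.span F {p, p'}))
    ((Submodule.span_singleton_le_iff_mem _ _).2 (mem_orth_pair.2 ⟨a1, a2⟩)) (by
      have := hf.finrank_add_orth (Submodule.span F {p, p'})
      rw [finrank_span_singleton ha]; omega)]
  exact mem_orth_pair.2 ⟨b1, b2⟩

variable (f) in
/-- a hyperbolic pair with a vector spanning its orthogonal complement -/
structure Tri (u e x : V) : Prop where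
  hyp : f.HypPair u e
  xu : f.B x u = 0
  xe : f.B x e = 0
  xx : f.B x x ≠ 0
  span : ∀ w, f.B w u = 0 → f.B w e = 0 → w ∈ F ∙ x

theorem exists_tri (hf : f.Nondeg) (h3 : finrank F V = 3) (h : f.HypPair u e) :
    ∃ x, Tri f u e x := by
  obtain ⟨x, h1, h2⟩ := exists_aniso_orth hf (Submodule.span F {u, e}) fun h' => by
    have := h.finrank_orth hf
    rw [h.disjoint.symm.eq_bot_of_le h', finrank_bot] at this
    omega
  obtain ⟨h4, h5⟩ := mem_orth_pair.1 h1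
  exact ⟨x, h, h4, h5, h2, fun w => mem_span_of_two hf h3 h.u_ne_zero
    (not_mem_span_of_B h.Buu (by rw [h.Beu]; exact one_ne_zero)) (by rintro rfl; simp at h2) h4 h5⟩

theorem Tri.decomp (T : Tri f u e x) (w : V) : ∃ a b d : F, w = a • u + b • e + d • x := by
  obtain ⟨a, b, z, h1, h2, rfl⟩ := T.hyp.exists_decomp w
  obtain ⟨d, rfl⟩ := Submodule.mem_span_singleton.1 (T.span z h1 h2)
  exact ⟨a, b, d, rfl⟩

theorem Tri.perp (T : Tri f u e x) (h : f.B v u = 0) : ∃ d a : F, v = d • x + a • u := by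
  obtain ⟨a, b, d, rfl⟩ := T.decomp v
  simp [T.hyp.Buu, T.hyp.Beu, T.xu] at h
  exact ⟨d, a, by simp [h, add_comm]⟩

theorem Tri.eq_one (T : Tri f u e x) (hg : g ∈ f.SIsom) (h1 : g.1 u = u) (h2 : g.1 e = e) :
    g = 1 := by
  refine su_fix_perp T.xx hg (fun w hw => ?_) (T.span _ ?_ ?_)
  · obtain ⟨a, b, d, rfl⟩ := T.decomp w
    simp [f.B_eq_zero_symm T.xu, f.B_eq_zero_symm T.xe, T.xx] at hw
    simp [hw, h1, h2]
  · rw [← h1, Isom.map_B, T.xu]
  · rw [← h2, Isom.map_B, T.xe]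

theorem su3_hyp (hf : f.Nondeg) (h3 : finrank F V = 3) (h : f.HypPair u e) {u' e' : V}
    (h' : f.HypPair u' e') : ∃ g ∈ f.SIsom, g.1 u = u' ∧ g.1 e = e' := by
  obtain ⟨x, T⟩ := exists_tri hf h3 h
  obtain ⟨g, h1, h2⟩ := hf.witt_hypPair h h'
  obtain ⟨g', hg, h4⟩ := exists_su_fix hf T.xx g
  exact ⟨g', hg, by rw [h4 _ (f.B_eq_zero_symm T.xu), h1], by rw [h4 _ (f.B_eq_zero_symm T.xe), h2]⟩

theorem su3_sing (hf : f.Nondeg) (h3 : finrank F V = 3) (hu : f.Q u = 0) (hu0 : u ≠ 0)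
    (hy : f.Q y = 0) (hy0 : y ≠ 0) : ∃ g ∈ f.SIsom, g.1 u = y := by
  obtain ⟨e, h⟩ := hf.exists_hypPair hu hu0
  obtain ⟨e', h'⟩ := hf.exists_hypPair hy hy0
  obtain ⟨g, h1, h2, -⟩ := su3_hyp hf h3 h h'
  exact ⟨g, h1, h2⟩

theorem su3_isE (hf : f.Nondeg) (h3 : finrank F V = 3) (hu : f.Q u = 0) (hu0 : u ≠ 0)
    (hg : g ∈ f.SIsom) (h : g.1 u = u) : ∃ v l, IsE g u v l := by
  obtain ⟨e, he⟩ := hf.exists_hypPair hu hu0
  obtain ⟨x, T⟩ := exists_tri hf h3 he
  obtain ⟨v, l, _, hv, hl, h1, -⟩ := exists_eichler_map he (h ▸ he.map g)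
  have h2 := isE_eichler hu hv hl
  have := T.eq_one (g := g⁻¹ * _) (mul_mem (inv_mem hg) (isE_mem_SIsom hu h2))
    (by rw [Isom.mul_apply, h2.apply_self hu, ← h, Isom.inv_apply, h])
    (by rw [Isom.mul_apply, h1, Isom.inv_apply])
  exact ⟨v, l, inv_mul_eq_one.1 this ▸ h2⟩

theorem Tri.exists_tor (T : Tri f u e x) {a : F} (ha : a ≠ 0) : ∃ t ∈ f.SIsom, t.1 u = a • u ∧
    t.1 e = (frobq hF a)⁻¹ • e ∧ t.1 x = (frobq hF a / a) • x := by
  have ha' : frobq hF a ≠ 0 := (map_ne_zero _).2 ha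
  obtain ⟨r, h1, h2⟩ := exists_qrefl_det T.xx (s := frobq hF a / a)
    (by rw [map_div₀, frobq_frobq]; field_simp)
  refine ⟨T.hyp.hscale a ha * r, ?_, ?_, ?_, ?_⟩
  · rw [SIsom, MonoidHom.mem_ker, Units.ext_iff, map_mul, Units.val_mul, det_hscale, h1]
    simp only [Param.unit_σ, Units.val_one]; field_simp
  · simp [Isom.mul_apply, h2, f.B_eq_zero_symm T.xu, T.hyp.hscale_u]
  · simp [Isom.mul_apply, h2, f.B_eq_zero_symm T.xe, T.hyp.hscale_e]
  · rw [Isom.mul_apply, h2, div_mul_cancel₀ _ T.xx, map_sub, map_smul,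
      T.hyp.hscale_of_orth _ _ T.xu T.xe]
    module

theorem hscale_mem_SIsom (h : f.HypPair u e) {a : F} (ha : a ≠ 0) (ha' : frobq hF a = a) :
    h.hscale a ha ∈ f.SIsom := by
  rw [SIsom, MonoidHom.mem_ker, Units.ext_iff, det_hscale]
  simp [ha', ha]

omit [Finite V] in
theorem Sys.sum_smul {G : Subgroup f.Isom} (S : Sys f G Y) (hg : g ∈ G) {M : Type*}
    [AddCommMonoid M] (φ : X → M) : ∑ ω ∈ Y, φ (g • ω) = ∑ ω ∈ Y, φ ω :=
  sum_nbij' (g • ·) (g⁻¹ • ·) (S.inv g hg) (S.inv _ (inv_mem hg)) (by simp) (by simp) (by simp)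

open ComplexConjugate in
theorem Sys.su3_so (S : Sys f f.SIsom Y) (h3 : finrank F V = 3) (hB : Y.card ≤ q ^ 3)
    (hu : f.Q u = 0) (hu0 : u ≠ 0) (hω : ω ∈ Y) (hg : g ∈ f.SIsom) {s : F} (hs : frobq hF s = s)
    (h : g.1 u = s • u) : SO f u ω (g • ω) := by
  classical
  have hs0 : s ≠ 0 := by rintro rfl; exact hu0 (by simpa using h)
  let O : V → X → ℂ := fun x ω' => if ∃ k ∈ f.SIsom, k.1 u = x ∧ k • ω = ω' then 1 else 0
  have o1 : ∀ k ∈ f.SIsom, ∀ x ω', O (k.1 x) (k • ω') = O x ω' := fun k hk x ω' => by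
    refine if_congr ⟨?_, ?_⟩ rfl rfl
    · rintro ⟨k', h1, h2, h3⟩
      exact ⟨k⁻¹ * k', mul_mem (inv_mem hk) h1, by rw [Isom.mul_apply, h2, Isom.inv_apply],
        by rw [mul_smul, h3, inv_smul_smul]⟩
    · rintro ⟨k', h1, rfl, rfl⟩
      exact ⟨k * k', mul_mem hk h1, rfl, mul_smul _ _ _⟩
  let φ : (Fˣ →* ℂˣ) → V → X → ℂ := fun θ x ω' =>
    classInner (fun a : Fˣ => O ((a : F) • x) ω') fun a => θ a
  have p1 : ∀ θ, ∀ k ∈ f.SIsom, ∀ x ω', φ θ (k.1 x) (k • ω') = φ θ x ω' := fun θ k hk x ω' => by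
    simp only [φ, ← map_smul, o1 k hk]
  have p2 : ∀ θ (b : Fˣ) x ω', φ θ ((b : F) • x) ω' = θ b * φ θ x ω' := fun θ b x ω' => by
    simp only [φ, classInner, smul_smul]
    rw [mul_left_comm, mul_sum univ _ (θ b : ℂ), ← Equiv.sum_comp (Equiv.mulRight b)
      fun a => θ b * (O ((a : F) • x) ω' * conj (θ a : ℂ))]
    refine congrArg _ (sum_congr rfl fun a _ => ?_)
    simp only [Equiv.coe_mulRight, map_mul, Units.val_mul]
    linear_combination -(O ((a * b : F) • x) ω' * conj (θ a : ℂ)) * Char.unitsHom_mul_conj θ b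
  have key : ∀ θ : Fˣ →* ℂˣ, θ (Units.mk0 s hs0) ≠ 1 → φ θ u (g • ω) = 0 := fun θ hθ => by
    by_contra h0
    obtain ⟨a, ha⟩ := exists_norm_eq hF hs
    have ha0 : a ≠ 0 := left_ne_zero_of_mul (ha ▸ hs0)
    have ha1 : frobq hF a ≠ 0 := (map_ne_zero _).2 ha0
    have p3 : ∀ x y, f.HypPair x y → ∑ ω ∈ Y, φ θ y ω * conj (φ θ x ω) = 0 := fun x y h => by
      obtain ⟨k, hk, e1, e2⟩ := su3_hyp S.nd h3 h (h.smul ha0)
      have := S.sum_smul hk fun ω => φ θ (k.1 y) ω * conj (φ θ (k.1 x) ω)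
      simp only [p1 θ k hk] at this
      rw [e1, e2] at this
      have b1 : ∀ ω, φ θ (a • x) ω = _ := p2 θ (Units.mk0 a ha0) x
      have b2 : ∀ ω, φ θ (((uP hF).σ a)⁻¹ • y) ω = _ := p2 θ (Units.mk0 _ ha1)⁻¹ y
      simp only [b1, b2, map_mul, map_inv,
        Units.val_inv_eq_inv_val, Char.conj_unitsHom', mul_mul_mul_comm _ (φ θ y _),
        ← mul_sum] at this
      by_contra h0
      refine hθ (Units.ext ?_)
      rw [show Units.mk0 s hs0 = Units.mk0 _ ha1 * Units.mk0 a ha0 from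
        Units.ext (by simp [← ha, mul_comm]), map_mul, Units.val_mul, ← inv_inj, mul_inv,
        Units.val_one, inv_one]
      exact mul_right_cancel₀ h0 (by rw [← this, one_mul])
    have p4 : ∀ x y, f.Q x = 0 → f.Q y = 0 → f.B x y ≠ 0 →
        ∑ ω ∈ Y, φ θ y ω * conj (φ θ x ω) = 0 := fun x y hx hy h => by
      have := p3 _ _ (hypPair_of_ne hx hy h)
      have b1 : ∀ ω, φ θ ((uP hF).σ (f.B x y)⁻¹ • y) ω = _ :=
        p2 θ (Units.mk0 _ ((map_ne_zero _).2 (inv_ne_zero h))) y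
      simp only [b1, mul_assoc, ← mul_sum] at this
      simpa using this
    let w : Option {e | f.HypPair u e} → V := fun i => i.elim u Subtype.val
    have w1 : ∀ i, f.Q (w i) = 0 ∧ w i ≠ 0 := by
      rintro (_ | i)
      exacts [⟨hu, hu0⟩, ⟨i.2.Qe, i.2.e_ne_zero⟩]
    have w2 : Pairwise fun i j => f.B (w i) (w j) ≠ 0 := by
      rintro (_ | i) (_ | j) hij
      · simp at hij
      · simp [w, j.2.Bue]
      · simp [w, i.2.Beu]
      · refine su3_B_ne S.nd h3 j.2.Qe j.2.e_ne_zero i.2.Qe fun h => hij ?_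
        obtain ⟨t, ht⟩ := Submodule.mem_span_singleton.1 h
        have := i.2.Beu
        change t • j.1 = i.1 at ht
        rw [← ht, B_smul_left, j.2.Beu, mul_left_eq_self₀] at this
        simp only [Param.unit_ε, one_ne_zero, or_false] at this
        exact congrArg _ (Subtype.ext (by simpa [this] using ht.symm))
    have := Fintype.ofFinite {e | f.HypPair u e}
    have := (linearIndependent_of_ne_zero_of_inner_eq_zero (𝕜 := ℂ)
      (v := fun i => (WithLp.toLp 2 fun ω : Y => φ θ (w i) ω : EuclideanSpace ℂ Y)) (fun i h => by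
        obtain ⟨k, hk, e1⟩ := su3_sing S.nd h3 hu hu0 (w1 i).1 (w1 i).2
        have := congrArg (· ⟨_, S.inv k hk _ (S.inv g hg _ hω)⟩) h
        exact h0 (by rw [← p1 θ k hk, e1]; exact this)) fun i j hij => by
        rw [← p4 _ _ (w1 i).1 (w1 j).1 (w2 hij), ← sum_coe_sort]; rfl).fintype_card_le_finrank
    rw [finrank_euclideanSpace, Fintype.card_option, Fintype.card_coe, ← Nat.card_eq_fintype_card,
      Nat.card_coe_set_eq, su3_card_hyp S.nd h3 hu hu0] at this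
    omega
  have := Fintype.ofFinite (Fˣ →* ℂˣ)
  have e1 := Char.apply_eq_sum_unitsHom (fun a : Fˣ => O ((a : F) • u) (g • ω)) 1
  have e2 := Char.apply_eq_sum_unitsHom (fun a : Fˣ => O ((a : F) • u) (g • ω)) (Units.mk0 s hs0)
  rw [sum_congr rfl fun θ _ => ?_, ← e1] at e2
  · simp only [O, Units.val_mk0, Units.val_one, one_smul] at e2
    rw [if_pos ⟨g, hg, h, rfl⟩, eq_comm, ite_eq_left_iff] at e2
    obtain ⟨k, h1, h2, h4⟩ := not_not.1 fun h => zero_ne_one (e2 h)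
    obtain ⟨v, l, h5⟩ := su3_isE S.nd h3 hu hu0 h1 h2
    exact ⟨k, v, l, h5, h4⟩
  · by_cases hθ : θ (Units.mk0 s hs0) = 1
    · rw [hθ, map_one]
    · have : classInner _ _ = 0 := key θ hθ
      rw [this, zero_mul, zero_mul]

theorem Sys.su3_Sb (S : Sys f f.SIsom Y) (h3 : finrank F V = 3) (hB : Y.card ≤ q ^ 3)
    (hu : f.Q u = 0) (hu0 : u ≠ 0) (hω : ω ∈ Y) {s : F} (hs : frobq hF s = s)
    (hv : v ∈ Sb f u ω) : s • v ∈ Sb f u ω := by
  by_cases hs0 : s = 0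
  · simp [hs0]
  obtain ⟨e, he⟩ := S.nd.exists_hypPair hu hu0
  have h1 := map_mem_Sb (he.hscale s hs0) hv
  rw [he.hscale_u, mem_Sb_smul hu hs0, ← (S.su3_so h3 hB hu hu0 hω (hscale_mem_SIsom he hs0 hs) hs
    (he.hscale_u _ _)).Sb_eq hu, he.hscale_apply, orth_of_mem_Sb hu hv, Param.unit_σ, hs,
    mul_zero, zero_smul, add_zero, smul_add, smul_smul] at h1
  simpa using sub_mem h1 (smul_self_mem_Sb (s * ((s - 1) * f.B v e)))

theorem Sys.su3_tau (S : Sys f f.SIsom Y) (h3 : finrank F V = 3) (hB : Y.card ≤ q ^ 3)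
    (hu : f.Q u = 0) (hu0 : u ≠ 0) (hω : ω ∈ Y) (h : tau f u ω ≠ ⊥) : tau f u ω = Lam (uP hF) := by
  obtain ⟨e, he⟩ := S.nd.exists_hypPair hu hu0
  obtain ⟨⟨l, hl⟩, hl0⟩ := AddSubgroup.ne_bot_iff_exists_ne_zero.1 h
  have hl0 : l ≠ 0 := fun e => hl0 (Subtype.ext e)
  have key : ∀ s, frobq hF s = s → s * s * l ∈ tau f u ω := fun s hs => by
    by_cases hs0 : s = 0
    · simp [hs0]
    have := (mem_tau_conj hu (he.hscale_u s hs0) hs0).2 hl
    rwa [← (S.su3_so h3 hB hu hu0 hω (hscale_mem_SIsom he hs0 hs) hs (he.hscale_u _ _)).tau_eq hu,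
      Param.unit_σ, hs] at this
  refine le_antisymm (tau_le _ _) fun m hm => ?_
  have h1 : frobq hF (m / l) = m / l := by
    rw [map_div₀, mem_Lam_unit.1 hm, mem_Lam_unit.1 (tau_le _ _ hl), neg_div_neg_eq]
  rw [← div_mul_cancel₀ m hl0]
  generalize m / l = t at h1
  by_cases h2 : (2 : F) = 0
  · obtain ⟨b, rfl⟩ := exists_mul_self h2 t
    rw [map_mul] at h1
    exact key b (by grind)
  · convert sub_mem (key ((t + 1) / 2) (by simp [map_ofNat, h1]))
      (key ((t - 1) / 2) (by simp [map_ofNat, h1])) using 1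
    field_simp; ring

end Cfsg.Agent.MI
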