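import Cfsg.Agent.Lib.MI.W1

/-!
A Sylow subgroup of `SU₃(q)`, `q ≥ 3`, has no complement.
-/

set_option autoImplicit false

namespace Cfsg.Agent.MI

open Module Cfsg.Agent.Forms Cfsg.Agent.Forms.Form Cfsg.Agent.Cls Cfsg.Agent.Deg Finset

variable {F : Type*} [Field F] {V : Type*} [AddCommGroup V] [Module F V]
  [Fintype F] {q : ℕ} {hF : Fintype.card F = q ^ 2} {f : Form (uP hF) V} [Finite V]
  {X : Type*} [MulAction f.Isom X] {c : Chr (uP hF)} {u e x y v p p' : V} {ω : X} {Y Y' : Finset X}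
  {g : f.Isom} {a : F}

theorem exists_norm_one_cube (hF : Fintype.card F = q ^ 2) (hq : 3 ≤ q) :
    ∃ a : F, a * frobq hF a = 1 ∧ a ^ 3 ≠ 1 := by
  by_contra h
  push Not at h
  have := Set.ncard_le_ncard (s := {a | a * frobq hF a = 1}) (t := {a | a ^ 3 = 1}) h
  have h1 : {a | a * frobq hF a = 1}.ncard = q + 1 := card_norm_one hF
  have h2 : {a : F | a ^ 3 = 1}.ncard ≤ 3 := card_pow_eq_le (by omega) 1
  omega

theorem card_sing_perp (hf : f.Nondeg) (h3 : finrank F V = 3) (hp : f.B p p ≠ 0) :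
    ({w | (f.Q w = 0 ∧ w ≠ 0) ∧ f.B w p = 0}.ncard : ℤ) = (q ^ 2 - 1) * (q + 1) := by
  have := su_card_sing (nondeg_perp hf hp) (k := 0)
    (by have := finrank_perp hf (y := p) (by rintro rfl; simp at hp); omega)
  rw [← Set.ncard_image_of_injective _ Subtype.val_injective] at this
  convert this using 2
  · congr 1; ext w
    exact ⟨fun h => ⟨⟨w, mem_orth_singleton.2 h.2⟩, ⟨h.1.1, fun e => h.1.2 (congrArg Subtype.val e)⟩, rfl⟩, by
      rintro ⟨w, h, rfl⟩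
      exact ⟨⟨h.1, fun e => h.2 (Subtype.ext e)⟩, mem_orth_singleton.1 w.2⟩⟩
  all_goals simp

variable (f) in
/-- the stabiliser of `ω` contains the homology with centre `p` and eigenvalue `a` on the axis -/
def Spc (a : F) (ω : X) (p : V) : Prop :=
  f.B p p ≠ 0 ∧ ∃ ρ ∈ f.SIsom, ρ • ω = ω ∧ ∀ w, f.B w p = 0 → ρ.1 w = a • w

omit [Finite V] in
theorem Spc.map (h : Spc f a ω p) (hg : g • ω = ω) : Spc f a ω (g.1 p) := by
  obtain ⟨h1, ρ, h2, h3, h4⟩ := h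
  refine ⟨by rwa [Isom.map_B], g * ρ * g⁻¹, Subgroup.Normal.conj_mem inferInstance _ h2 _,
    by rw [mul_smul, inv_smul_eq_iff.2 hg.symm, mul_smul, h3, hg], fun w hw => ?_⟩
  rw [Isom.mul_apply, Isom.mul_apply, h4 _ (by rwa [← Isom.B_right]), map_smul, Isom.apply_inv]

theorem Spc.unique (hf : f.Nondeg) (h3 : finrank F V = 3) (ha : a ^ 3 ≠ 1) (hu : f.Q u = 0)
    (hu0 : u ≠ 0) (hr : Reg f u ω) (h : Spc f a ω p) (h' : Spc f a ω p') (h1 : f.B u p = 0)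
    (h1' : f.B u p' = 0) : p' ∈ F ∙ p := by
  obtain ⟨h0, ρ, h2, h4, h5⟩ := h
  obtain ⟨h0', ρ', h2', h4', h5'⟩ := h'
  obtain ⟨v, l, h6⟩ := su3_isE hf h3 hu hu0 (mul_mem (inv_mem h2') h2)
    (by rw [Isom.mul_apply, h5 u h1, ← h5' u h1', Isom.inv_apply])
  obtain rfl := inv_mul_eq_one.1 (hr.eq_one hu h6 (by rw [mul_smul, h4, inv_smul_eq_iff, h4']))
  refine mem_span_of_perp hf fun w hw => by_contra fun h7 => ha ?_
  have e : (ρ'.1 : V →ₗ[F] V) = a • LinearMap.id := LinearMap.ext fun z => by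
    have h8 := B_ne_symm h7
    have := h5' (z - (f.B z p' / f.B w p') • w) (by rw [B_sub_left, B_smul_left]; field_simp; ring)
    rw [map_sub, map_smul, h5 w hw, smul_sub, smul_comm, sub_left_inj] at this
    exact this
  rw [mem_SIsom, e, LinearMap.det_smul, h3, LinearMap.det_id, mul_one] at h2
  exact h2

theorem exists_spc (hf : f.Nondeg) (h3 : finrank F V = 3) (ha : a ^ 3 ≠ 1)
    (ha' : a * frobq hF a = 1) (hu : f.Q u = 0) (hu0 : u ≠ 0)
    (hs : ∀ g ∈ f.SIsom, SO f u ω (g • ω)) : ∃ p, Spc f a ω p ∧ f.B u p = 0 := by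
  obtain ⟨e, he⟩ := hf.exists_hypPair hu hu0
  obtain ⟨x, T⟩ := exists_tri hf h3 he
  have a0 := left_ne_zero_of_mul_eq_one ha'
  have a1 : frobq hF a = a⁻¹ := eq_inv_of_mul_eq_one_right ha'
  obtain ⟨t, ht, t1, t2, t3⟩ := T.exists_tor a0
  rw [a1, inv_inv] at t2
  obtain ⟨g, v, l, hg, e1⟩ := hs t ht
  obtain ⟨β, γ, rfl⟩ := T.perp hg.orth
  have a2 : a ^ 3 - 1 ≠ 0 := sub_ne_zero.2 ha
  obtain ⟨m, hm⟩ := f.exists_isLam ((-β * a ^ 3 / (a ^ 3 - 1)) • x)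
  obtain ⟨k, hk⟩ := exists_isE hu (by simp [T.xu]) hm
  obtain ⟨m', h1⟩ : ∃ m', IsE (k * (t * k⁻¹ * t⁻¹) * g) u 0 m' :=
    ⟨_, IsE.add_self hu γ (((hk.mul hu ((hk.inv hu).of_conj t1 a0)).mul hu hg).congr (by
      rw [map_neg, map_smul, t3, Param.unit_σ, a1]
      match_scalars <;> field_simp <;> ring) rfl)⟩
  have h2 : (k * t * k⁻¹) • ω = (k * (t * k⁻¹ * t⁻¹) * g) • ω := by
    rw [mul_smul _ g, e1, ← mul_smul]; congr 1; group
  generalize k * (t * k⁻¹ * t⁻¹) * g = z at h1 h2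
  have h4 : ∀ w, f.B w (k.1 x) = 0 → (k * t * k⁻¹).1 w = a • w := fun w hw => by
    rw [Isom.B_right] at hw
    obtain ⟨r, s, d, h⟩ := T.decomp (k⁻¹.1 w)
    rw [h] at hw
    simp [f.B_eq_zero_symm T.xu, f.B_eq_zero_symm T.xe, T.xx] at hw
    rw [Isom.mul_apply, Isom.mul_apply, ← Isom.apply_inv k w, Isom.inv_apply, h, hw, ← map_smul]
    simp [t1, t2, smul_comm a]
  have h5 : f.B u (k.1 x) = 0 := by
    rw [← hk.apply_self hu, Isom.map_B, f.B_eq_zero_symm T.xu]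
  refine ⟨k.1 x, ⟨by rw [Isom.map_B]; exact T.xx, _,
    Subgroup.Normal.conj_mem inferInstance _ ht _, ?_, h4⟩, h5⟩
  have h6 : t ^ (q + 1) = 1 := by
    have : ∀ n w, t.1 w = a • w → (t ^ n).1 w = a ^ n • w := fun n w h => by
      induction n with
      | zero => simp [Isom.one_apply]
      | succ n ih => rw [pow_succ, Isom.mul_apply, h, map_smul, ih, smul_smul, pow_succ']
    exact T.eq_one (pow_mem ht _) (by rw [this _ _ t1, ← mul_frobq hF, ha', one_smul])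
      (by rw [this _ _ t2, ← mul_frobq hF, ha', one_smul])
  have h7 : (k * t * k⁻¹) * z = z * (k * t * k⁻¹) := mul_inv_eq_iff_eq_mul.1
    (((h1.of_conj (h4 u h5) a0).congr (by simp) (by rw [Param.unit_σ, ha', one_mul])).eq h1)
  have h8 : ∀ n, (k * t * k⁻¹) ^ n • ω = z ^ n • ω := fun n => by
    induction n with
    | zero => simp
    | succ n ih =>
      rw [pow_succ', mul_smul, ih, ← mul_smul, (Commute.pow_right h7 n).eq, mul_smul, h2,
        ← mul_smul, pow_succ]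
  obtain ⟨l', h9, h10⟩ := h1.pow hu (q + 1)
  have hq : (q : F) = 0 := by
    have := FiniteField.cast_card_eq_zero F
    rw [hF] at this
    exact pow_eq_zero_iff two_ne_zero |>.1 (by exact_mod_cast this)
  rw [h2, ← (h9.congr (smul_zero _) (by simp [h10, hq])).eq h1, ← h8, conj_pow, h6]
  simp

theorem Sys.su3_not_reg (S : Sys f f.SIsom Y) (h3 : finrank F V = 3) (hq : 3 ≤ q)
    (hB : Y.card ≤ q ^ 3) (hu : f.Q u = 0) (hu0 : u ≠ 0) (hω : ω ∈ Y) : ¬ Reg f u ω := fun hr => by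
  classical
  obtain ⟨c, -⟩ := exists_chr_unit hF
  have r1 : ∀ z, f.Q z = 0 → z ≠ 0 → ∀ ω ∈ Y, Reg f z ω := fun z hz hz0 ω' hω' => by
    obtain ⟨ω₁, h1, h2⟩ := S.exists_reg hω hu hu0 hr hz hz0
    have := S.card_not_reg c hz hz0 h1 h2
    rw [su3_card_hyp S.nd h3 hz hz0] at this
    by_contra h
    have := card_pos.2 ⟨ω', (mem_filter (p := fun ω => ¬ Reg f z ω)).2 ⟨hω', h⟩⟩
    omega
  have r2 : ∀ z, f.Q z = 0 → z ≠ 0 → ∀ g ∈ f.SIsom, SO f z ω (g • ω) := fun z hz hz0 g hg =>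
    S.so_of_reg c hz hz0 hω (r1 z hz hz0 _ hω) (S.inv g hg _ hω) (r1 z hz hz0 _ (S.inv g hg _ hω))
      (by
        have : 0 < q ^ 3 := by positivity
        rw [su3_card_hyp S.nd h3 hz hz0]; omega)
  obtain ⟨a, a1, a2⟩ := exists_norm_one_cube hF hq
  have ex := fun z hz hz0 => exists_spc S.nd h3 a2 a1 hz hz0 (r2 z hz hz0)
  have un := fun {z p p'} hz hz0 =>
    Spc.unique S.nd h3 a2 (p := p) (p' := p') hz hz0 (r1 z hz hz0 _ hω)
  have hq' : (3 : ℤ) ≤ q := by exact_mod_cast hq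
  have n0 := su_card_sing S.nd (k := 1) h3
  have perp : ∀ p p', Spc f a ω p → Spc f a ω p' → p' ∉ F ∙ p → f.B p p' = 0 := by
    intro p p' hp hp' hn
    by_contra h0
    have p0 : p ≠ 0 := by rintro rfl; simp at h0
    obtain ⟨⟨u, h1⟩, hu0, hu⟩ := (nondeg_perp S.nd hp.1).unit_exists_singular
      (by have := finrank_perp S.nd p0; omega)
    replace hu0 : u ≠ 0 := fun e => hu0 (Subtype.ext e)
    replace hu : f.Q u = 0 := hu
    rw [mem_orth_singleton] at h1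
    have : ∀ x, (f.Q x = 0 ∧ x ≠ 0) ∧ f.B x p = 0 → ∃ (k : f.Isom) (α : F), k ∈ f.SIsom ∧
        k • ω = ω ∧ k.1 u = x ∧ k.1 p = α • p := fun x hx => by
      obtain ⟨g, hg, e1⟩ := su3_sing S.nd h3 hu hu0 hx.1.1 hx.1.2
      obtain ⟨g', v, l, h4, e2⟩ := r2 x hx.1.1 hx.1.2 g hg
      have e3 : (g'⁻¹ * g) • ω = ω := by rw [mul_smul, ← e2, inv_smul_smul]
      have e4 : (g'⁻¹ * g).1 u = x := by rw [Isom.mul_apply, e1, (h4.inv hx.1.1).apply_self hx.1.1]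
      obtain ⟨α, h⟩ := Submodule.mem_span_singleton.1 (un hx.1.1 hx.1.2 hp (hp.map e3) hx.2
        (by rw [← e4, Isom.map_B, h1]))
      exact ⟨_, α, mul_mem (inv_mem (S.ein hx.1.1 h4)) hg, e3, e4, h.symm⟩
    choose! k α k1 k2 k3 k4 using this
    have inj := Set.ncard_le_ncard_of_injOn
      (s := {w | (f.Q w = 0 ∧ w ≠ 0) ∧ f.B w p = 0} ×ˢ {w | (f.Q w = 0 ∧ w ≠ 0) ∧ f.B w p' = 0})
      (t := ({w | f.Q w = 0 ∧ w ≠ 0} \ {w | (f.Q w = 0 ∧ w ≠ 0) ∧ f.B w p = 0}) ×ˢ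
        {a | a * frobq hF a = 1}) (fun w => ((k w.1).1 w.2, α w.1)) ?_ ?_
    · have n1 : {a | a * frobq hF a = 1}.ncard = q + 1 := card_norm_one hF
      rw [Set.ncard_prod, Set.ncard_prod, n1, Set.ncard_sdiff fun _ h => h.1] at inj
      zify [Set.ncard_le_ncard (s := {w | (f.Q w = 0 ∧ w ≠ 0) ∧ f.B w p = 0})
        (t := {w | f.Q w = 0 ∧ w ≠ 0}) fun _ h => h.1] at inj
      rw [n0, card_sing_perp S.nd h3 hp.1, card_sing_perp S.nd h3 hp'.1] at inj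
      have : ((q : ℤ) ^ 2 - 1) * (q + 1) ^ 2 * (q ^ 2 - 1) ≤
          (q ^ 2 - 1) * (q + 1) ^ 2 * (q ^ 2 - q) := by linarith
      have := le_of_mul_le_mul_left this (mul_pos (by nlinarith) (by positivity))
      omega
    · rintro ⟨x, z⟩ ⟨hx, hz⟩
      have := Isom.map_B (k x) p p
      rw [k4 x hx, B_smul_left, uB_smul] at this
      have b1 := mul_right_cancel₀ hp.1 (a := α x * frobq hF (α x)) (c := 1)
        (by linear_combination this)
      refine ⟨⟨⟨(Isom.map_Q _ _).trans hz.1.1, by simpa using hz.1.2⟩, fun h => hn ?_⟩, b1⟩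
      have b2 := Isom.map_B (k x) z p
      rw [k4 x hx, uB_smul, h.2, mul_zero] at b2
      exact un hz.1.1 hz.1.2 hp hp' b2.symm hz.2
    · rintro ⟨x, z⟩ ⟨hx, hz⟩ ⟨x', z'⟩ ⟨hx', hz'⟩ e
      simp only [Prod.mk.injEq] at e
      have b1 : ((k x')⁻¹ * k x) • ω = ω := by rw [mul_smul, k2 x hx, inv_smul_eq_iff, k2 x' hx']
      have b2 : ((k x')⁻¹ * k x).1 p = p := by
        rw [Isom.mul_apply, k4 x hx, e.2, ← k4 x' hx', Isom.inv_apply]
      have b3 : ((k x')⁻¹ * k x).1 z = z' := by rw [Isom.mul_apply, e.1, Isom.inv_apply]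
      have b4 := mul_mem (inv_mem (k1 x' hx')) (k1 x hx)
      suffices (k x')⁻¹ * k x = 1 by
        rw [this] at b3
        rw [Prod.mk.injEq, ← k3 x hx, ← k3 x' hx', inv_mul_eq_one.1 this]
        exact ⟨rfl, b3⟩
      generalize (k x')⁻¹ * k x = m at *
      obtain ⟨β, b5⟩ := Submodule.mem_span_singleton.1 (un hz'.1.1 hz'.1.2 hp' (hp'.map b1) hz'.2
        (by rw [← b3, Isom.map_B, hz.2]))
      have b6 := Isom.map_B m p' p
      rw [← b5, b2, B_smul_left, mul_left_eq_self₀, or_iff_left (B_ne_symm h0)] at b6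
      rw [b6, one_smul] at b5
      obtain ⟨⟨y, y1⟩, y0⟩ := Module.finrank_pos_iff_exists_ne_zero.1
        (show 0 < finrank F (f.orth (Submodule.span F {p, p'})) by
          have := S.nd.finrank_add_orth (Submodule.span F {p, p'})
          have := finrank_span_pair_le (F := F) p p'
          omega)
      replace y0 : y ≠ 0 := fun e => y0 (Subtype.ext e)
      obtain ⟨y1, y2⟩ := mem_orth_pair.1 y1
      have b7 : ∀ w, f.B w y = 0 → m.1 w = w := fun w hw => by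
        obtain ⟨s, t, rfl⟩ := mem_span_pair_of_perp S.nd (y := p) (z := p') (a := w) fun x e1 e2 => by
          obtain ⟨r, rfl⟩ := Submodule.mem_span_singleton.1
            (mem_span_of_two S.nd h3 p0 hn y0 y1 y2 e1 e2)
          rw [uB_smul, hw, mul_zero]
        rw [map_add, map_smul, map_smul, b2, ← b5]
      by_cases hy : f.B y y = 0
      · have hy' : f.Q y = 0 := by rwa [unit_Q]
        obtain ⟨v, l, h⟩ := exists_isE_of_fix S.nd hy' y0 (b7 y hy) fun w hw => by simp [b7 w hw]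
        exact (r1 y hy' y0 _ hω).eq_one hy' h b1
      · exact su_fix_perp hy b4 b7 (mem_span_of_two S.nd h3 p0 hn y0 y1 y2
          (by rw [← b2, Isom.map_B, y1]) (by rw [b5, Isom.map_B, y2]))
  obtain ⟨p, hp, -⟩ := ex u hu hu0
  have p0 : p ≠ 0 := by rintro rfl; simpa using hp.1
  obtain ⟨e, he⟩ := S.nd.exists_hypPair hu hu0
  obtain ⟨p', hp', hn⟩ : ∃ p', Spc f a ω p' ∧ p' ∉ F ∙ p := by
    obtain ⟨z, hz, h⟩ := exists_sing_ne S.nd he p0
    obtain ⟨p', h1, h2⟩ := ex z hz (by rintro rfl; simp at h)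
    exact ⟨p', h1, not_mem_span_of_B (z := z) (f.B_eq_zero_symm h2) h ∘ fun h3 => by_contra fun h4 =>
      not_mem_span_symm (by rintro rfl; simpa using h1.1) h4 h3⟩
  obtain ⟨p'', hp'', h⟩ : ∃ p'', Spc f a ω p'' ∧ ∀ r, Spc f a ω r → r ∉ F ∙ p → r ∉ F ∙ p' →
      r ∈ F ∙ p'' := by
    by_cases h : ∃ r, Spc f a ω r ∧ r ∉ F ∙ p ∧ r ∉ F ∙ p'
    · obtain ⟨r, h1, h2, h4⟩ := h
      exact ⟨r, h1, fun r' h1' h2' h4' => mem_span_of_two S.nd h3 p0 hn
        (by rintro rfl; simp at h2) (f.B_eq_zero_symm (perp _ _ hp h1 h2))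
        (f.B_eq_zero_symm (perp _ _ hp' h1 h4)) (f.B_eq_zero_symm (perp _ _ hp h1' h2'))
        (f.B_eq_zero_symm (perp _ _ hp' h1' h4'))⟩
    · exact ⟨p, hp, fun r h1 h2 h4 => absurd ⟨r, h1, h2, h4⟩ h⟩
  have := (Set.ncard_le_ncard (s := {w | f.Q w = 0 ∧ w ≠ 0})
    (t := {w | (f.Q w = 0 ∧ w ≠ 0) ∧ f.B w p = 0} ∪ {w | (f.Q w = 0 ∧ w ≠ 0) ∧ f.B w p' = 0} ∪
      {w | (f.Q w = 0 ∧ w ≠ 0) ∧ f.B w p'' = 0}) fun w hw => by
      obtain ⟨r, h1, h2⟩ := ex w hw.1 hw.2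
      have key : ∀ s, r ∈ F ∙ s → f.B w s = 0 := fun s hs => by
        obtain ⟨t, rfl⟩ := Submodule.mem_span_singleton.1 hs
        rw [uB_smul, mul_eq_zero, map_eq_zero] at h2
        exact h2.resolve_left (by rintro rfl; simpa using h1.1)
      by_cases h4 : r ∈ F ∙ p
      · exact Or.inl (Or.inl ⟨hw, key _ h4⟩)
      by_cases h5 : r ∈ F ∙ p'
      · exact Or.inl (Or.inr ⟨hw, key _ h5⟩)
      · exact Or.inr ⟨hw, key _ (h r h1 h4 h5)⟩).trans ((Set.ncard_union_le _ _).trans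
    (Nat.add_le_add_right (Set.ncard_union_le _ _) _))
  zify at this
  rw [n0, card_sing_perp S.nd h3 hp.1, card_sing_perp S.nd h3 hp'.1,
    card_sing_perp S.nd h3 hp''.1] at this
  have : ((q : ℤ) ^ 2 - 1) * (q + 1) * (q ^ 2 - q + 1) ≤ (q ^ 2 - 1) * (q + 1) * 3 := by linarith
  have := le_of_mul_le_mul_left this (mul_pos (by nlinarith) (by positivity))
  nlinarith

end Cfsg.Agent.MI
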