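import Cfsg.Agent.Lib.MI.W2

/-!
Transitive actions of small degree of `SU₃(q)`: transvections, labels of orbits.
-/

set_option autoImplicit false

namespace Cfsg.Agent.MI

open Module Cfsg.Agent.Forms Cfsg.Agent.Forms.Form Cfsg.Agent.Cls Cfsg.Agent.Deg Finset

theorem card_modEq_fix {K X : Type*} [Group K] [MulAction K X] {Z : Finset X}
    (hZ : ∀ k : K, ∀ ω ∈ Z, k • ω ∈ Z) {r : ℕ} [DecidablePred fun ω : X => ∀ k : K, k • ω = ω]
    (h : ∀ ω ∈ Z, ¬ (∀ k : K, k • ω = ω) → r ∣ (MulAction.orbit K ω).ncard) :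
    Z.card ≡ (Z.filter fun ω => ∀ k : K, k • ω = ω).card [MOD r] := by
  classical
  rw [← card_filter_add_card_filter_not (s := Z) fun ω => ∀ k : K, k • ω = ω]
  refine ((Nat.modEq_iff_dvd' (Nat.le_add_right _ _)).2 ?_).symm
  rw [Nat.add_sub_cancel_left, card_eq_sum_card_image (MulAction.orbit K)]
  refine dvd_sum fun o ho => ?_
  obtain ⟨ω, hω, rfl⟩ := mem_image.1 ho
  obtain ⟨h1, h2⟩ := mem_filter.1 hω
  refine (h ω h1 h2).trans (dvd_of_eq ((Set.ncard_coe_finset _).symm.trans (congrArg _ ?_)).symm)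
  ext ω'
  simp only [coe_filter, mem_filter, Set.mem_ofPred_eq, MulAction.orbit_eq_iff]
  refine ⟨fun h => h.2, fun ⟨k, hk⟩ => ⟨⟨hk ▸ hZ k ω h1, fun h3 => h2 fun k' => ?_⟩, k, hk⟩⟩
  have h4 : ω = ω' := by rw [← h3 k⁻¹, ← hk, inv_smul_smul]
  exact h4 ▸ h3 k'

variable {F : Type*} [Field F] {V : Type*} [AddCommGroup V] [Module F V]
  [Fintype F] {q : ℕ} {hF : Fintype.card F = q ^ 2} {f : Form (uP hF) V} [Finite V]
  {X : Type*} [MulAction f.Isom X] {c : Chr (uP hF)} {u e x y z v : V} {ω ω' : X}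
  {Y Y' : Finset X} {g k : f.Isom} {a δ δ' s : F}

theorem Sys.su3_bot (S : Sys f f.SIsom Y) (h3 : finrank F V = 3) (hq : 3 ≤ q)
    (hB : Y.card ≤ q ^ 3) (hu : f.Q u = 0) (hu0 : u ≠ 0) (hω : ω ∈ Y) : tau f u ω = ⊥ := by
  classical
  by_contra h
  replace h := S.su3_tau h3 hB hu hu0 hω h
  obtain ⟨p, hp⟩ := CharP.exists F
  obtain ⟨n, hp', hn⟩ := FiniteField.card F p
  have := Fact.mk hp'
  have := Fintype.ofFinite V
  have key : ∀ z, f.Q z = 0 → z ≠ 0 →
      Fintype.card {x // (f.Q x = 0 ∧ x ≠ 0) ∧ tau f x ω = Lam (uP hF)} ≡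
        if tau f z ω = Lam (uP hF) then Fintype.card F - 1 else 0 [MOD p] := fun z hz hz0 => by
    obtain ⟨g, v, l, h1, h2, h4⟩ : ∃ g v l, IsE g z v l ∧ g • ω = ω ∧ g ≠ 1 := by
      by_contra hc
      push Not at hc
      refine S.su3_not_reg h3 hq hB hz hz0 hω ⟨fun v hv => ?_, eq_bot_iff.2 fun l hl => ?_⟩
      · obtain ⟨l, g, h1, h2⟩ := hv hz
        exact IsE_one_mem S.nd hz hz0 (hc g v l h1 h2 ▸ h1)
      · obtain ⟨g, h1, h2⟩ := (mem_tau hz).1 hl
        obtain ⟨e, he⟩ := S.nd.exists_hypPair hz hz0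
        exact (IsE.unique (by rw [he.Bue]; exact one_ne_zero) he.Qe (f.B_zero_left _)
          (f.B_zero_left _) h1 (hc g 0 l h1 h2 ▸ isE_one z)).2
    let φ : Function.End {x // (f.Q x = 0 ∧ x ≠ 0) ∧ tau f x ω = Lam (uP hF)} := fun x =>
      ⟨g.1 x, ⟨(Isom.map_Q _ _).trans x.2.1.1, by simpa using x.2.1.2⟩, by
        have := tau_map (f := f) (u := x.1) (ω := ω) g
        rw [h2] at this; exact this.trans x.2.2⟩
    have e1 : ∀ m x, ((φ ^ m) x).1 = (g ^ m).1 x := fun m => by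
      induction m with
      | zero => exact fun _ => rfl
      | succ m ih => exact fun x => by rw [pow_succ, pow_succ, Isom.mul_apply]; exact ih _
    refine (Equiv.Perm.card_fixedPoints_modEq (f := φ) (p := p) (n := n * 2) (funext fun x =>
      Subtype.ext (by
        rw [e1, pow_mul, ← hn, ← Nat.card_eq_fintype_card, h1.pow_card hz]; rfl))).trans ?_
    have e2 : ∀ x, x ∈ Function.fixedPoints φ ↔ x.1 ∈ F ∙ z := fun x => ⟨fun hx => by_contra fun hx' =>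
      h4 (eq_one_of_mem_Eu (hu := hz) (B_ne_symm (su3_B_ne S.nd h3 hz hz0 x.2.1.1 hx')) x.2.1.1
        ⟨v, l, h1⟩ (c := 1) (by rw [one_smul]; exact congrArg Subtype.val hx)), fun hx => by
      obtain ⟨t, ht⟩ := Submodule.mem_span_singleton.1 hx
      exact Subtype.ext (by change g.1 x = x; rw [← ht, map_smul, h1.apply_self hz])⟩
    split_ifs with hz'
    · rw [← Fintype.card_units]
      suffices Fintype.card Fˣ = Fintype.card (Function.fixedPoints φ) from this ▸ Nat.ModEq.refl _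
      refine Fintype.card_congr (Equiv.ofBijective (fun t : Fˣ => ⟨⟨(t : F) • z, ⟨by
        rw [f.Q_smul, hz, mul_zero], smul_ne_zero t.ne_zero hz0⟩, tau_smul_eq_Lam hz hz' t.ne_zero⟩,
        (e2 _).2 (Submodule.smul_mem _ _ (Submodule.mem_span_singleton_self z))⟩)
        ⟨fun t t' e => Units.ext (smul_left_injective F hz0 (congrArg (·.1.1) e)), fun x => ?_⟩)
      obtain ⟨t, ht⟩ := Submodule.mem_span_singleton.1 ((e2 _).1 x.2)
      exact ⟨Units.mk0 t (by rintro rfl; exact x.1.2.1.2 (by simpa using ht.symm)),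
        Subtype.ext (Subtype.ext ht)⟩
    · rw [Fintype.card_eq_zero_iff.2 ⟨fun x => hz' ?_⟩]
      obtain ⟨t, ht⟩ := Submodule.mem_span_singleton.1 ((e2 _).1 x.2)
      have h0 : t ≠ 0 := by rintro rfl; exact x.1.2.1.2 (by simpa using ht.symm)
      rw [← inv_smul_smul₀ h0 z, ht]
      exact tau_smul_eq_Lam x.1.2.1.1 x.1.2.2 (inv_ne_zero h0)
  obtain ⟨z, hz, hz0, h1⟩ := S.proper ω hω
  refine h1 (full_of_ein hz (ein_of_hasTr S.nd (Or.inr hq) (hasTr_stabilizer fun y hy hy0 => ?_) z))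
  by_contra h2
  have := (key u hu hu0).symm.trans (key y hy hy0)
  rw [if_pos h, if_neg h2, Nat.modEq_zero_iff_dvd, hn, Nat.dvd_sub_iff_right
    (Nat.one_le_pow _ _ hp'.pos) (dvd_pow_self p n.ne_zero)] at this
  exact hp'.not_dvd_one this

theorem card_trace (hF : Fintype.card F = q ^ 2) [DecidableEq F] {t : F} (ht : frobq hF t = t) :
    (univ.filter fun a => a + frobq hF a = t).card = q := by
  classical
  obtain ⟨b, hb⟩ := exists_trace ht
  have := card_Lam_unit (hF := hF)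
  rw [Nat.card_eq_fintype_card, Fintype.card_subtype] at this
  refine Eq.trans (card_nbij' (· - b) (· + b) (fun a h => ?_) (fun a h => ?_) (fun _ _ => by simp)
    (fun _ _ => by simp))
    this
  · simp only [coe_filter, mem_univ, true_and, Set.mem_ofPred_eq, mem_Lam_unit, map_sub] at h ⊢
    linear_combination h - hb
  · simp only [coe_filter, mem_univ, true_and, Set.mem_ofPred_eq, mem_Lam_unit, map_add] at h ⊢
    linear_combination h + hb

theorem card_fixed (hF : Fintype.card F = q ^ 2) [DecidableEq F] :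
    (univ.filter fun a => frobq hF a = a).card = q := by
  obtain ⟨l, hl0, hl⟩ := exists_lam0 hF
  have hl := lam0_unit'.1 hl
  refine Eq.trans (card_nbij' (· * l) (· / l) (fun a h => ?_) (fun a h => ?_)
    (fun _ _ => by simp [hl0]) (fun _ _ => by simp [hl0])) (card_trace hF (map_zero _))
  · simp only [coe_filter, mem_univ, true_and, Set.mem_ofPred_eq, map_mul] at h ⊢
    rw [h, hl]; ring
  · simp only [coe_filter, mem_univ, true_and, Set.mem_ofPred_eq, map_div₀] at h ⊢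
    rw [hl, eq_neg_of_add_eq_zero_right h, neg_div_neg_eq]

omit [Finite V] in
theorem Sys.card_filter_smul {G : Subgroup f.Isom} (S : Sys f G Y) (hg : g ∈ G) {p p' : X → Prop}
    [DecidablePred p] [DecidablePred p'] (h : ∀ ω ∈ Y, p' ω ↔ p (g • ω)) :
    (Y.filter p').card = (Y.filter p).card := by
  rw [card_filter, card_filter, ← S.sum_smul hg fun ω => if p ω then 1 else 0]
  exact sum_congr rfl fun ω hω => if_congr (h ω hω) rfl rfl

variable (f) in
/-- the class of the stabiliser of `ω` in the Sylow subgroup at `z` -/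
def Lb (u x z : V) (ω : X) (δ : F) : Prop := ∃ g ∈ f.SIsom, g.1 u = z ∧ δ • g.1 x ∈ Sb f z ω

omit [Finite V] in
theorem Lb.map (h : Lb f u x z ω δ) (hk : k ∈ f.SIsom) : Lb f u x (k.1 z) (k • ω) δ := by
  obtain ⟨g, h1, h2, h3⟩ := h
  exact ⟨k * g, mul_mem hk h1, by rw [Isom.mul_apply, h2], by
    rw [Isom.mul_apply, ← map_smul]; exact map_mem_Sb k h3⟩

omit [Finite V] in
theorem Lb_map_iff (hk : k ∈ f.SIsom) : Lb f u x (k.1 z) (k • ω) δ ↔ Lb f u x z ω δ :=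
  ⟨fun h => by simpa [Isom.inv_apply] using h.map (inv_mem hk), fun h => h.map hk⟩

omit [Finite V] in
theorem Lb.so (h : Lb f u x z ω δ) (hz : f.Q z = 0) (hs : SO f z ω ω') : Lb f u x z ω' δ := by
  obtain ⟨g, h1, h2, h3⟩ := h
  exact ⟨g, h1, h2, hs.Sb_le hz h3⟩

variable (Y u e x) in
/-- the standing hypotheses -/
structure Sm : Prop where
  S : Sys f f.SIsom Y
  h3 : finrank F V = 3
  hq : 3 ≤ q
  hB : Y.card ≤ q ^ 3
  T : Tri f u e x

namespace Sm
variable (A : Sm (f := f) u e x Y)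
include A

theorem bot (hz : f.Q z = 0) (hz0 : z ≠ 0) (hω : ω ∈ Y) : tau f z ω = ⊥ :=
  A.S.su3_bot A.h3 A.hq A.hB hz hz0 hω

theorem mem (h : Lb f u x z ω δ) (hg : g ∈ f.SIsom) (h' : g.1 u = z) : δ • g.1 x ∈ Sb f z ω := by
  obtain ⟨k, h1, h2, h3⟩ := h
  obtain ⟨v, l, h4⟩ := su3_isE A.S.nd A.h3 A.T.hyp.Qu A.T.hyp.u_ne_zero (mul_mem (inv_mem h1) hg)
    (by rw [Isom.mul_apply, h', ← h2, Isom.inv_apply])
  have := congrArg k.1 (IsE_apply_orth h4 A.T.xu)
  rw [Isom.mul_apply, Isom.apply_inv, map_add, map_smul, h2] at this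
  rw [this, smul_add, smul_smul]
  exact add_mem h3 (smul_self_mem_Sb _)

theorem sing (h : Lb f u x z ω δ) : f.Q z = 0 ∧ z ≠ 0 := by
  obtain ⟨k, -, rfl, -⟩ := h
  exact ⟨(Isom.map_Q _ _).trans A.T.hyp.Qu, by simpa using A.T.hyp.u_ne_zero⟩

theorem mul (hω : ω ∈ Y) (h : Lb f u x z ω δ) (hs : frobq hF s = s) : Lb f u x z ω (s * δ) := by
  obtain ⟨h4, h5⟩ := A.sing h
  obtain ⟨k, h1, h2, h3⟩ := h
  exact ⟨k, h1, h2, by rw [mul_smul]; exact A.S.su3_Sb A.h3 A.hB h4 h5 hω hs h3⟩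

theorem mul_iff (hω : ω ∈ Y) (hs : frobq hF s = s) (hs0 : s ≠ 0) :
    Lb f u x z ω (s * δ) ↔ Lb f u x z ω δ :=
  ⟨fun h => by simpa [hs0] using A.mul hω h (s := s⁻¹) (by rw [map_inv₀, hs]),
    fun h => A.mul hω h hs⟩

theorem scale (hω : ω ∈ Y) (ha : a ≠ 0) (h : Lb f u x z ω δ) :
    Lb f u x (a • z) ω (δ * a ^ 3) := by
  obtain ⟨h4, -⟩ := A.sing h
  obtain ⟨k, h1, h2, h3⟩ := A.mul hω h (s := (a * frobq hF a) ^ 2)
    (by rw [map_pow, map_mul, frobq_frobq, mul_comm])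
  obtain ⟨t, ht, t1, -, t3⟩ := A.T.exists_tor ha
  refine ⟨k * t, mul_mem h1 ht, by rw [Isom.mul_apply, t1, map_smul, h2], ?_⟩
  rw [mem_Sb_smul h4 ha, Isom.mul_apply, t3, map_smul, smul_smul, smul_smul, Param.unit_σ]
  convert h3 using 2
  field_simp

theorem scale_iff (hω : ω ∈ Y) (ha : a ≠ 0) :
    Lb f u x (a • z) ω δ ↔ Lb f u x z ω (δ / a ^ 3) :=
  ⟨fun h => by simpa [ha, div_eq_mul_inv] using A.scale hω (inv_ne_zero ha) h,
    fun h => by simpa [ha] using A.scale hω ha h⟩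

theorem unique (hω : ω ∈ Y) (h : Lb f u x z ω δ) (h' : Lb f u x z ω δ') (h0 : δ ≠ 0) :
    frobq hF (δ' / δ) = δ' / δ := by
  obtain ⟨h4, h5⟩ := A.sing h
  obtain ⟨k, h1, h2, h3⟩ := h
  have := comm_mem_tau h4 h3 (A.mem h' h1 h2)
  rw [A.bot h4 h5 hω, AddSubgroup.mem_bot] at this
  simp only [B_smul_left, uB_smul, Isom.map_B] at this
  have h6 : frobq hF δ ≠ 0 := (map_ne_zero _).2 h0
  rw [map_div₀, div_eq_div_iff h6 h0]
  exact mul_right_cancel₀ A.T.xx (by linear_combination -this)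

theorem exists_Lb (hz : f.Q z = 0) (hz0 : z ≠ 0) (hω : ω ∈ Y) : ∃ δ, δ ≠ 0 ∧ Lb f u x z ω δ := by
  obtain ⟨g, hg, rfl⟩ := su3_sing A.S.nd A.h3 A.T.hyp.Qu A.T.hyp.u_ne_zero hz hz0
  obtain ⟨v, hv, hv'⟩ : ∃ v ∈ Sb f (g.1 u) ω, v ∉ F ∙ g.1 u := by
    by_contra h; push Not at h
    exact A.S.su3_not_reg A.h3 A.hq A.hB hz hz0 hω ⟨h, A.bot hz hz0 hω⟩
  obtain ⟨d, a, h⟩ := A.T.perp (v := g⁻¹.1 v) (by rw [← Isom.B_right, orth_of_mem_Sb hz hv])
  have := congrArg g.1 h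
  rw [Isom.apply_inv, map_add, map_smul, map_smul] at this
  subst this
  exact ⟨d, by rintro rfl; simp [Submodule.mem_span_singleton_self, Submodule.smul_mem] at hv',
    g, hg, rfl, by simpa using sub_mem hv (smul_self_mem_Sb a)⟩

theorem two_ne : (2 : F) ≠ 0 := fun h2 => by
  obtain ⟨ω, hω⟩ := A.S.ne
  obtain ⟨δ, h0, h⟩ := A.exists_Lb A.T.hyp.Qu A.T.hyp.u_ne_zero hω
  have := Q_of_mem_Sb h2 A.T.hyp.Qu (A.bot A.T.hyp.Qu A.T.hyp.u_ne_zero hω)
    (A.mem h (one_mem _) rfl)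
  rw [f.Q_smul, unit_Q] at this
  simp [h0, Isom.one_apply, A.T.xx] at this

theorem card_so (hz : f.Q z = 0) (hz0 : z ≠ 0) (hω : ω ∈ Y) [DecidablePred (SO f z ω)] :
    (Y.filter (SO f z ω)).card = q ^ 2 := by
  classical
  obtain ⟨c, -⟩ := exists_chr_unit hF
  obtain ⟨δ, h0, hδ⟩ := A.exists_Lb hz hz0 hω
  obtain ⟨g, hg, rfl, -⟩ := id hδ
  have h1 : Nat.card (Sb f (g.1 u) ω) = q * q ^ 2 := by
    rw [← card_F hF, ← congrArg (· * Nat.card F) (card_fixed hF), ← Fintype.card_subtype,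
      ← Nat.card_eq_fintype_card, ← Nat.card_prod]
    refine (Nat.card_congr (Equiv.ofBijective (fun p => ⟨(p.1.1 * δ) • g.1 x + p.2 • g.1 u,
      add_mem (A.mem (A.mul hω hδ p.1.2) hg rfl) (smul_self_mem_Sb _)⟩) ⟨fun p p' h => ?_,
        fun v => ?_⟩)).symm
    · have h := congrArg Subtype.val h
      have h2 := congrArg (f.B · (g.1 x)) h
      simp only [B_add_left, B_smul_left, Isom.map_B, f.B_eq_zero_symm A.T.xu, mul_zero, add_zero,
        mul_left_inj' A.T.xx, mul_left_inj' h0] at h2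
      simp only [h2, add_right_inj] at h
      exact Prod.ext (Subtype.ext h2) (smul_left_injective F hz0 h)
    · obtain ⟨d, a, h⟩ := A.T.perp (v := g⁻¹.1 v) (by rw [← Isom.B_right, orth_of_mem_Sb hz v.2])
      have := congrArg g.1 h
      rw [Isom.apply_inv, map_add, map_smul, map_smul] at this
      exact ⟨(⟨d / δ, A.unique hω hδ ⟨g, hg, rfl, by
        simpa [this] using sub_mem v.2 (smul_self_mem_Sb a)⟩ h0⟩, a),
        Subtype.ext (by simp [this, h0])⟩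
  have h2 := card_Sb_mul_card_Bl (c := c) (u := g.1 u) (ω := ω) A.S.nd
  have h4 := card_orbit (c := c) A.S.nd hz hz0 ω
  rw [Module.natCard_eq_pow_finrank (K := F) (V := V), card_F hF, A.h3, h1] at h2
  rw [wt_of_bot (A.bot hz hz0 hω), card_Lam_unit, card_F hF, show {ω' | SO f (g.1 u) ω ω'} =
    (Y.filter (SO f (g.1 u) ω) : Set X) from Set.ext fun ω' => by
      simpa using A.S.cl hz (A.S.pinv _) ω hω ω', Set.ncard_coe_finset] at h4
  have := A.hq
  exact Nat.eq_of_mul_eq_mul_right (m := q ^ 4) (by positivity) (by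
    linear_combination q ^ 2 * h4 + h2)

theorem fix_unique (hz : f.Q z = 0) (hz0 : z ≠ 0) (hω : ω ∈ Y) (hs : frobq hF s = s) (hs0 : s ≠ 0)
    (hs1 : s * s ≠ 1) (h1 : k.1 z = s • z) (h2 : ∀ v, f.B v z = 0 → k.1 v - v ∈ F ∙ z)
    (h : k • ω = ω) (h' : k • ω' = ω') (ho : SO f z ω ω') : ω' = ω := by
  obtain ⟨g, v, l, hg, rfl⟩ := ho
  have a1 : ∀ g : f.Isom, (k * g * k⁻¹) • ω = k • g • ω := fun g => by
    rw [mul_smul, mul_smul, inv_smul_eq_iff.2 h.symm]
  have a2 : -v + s • k.1 v ∈ Sb f z ω := by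
    have := Fx.mem_Sb ⟨_, (hg.inv hz).mul hz (hg.of_conj h1 hs0),
      show (g⁻¹ * (k * g * k⁻¹)) • ω = ω by rw [mul_smul, a1, h', inv_smul_smul]⟩
    rwa [Param.unit_σ, hs] at this
  obtain ⟨t, ht⟩ := Submodule.mem_span_singleton.1 (h2 v hg.orth)
  have a3 : s - 1 ≠ 0 := fun e => hs1 (by rw [sub_eq_zero.1 e, one_mul])
  obtain ⟨l', a4⟩ : ∃ l', Fx f z v l' ω := by
    have := A.S.su3_Sb A.h3 A.hB hz hz0 hω (s := (s - 1)⁻¹) (by rw [map_inv₀, map_sub, hs, map_one])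
      (sub_mem a2 (smul_self_mem_Sb (s * t)))
    rw [show -v + s • k.1 v - (s * t) • z = (s - 1) • v by
      rw [mul_smul, ht]; module, inv_smul_smul₀ a3] at this
    exact this hz
  have a5 := isE_tr hz (lam0_sub hg.lam a4.lam)
  rw [a4.smul_eq_smul hz hg a5] at h' ⊢
  have := isE_zero_inj hz (A.bot hz hz0 hω) ((a5.of_conj h1 hs0).congr (by simp) rfl) a5
    (by rw [a1, h'])
  rw [Param.unit_σ, hs, mul_left_eq_self₀, or_iff_right hs1] at this
  rw [(a5.congr rfl this).eq_one, one_smul]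

end Sm

end Cfsg.Agent.MI
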