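import Cfsg.Agent.Lib.MI.W3

/-!
Transitive actions of small degree of `SU₃(q)`: counting labels.
-/

set_option autoImplicit false

namespace Cfsg.Agent.MI

open Module Cfsg.Agent.Forms Cfsg.Agent.Forms.Form Cfsg.Agent.Cls Cfsg.Agent.Deg Finset

variable {F : Type*} [Field F] {V : Type*} [AddCommGroup V] [Module F V]
  [Fintype F] {q : ℕ} {hF : Fintype.card F = q ^ 2} {f : Form (uP hF) V} [Finite V]
  {X : Type*} [MulAction f.Isom X] {u e x y z z' v : V} {ω ω' : X}
  {Y Y' : Finset X} {g k : f.Isom} {a b δ δ' s : F}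

theorem card_le_of_pow (hF : Fintype.card F = q ^ 2) {S : Finset F} {k : ℕ} (hk : 0 < k)
    (h0 : (0 : F) ∉ S) (h : ∀ a ∈ S, ∀ b ∈ S, frobq hF ((a / b) ^ k) = (a / b) ^ k) :
    S.card ≤ k * (q - 1) := by
  classical
  have hq := two_le_q hF
  rcases S.eq_empty_or_nonempty with rfl | ⟨b, hb⟩
  · simp
  have hb0 : b ≠ 0 := by rintro rfl; exact h0 hb
  refine le_trans ?_ (card_pow_eq_le (k := k * (q - 1)) (Nat.mul_pos hk (by omega)) (1 : F))
  rw [Nat.card_eq_fintype_card, Fintype.card_subtype]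
  refine card_le_card_of_injOn (· / b) (fun a ha => ?_) fun a _ a' _ e => by simpa [hb0] using e
  have ha0 : (a / b) ^ k ≠ 0 := pow_ne_zero _ (div_ne_zero (by rintro rfl; exact h0 ha) hb0)
  have := h a ha b hb
  rw [frobq_apply, show q = q - 1 + 1 by omega, pow_succ, mul_left_eq_self₀, or_iff_left ha0,
    ← pow_mul] at this
  simpa using this

open Classical in
variable (f Y u x) in
/-- points with prescribed labels -/
noncomputable def Zs (z z' : V) (δ δ' : F) : Finset X :=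
  Y.filter fun ω => Lb f u x z ω δ ∧ Lb f u x z' ω δ'

omit [Finite V] in
theorem mem_Zs : ω ∈ Zs f u x Y z z' δ δ' ↔ ω ∈ Y ∧ Lb f u x z ω δ ∧ Lb f u x z' ω δ' := by
  simp [Zs]

namespace Sm
variable (A : Sm (f := f) u e x Y)
include A

theorem card_Zs_map (hk : k ∈ f.SIsom) :
    (Zs f u x Y (k.1 z) (k.1 z') δ δ').card = (Zs f u x Y z z' δ δ').card := by
  classical
  exact (A.S.card_filter_smul hk fun ω _ => by rw [Lb_map_iff hk, Lb_map_iff hk]).symm

theorem Zs_smul (ha : a ≠ 0) : Zs f u x Y (a • z) z' δ δ' = Zs f u x Y z z' (δ / a ^ 3) δ' := by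
  ext ω; simp +contextual only [mem_Zs, A.scale_iff _ ha, and_congr_right_iff, implies_true]

theorem Zs_mul (hs : frobq hF s = s) (hs0 : s ≠ 0) :
    Zs f u x Y z z' (s * δ) δ' = Zs f u x Y z z' δ δ' := by
  ext ω; simp +contextual only [mem_Zs, A.mul_iff _ hs hs0, and_congr_right_iff, implies_true]

theorem exists_nolabel : ∃ δ, δ ≠ 0 ∧ ∀ ω ∈ Y, ¬ Lb f u x u ω δ := by
  classical
  by_contra h
  push Not at h
  have hu := A.T.hyp.Qu
  have := card_mul_le_card_mul (s := univ.erase (0 : F)) (t := Y) (fun δ ω => Lb f u x u ω δ)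
    (m := q ^ 2) (n := 1 * (q - 1)) (fun δ hδ => ?_) fun ω hω => card_le_of_pow hF one_pos
      (by simp) fun a ha b hb => ?_
  · rw [card_erase_of_mem (mem_univ _), card_univ, hF] at this
    have h1 := A.hB
    have h2 := A.hq
    obtain ⟨t, rfl⟩ := Nat.exists_eq_add_of_le' (show 1 ≤ q by omega)
    rw [show (t + 1) ^ 2 - 1 = t * (t + 2) from Nat.sub_eq_of_eq_add (by ring),
      Nat.add_sub_cancel] at this
    have := this.trans (Nat.mul_le_mul_right _ h1)
    have : 0 < t * (t + 1) ^ 2 := Nat.mul_pos (by omega) (by positivity)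
    nlinarith
  · obtain ⟨ω, hω, h1⟩ := h δ (ne_of_mem_erase hδ)
    rw [← A.card_so hu A.T.hyp.u_ne_zero hω]
    exact card_le_card fun ω' => by
      simp only [mem_filter, mem_bipartiteAbove]
      exact fun h => ⟨h.1, h1.so hu h.2⟩
  · simp only [mem_bipartiteBelow, mem_erase] at ha hb
    rw [pow_one]; exact A.unique hω hb.2 ha.2 hb.1.1

theorem three_dvd : 3 ∣ q + 1 := by
  by_contra h3
  obtain ⟨δ, h0, h⟩ := A.exists_nolabel
  obtain ⟨ω, hω⟩ := A.S.ne
  have hu := A.T.hyp.Qu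
  have hu0 := A.T.hyp.u_ne_zero
  obtain ⟨l, l0, hl⟩ := A.exists_Lb hu hu0 hω
  obtain ⟨j, k, hk⟩ : ∃ j k, k * 3 = (q + 1) * j + 1 := by
    by_cases h : q % 3 = 0
    · exact ⟨2, (2 * q + 3) / 3, by omega⟩
    · exact ⟨1, (q + 2) / 3, by omega⟩
  have c0 : l / δ ≠ 0 := div_ne_zero l0 h0
  obtain ⟨g, hg, h1⟩ := su3_sing A.S.nd A.h3 hu hu0 (y := (l / δ) ^ k • u)
    (by rw [f.Q_smul, hu, mul_zero]) (smul_ne_zero (pow_ne_zero _ c0) hu0)
  have h2 := hl.map hg
  have hω' := A.S.inv g hg ω hω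
  rw [h1, A.scale_iff hω' (pow_ne_zero _ c0), ← pow_mul, hk] at h2
  have h4 := A.mul hω' h2 (s := ((l / δ) ^ (q + 1)) ^ j) (by
    rw [map_pow, pow_succ, ← frobq_apply hF, map_mul, frobq_frobq, mul_comm])
  refine h _ hω' (by convert h4 using 1; rw [← pow_mul, pow_succ _ ((q + 1) * j)]; field_simp)

theorem card_lt (h0 : δ ≠ 0) : (Zs f u x Y e e δ δ).card < 3 * q ^ 2 := by
  classical
  have he := A.T.hyp.Qe
  have he0 := A.T.hyp.e_ne_zero
  have := card_mul_le_card_mul (s := univ.erase (0 : F)) (t := Y)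
    (fun b ω => Lb f u x (b • e) ω δ) (m := (Zs f u x Y e e δ δ).card) (n := 3 * (q - 1))
    (fun b hb => ?_) fun ω hω => card_le_of_pow hF three_pos (by simp) fun a ha b hb => ?_
  · rw [card_erase_of_mem (mem_univ _), card_univ, hF] at this
    have h1 := A.hB
    have h2 := A.hq
    obtain ⟨t, rfl⟩ := Nat.exists_eq_add_of_le' (show 1 ≤ q by omega)
    rw [show (t + 1) ^ 2 - 1 = t * (t + 2) from Nat.sub_eq_of_eq_add (by ring),
      Nat.add_sub_cancel] at this
    have := this.trans (Nat.mul_le_mul_right _ h1)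
    by_contra h3
    have := Nat.mul_le_mul_left (t * (t + 2)) (not_lt.1 h3)
    have : 0 < t * (t + 1) ^ 2 := Nat.mul_pos (by omega) (by positivity)
    nlinarith
  · obtain ⟨g, hg, h1⟩ := su3_sing A.S.nd A.h3 he he0 (y := b • e)
      (by rw [f.Q_smul, he, mul_zero]) (smul_ne_zero (ne_of_mem_erase hb) he0)
    rw [← A.card_Zs_map hg, h1]
    exact card_le_card fun ω' => by
      simp only [mem_Zs, mem_bipartiteAbove]
      exact fun h => ⟨h.1, h.2.1⟩
  · simp only [mem_bipartiteBelow, mem_erase] at ha hb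
    have := A.unique hω ((A.scale_iff hω ha.1.1).1 ha.2) ((A.scale_iff hω hb.1.1).1 hb.2)
      (div_ne_zero h0 (pow_ne_zero _ ha.1.1))
    rwa [show δ / b ^ 3 / (δ / a ^ 3) = (a / b) ^ 3 by
      have := ha.1.1; have := hb.1.1; field_simp] at this

theorem card_Zs_P (η l : F) [DecidableEq F] : (Zs f u x Y (l • u + e + η • x) e δ δ').card =
    if l + frobq hF l = -(η * frobq hF η * f.B x x) then
      if l = 0 then (Zs f u x Y e e δ δ').card else (Zs f u x Y u e (δ / l ^ 3) δ').card else 0 := by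
  have T := A.T
  have hQ : f.Q (l • u + e + η • x) = l + frobq hF l + η * frobq hF η * f.B x x := by
    simp only [unit_Q, B_add_left, B_add_right, B_smul_left, uB_smul, T.hyp.Buu, T.hyp.Bue,
      T.hyp.Beu, T.hyp.Bee, T.xu, T.xe, f.B_eq_zero_symm T.xu, f.B_eq_zero_symm T.xe, Param.unit_ε]
    ring
  split_ifs with h1 h2
  · subst h2
    obtain rfl : η = 0 := by simpa [T.xx] using h1
    simp
  · obtain ⟨g, hg, h3, h4⟩ := su3_hyp A.S.nd A.h3 (T.hyp.smul h2) (u' := l • u + e + η • x)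
      (e' := (frobq hF l)⁻¹ • e) ⟨by rw [hQ, h1, neg_add_cancel], (T.hyp.smul h2).Qe, by
        simp [uB_smul, T.hyp.Bue, T.hyp.Bee, T.xe, frobq_frobq, h2]⟩
    rw [map_smul] at h4
    replace h4 := smul_right_injective V (inv_ne_zero ((map_ne_zero _).2 h2)) h4
    rw [← A.Zs_smul h2, ← A.card_Zs_map hg (z := l • u), h3, h4]
  · exact card_eq_zero.2 (eq_empty_of_forall_notMem fun ω hω => h1 (by
      linear_combination (A.sing (mem_Zs.1 hω).2.1).1 - hQ))

theorem shift [DecidableEq F] {β : F} (hβ : ∀ ω ∈ Y, ∀ d, d ≠ 0 → Lb f u x u ω d →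
      β * d + frobq hF (β * d) ≠ 0) :
    ∑ p ∈ univ.filter fun p : F × F => β * p.1 + frobq hF (β * p.1) = 0,
        (Zs f u x Y (p.2 • u + e + p.1 • x) e δ δ').card =
      ∑ p ∈ univ.filter fun p : F × F => β * p.1 + frobq hF (β * p.1) = 1,
        (Zs f u x Y (p.2 • u + e + p.1 • x) e δ δ').card := by
  classical
  have T := A.T
  simp only [Zs, card_filter]
  rw [sum_comm, sum_comm (t := Y)]
  refine sum_congr rfl fun ω hω => ?_
  obtain ⟨d₀, d0, hd⟩ := A.exists_Lb T.hyp.Qu T.hyp.u_ne_zero hω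
  have h1 := hβ ω hω d₀ d0 hd
  have h2 : frobq hF (β * d₀ + frobq hF (β * d₀))⁻¹ = (β * d₀ + frobq hF (β * d₀))⁻¹ := by
    rw [map_inv₀, map_add, frobq_frobq, add_comm]
  obtain ⟨d, h3, h4⟩ : ∃ d, Lb f u x u ω d ∧ β * d + frobq hF (β * d) = 1 :=
    ⟨_, A.mul hω hd h2, by
      rw [mul_left_comm, map_mul _ _ (β * d₀), h2, ← mul_add, inv_mul_cancel₀ h1]⟩
  obtain ⟨m, g, h5, h6⟩ := A.mem h3 (one_mem _) rfl T.hyp.Qu
  refine sum_bijective (fun p => (p.1 + d, p.2 - frobq hF d * p.1 * f.B x x - m))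
    (Finite.injective_iff_bijective.1 fun p p' h => ?_) (fun p => ?_) fun p _ => ?_
  · simp only [Prod.mk.injEq, add_left_inj] at h
    exact Prod.ext h.1 (by simpa [h.1] using h.2)
  · simp only [mem_filter, mem_univ, true_and, mul_add, map_add]
    exact ⟨fun h => by linear_combination h + h4, fun h => by linear_combination h - h4⟩
  · have : g.1 (p.2 • u + e + p.1 • x) =
        (p.2 - frobq hF d * p.1 * f.B x x - m) • u + e + (p.1 + d) • x := by
      simp only [h5.app, B_add_left, B_smul_left, uB_smul, T.hyp.Buu, T.hyp.Beu, T.xu,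
        f.B_eq_zero_symm T.xu, f.B_eq_zero_symm T.xe, Param.unit_ε, Isom.one_apply]
      module
    simp only [← this]
    rw [← Lb_map_iff (isE_mem_SIsom T.hyp.Qu h5), h6]

theorem ident {l₀ : F} (hl : frobq hF l₀ = -l₀) (l0 : l₀ ≠ 0) :
    (Zs f u x Y e e δ δ').card + ∑ l : F, (Zs f u x Y u e (δ / l ^ 3) δ').card =
      q * ((Zs f u x Y e e δ δ').card + (q - 1) * (Zs f u x Y u e (δ / l₀ ^ 3) δ').card) +
        (Zs f u x Y u e 0 δ').card := by
  classical
  obtain ⟨δ₁, h0, h1⟩ := A.exists_nolabel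
  have β0 : l₀ / δ₁ ≠ 0 := div_ne_zero l0 h0
  have hs := A.shift (δ := δ) (δ' := δ') (β := l₀ / δ₁) fun ω hω d d0 hd h => h1 ω hω (by
    have h2 : frobq hF (d / δ₁) = d / δ₁ := by
      rw [show l₀ / δ₁ * d = l₀ * (d / δ₁) by ring, map_mul, hl] at h
      exact mul_left_cancel₀ l0 (by linear_combination -h)
    simpa [d0] using A.mul hω hd (s := (d / δ₁)⁻¹) (by rw [map_inv₀, h2]))
  set N : F → ℕ := fun l => if l = 0 then (Zs f u x Y e e δ δ').card else
    (Zs f u x Y u e (δ / l ^ 3) δ').card with hN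
  set w : F → ℕ := fun t => ∑ l with l + frobq hF l = t, N l with hw
  have N1 : ∀ t l, t ≠ 0 → frobq hF t = t → N (t * l) = N l := fun t l t0 ht => by
    simp only [hN, mul_eq_zero, t0, false_or]
    rw [show δ / (t * l) ^ 3 = (t ^ 3)⁻¹ * (δ / l ^ 3) by ring,
      A.Zs_mul (by rw [map_inv₀, map_pow, ht]) (by simpa using t0)]
  have w1 : ∀ t, t ≠ 0 → frobq hF t = t → w t = w 1 := fun t t0 ht =>
    (sum_bijective (t * ·) (mulLeft_bijective₀ t t0) (fun l => by
      simp only [mem_filter, mem_univ, true_and, map_mul, ht, ← mul_add, mul_right_eq_self₀, t0,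
        or_false]) fun l _ => (N1 t l t0 ht).symm).symm
  have S : ∀ t, ∑ p ∈ univ.filter fun p : F × F => l₀ / δ₁ * p.1 + frobq hF (l₀ / δ₁ * p.1) = t,
      (Zs f u x Y (p.2 • u + e + p.1 • x) e δ δ').card =
      ∑ η with l₀ / δ₁ * η + frobq hF (l₀ / δ₁ * η) = t, w (-(η * frobq hF η * f.B x x)) :=
    fun t => by
      simp only [A.card_Zs_P, sum_filter, Fintype.sum_prod_type, hw, hN]
      exact sum_congr rfl fun η _ => by split_ifs <;> simp
  have c : ∀ t, frobq hF t = t →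
      (univ.filter fun η => l₀ / δ₁ * η + frobq hF (l₀ / δ₁ * η) = t).card = q := fun t ht =>
    (card_bijective (l₀ / δ₁ * ·) (mulLeft_bijective₀ _ β0) (by simp)).trans (card_trace hF ht)
  have w2 : ∀ η, η ≠ 0 → w (-(η * frobq hF η * f.B x x)) = w 1 := fun η h => w1 _
    (by simp [h, A.T.xx]) (by
      rw [map_neg, map_mul, map_mul, frobq_frobq, ← uB_symm, mul_comm η])
  have hq := A.hq
  have w0 : w 0 = w 1 := by
    rw [S, S, ← add_sum_erase _ _ (a := 0) (by simp),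
      sum_congr rfl fun η h => w2 η (ne_of_mem_erase h),
      sum_congr rfl fun η h => w2 η (by rintro rfl; simp at h), sum_const, sum_const,
      card_erase_of_mem (by simp), c 0 (map_zero _), c 1 (map_one _)] at hs
    obtain ⟨t, rfl⟩ := Nat.exists_eq_add_of_le' (show 1 ≤ q by omega)
    simp only [zero_mul, neg_zero, Nat.add_sub_cancel, smul_eq_mul] at hs
    linarith
  have e1 : ∑ l, N l = q * w 0 := by
    rw [← sum_fiberwise_of_maps_to (t := univ.filter fun t => frobq hF t = t)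
      (g := fun l => l + frobq hF l) (fun l _ => by simp [frobq_frobq, add_comm]),
      sum_congr rfl (g := fun _ => w 0) fun t ht => ?_, sum_const, card_fixed hF, smul_eq_mul]
    by_cases t0 : t = 0
    · rw [t0]
    · exact (w1 t t0 (mem_filter.1 ht).2).trans w0.symm
  have e2 : w 0 = N 0 + (q - 1) * N l₀ := by
    rw [hw]
    dsimp only
    rw [← add_sum_erase _ _ (a := 0) (by simp), sum_congr rfl (g := fun _ => N l₀) fun l h => ?_,
      sum_const, card_erase_of_mem (by simp), card_trace hF (map_zero _), smul_eq_mul]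
    simp only [mem_erase, mem_filter, mem_univ, true_and] at h
    rw [← N1 (l / l₀) l₀ (div_ne_zero h.1 l0) (by
      rw [map_div₀, hl, eq_neg_of_add_eq_zero_right h.2, neg_div_neg_eq]), div_mul_cancel₀ _ l0]
  rw [e2, ← add_sum_erase _ _ (mem_univ 0), sum_congr rfl fun l h => if_neg (ne_of_mem_erase h)]
    at e1
  rw [← add_sum_erase _ _ (mem_univ 0)]
  simp only [hN, if_true, if_neg l0] at e1
  rw [← e1]; simp; ring

theorem ident' {l₀ : F} (hl : frobq hF l₀ = -l₀) (l0 : l₀ ≠ 0) (h0 : δ ≠ 0)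
    (hb : frobq hF (b ^ 3) ≠ b ^ 3) : q * (Zs f u x Y u e (δ * b ^ 3 / l₀ ^ 3) δ).card =
      (Zs f u x Y e e δ δ).card + q * (Zs f u x Y u e (δ / l₀ ^ 3) δ).card := by
  have b0 : b ≠ 0 := by rintro rfl; simp at hb
  have h1 := A.ident (δ := δ) (δ' := δ) hl l0
  have h2 := A.ident (δ := δ * b ^ 3) (δ' := δ) hl l0
  rw [← Equiv.sum_comp (Equiv.mulLeft₀ b b0), show Zs f u x Y e e (δ * b ^ 3) δ = ∅ from
    eq_empty_of_forall_notMem fun ω hω => hb (by
      obtain ⟨h3, h4, h5⟩ := mem_Zs.1 hω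
      simpa [h0] using A.unique h3 h5 h4 h0),
    sum_congr rfl (g := fun l => (Zs f u x Y u e (δ / l ^ 3) δ).card) fun l _ => by
      rw [Equiv.mulLeft₀_apply, mul_pow, mul_comm δ, mul_div_mul_left _ _ (pow_ne_zero _ b0)]] at h2
  have hq := A.hq
  obtain ⟨t, rfl⟩ := Nat.exists_eq_add_of_le' (show 1 ≤ q by omega)
  simp only [Nat.add_sub_cancel, card_empty] at h1 h2
  exact Nat.eq_of_mul_eq_mul_left (show 0 < t by omega) (by linarith)

theorem false (h5 : q ≠ 5) : False := by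
  classical
  have T := A.T
  have he := T.hyp.Qe
  have he0 := T.hyp.e_ne_zero
  obtain ⟨r, hr, r5⟩ : ∃ r, q = 2 * r + 1 ∧ 5 ≤ r := by
    have h1 := A.three_dvd
    have h2 := A.hq
    have h3 : q % 2 = 1 := by
      by_contra h
      refine A.two_ne (by
        have := FiniteField.cast_card_eq_zero F
        rw [hF, show q = 2 * (q / 2) by omega] at this
        have h4 := FiniteField.odd_card_of_char_ne_two (F := F)
        by_contra h6
        have h7 := h4 (fun h => h6 (by simpa [h] using ringChar.Nat.cast_ringChar (R := F)))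
        rw [hF, show q = 2 * (q / 2) by omega, mul_pow] at h7
        omega)
    have h4 : q ≠ 8 := by omega
    exact ⟨q / 2, by omega, by omega⟩
  let K : Subgroup Fˣ := (Units.map (frobq hF : F →* F)).eqLocus (MonoidHom.id _)
  have hK : ∀ c : K, frobq hF c.1.1 = c.1.1 := fun c => congrArg Units.val c.2
  let φ : K →* f.Isom := MonoidHom.mk' (fun c => T.hyp.hscale c.1.1 c.1.ne_zero) fun a b =>
    (T.hyp.hscale_mul _ _ _ _).symm
  have φ1 : ∀ c, φ c ∈ f.SIsom := fun c => hscale_mem_SIsom T.hyp c.1.ne_zero (hK c)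
  have φu : ∀ c, (φ c).1 u = c.1.1 • u := fun c => T.hyp.hscale_u _ c.1.ne_zero
  have φe : ∀ c, (φ c).1 e = (c.1.1)⁻¹ • e := fun c => by
    rw [← hK c]; exact T.hyp.hscale_e _ c.1.ne_zero
  have hK' : ∀ c : K, frobq hF (c.1.1)⁻¹ = (c.1.1)⁻¹ := fun c => by rw [map_inv₀, hK]
  have cK : Nat.card K = 2 * r := by
    have := card_erase_of_mem (a := (0 : F)) (s := univ.filter fun a => frobq hF a = a) (by simp)
    rw [card_fixed hF, show q - 1 = 2 * r by omega] at this
    rw [← this, ← Nat.card_eq_finsetCard]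
    exact Nat.card_congr (Equiv.ofBijective (fun c => ⟨c.1.1, by simpa using hK c⟩)
      ⟨fun a b h => Subtype.ext (Units.ext (congrArg Subtype.val h)), fun ⟨a, ha⟩ => by
        simp only [mem_erase, mem_filter, mem_univ, true_and] at ha
        exact ⟨⟨Units.mk0 a ha.1, Units.ext ha.2⟩, rfl⟩⟩)
  have c2 : ∀ S : Subgroup K, (∀ c ∈ S, c.1.1 ^ 2 = 1) → Nat.card S ≤ 2 := fun S h =>
    (Nat.card_le_card_of_injective (fun c => ⟨c.1.1.1, h _ c.2⟩) fun a b h =>
      Subtype.ext (Subtype.ext (Units.ext (congrArg Subtype.val h)))).trans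
      (card_pow_eq_le two_pos (1 : F))
  have fu : ∀ c : K, c.1.1 ^ 2 ≠ 1 → ∀ ω ∈ Y, ∀ ω', φ c • ω = ω → φ c • ω' = ω' → SO f e ω ω' →
      ω' = ω := fun c hc ω hω ω' => A.fix_unique he he0 hω (hK' c) (by simp)
    (fun h => hc (by rwa [← mul_inv, inv_eq_one, ← sq] at h)) (φe c) fun v hv => by
      simp [φ, HypPair.hscale_apply, hv, Submodule.smul_mem, Submodule.mem_span_singleton_self]
  have so : ∀ c : K, ∀ ω ∈ Y, SO f e ω (φ c • ω) := fun c ω hω =>
    A.S.su3_so A.h3 A.hB he he0 hω (φ1 c) (hK' c) (φe c)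
  let _ := MulAction.compHom X φ
  have md : ∀ Z ⊆ Y, (∀ c : K, ∀ ω ∈ Z, φ c • ω ∈ Z) →
      Z.card ≡ (Z.filter fun ω => ∀ c : K, φ c • ω = ω).card [MOD r] := fun Z hZ h =>
    card_modEq_fix (K := K) h fun ω hω h1 => by
      have h2 := c2 (MulAction.stabilizer K ω) fun c hc => by_contra fun h3 => h1 fun k =>
        fu c h3 ω (hZ hω) _ hc (show φ c • φ k • ω = φ k • ω by
          rw [← mul_smul, ← map_mul, mul_comm, map_mul, mul_smul, show φ c • ω = ω from hc])
          (so k ω (hZ hω))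
      have h3 := (MulAction.stabilizer K ω).index_mul_card
      have h4 := Nat.card_pos (α := MulAction.stabilizer K ω)
      rw [MulAction.index_stabilizer, cK] at h3
      interval_cases Nat.card (MulAction.stabilizer K ω)
      · exact ⟨2, by omega⟩
      · exact ⟨1, by omega⟩
  have q1 : q ≡ 1 [MOD r] := by rw [hr]; simp [Nat.ModEq]
  obtain ⟨ω₀, hω₀⟩ := A.S.ne
  obtain ⟨δ, δ0, hδ⟩ := A.exists_Lb he he0 hω₀
  have Le : ∀ c : K, ∀ ω ∈ Y, Lb f u x e ω δ → Lb f u x e (φ c • ω) δ := fun c ω hω h =>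
    h.so he (so c ω hω)
  have m1 : ∀ l, (Zs f u x Y u e l δ).card ≡
      ((Zs f u x Y u e l δ).filter fun ω => ∀ c : K, φ c • ω = ω).card [MOD r] := fun l =>
    md _ (filter_subset _ _) fun c ω hω => by
      obtain ⟨h1, h2, h3⟩ := mem_Zs.1 hω
      have h4 := A.S.inv _ (φ1 c) ω h1
      have h5 := h2.map (φ1 c)
      rw [φu, A.scale_iff h4 c.1.ne_zero, div_eq_inv_mul,
        A.mul_iff h4 (by rw [← inv_pow, map_pow, hK']) (by simp)] at h5
      exact mem_Zs.2 ⟨h4, h5, Le c ω h1 h3⟩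
  have m2 := md (Zs f u x Y e e δ δ) (filter_subset _ _) fun c ω hω => by
    obtain ⟨h1, h2, h3⟩ := mem_Zs.1 hω
    exact mem_Zs.2 ⟨A.S.inv _ (φ1 c) ω h1, Le c ω h1 h3, Le c ω h1 h3⟩
  set Φ := (Zs f u x Y e e δ δ).filter fun ω => ∀ c : K, φ c • ω = ω with hΦ
  have Φ1 : 0 < Φ.card := by
    have := md (Y.filter (SO f e ω₀)) (filter_subset _ _) fun c ω hω => by
      obtain ⟨h1, h2⟩ := mem_filter.1 hω
      exact mem_filter.2 ⟨A.S.inv _ (φ1 c) ω h1, h2.trans he (so c ω h1)⟩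
    rw [A.card_so he he0 hω₀] at this
    refine lt_of_lt_of_le (Nat.pos_of_ne_zero fun h => ?_) (card_le_card (filter_subset_filter _
      fun ω hω => mem_Zs.2 ⟨(mem_filter.1 hω).1, hδ.so he (mem_filter.1 hω).2,
        hδ.so he (mem_filter.1 hω).2⟩))
    rw [h] at this
    have := Nat.le_of_dvd one_pos (Nat.modEq_zero_iff_dvd.1 ((q1.pow 2).symm.trans this))
    omega
  have Φ2 : Φ.card < 3 := by
    obtain ⟨c, hc⟩ : ∃ c : K, c.1.1 ^ 2 ≠ 1 := by
      by_contra h; push Not at h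
      have := c2 ⊤ fun c _ => h c
      rw [Subgroup.card_top] at this; omega
    have := card_mul_le_card_mul (s := Φ) (t := Zs f u x Y e e δ δ) (SO f e) (m := q ^ 2) (n := 1)
      (fun ω hω => ?_) fun ω hω => card_le_one.2 fun a ha b hb => ?_
    · exact lt_of_mul_lt_mul_right (this.trans_lt (by simpa using A.card_lt δ0)) (Nat.zero_le _)
    · obtain ⟨h1, h2, -⟩ := mem_Zs.1 (mem_filter.1 hω).1
      rw [← A.card_so he he0 h1]
      exact card_le_card fun ω' => by
        simp only [mem_filter, mem_bipartiteAbove, mem_Zs]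
        exact fun h => ⟨⟨h.1, h2.so he h.2, h2.so he h.2⟩, h.2⟩
    · simp only [mem_bipartiteBelow, hΦ, mem_filter, mem_Zs] at ha hb
      exact fu c hc b hb.1.1.1 a (hb.1.2 c) (ha.1.2 c) (hb.2.trans he (ha.2.symm he))
  obtain ⟨l₀, l0, hl⟩ := exists_lam0 hF
  have sub : ∀ l, ((Zs f u x Y u e l δ).filter fun ω => ∀ c : K, φ c • ω = ω) ⊆ Φ := fun l =>
    filter_subset_filter _ fun ω hω => mem_Zs.2 ⟨(mem_Zs.1 hω).1, (mem_Zs.1 hω).2.2,
      (mem_Zs.1 hω).2.2⟩
  have key : ∀ b, frobq hF (b ^ 3) ≠ b ^ 3 → Φ.card ≤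
      ((Zs f u x Y u e (δ * b ^ 3 / l₀ ^ 3) δ).filter fun ω => ∀ c : K, φ c • ω = ω).card :=
    fun b hb => by
      have h1 := (q1.mul (m1 _)).symm.trans (A.ident' (lam0_unit'.1 hl) l0 δ0 hb ▸
        m2.add (q1.mul (m1 (δ / l₀ ^ 3))))
      have h2 := card_le_card (sub (δ * b ^ 3 / l₀ ^ 3))
      have h3 := card_le_card (sub (δ / l₀ ^ 3))
      have := h1.eq_of_lt_of_lt (by omega) (by omega)
      omega
  obtain ⟨g, g0, hg⟩ : ∃ g : F, g ≠ 0 ∧ frobq hF (g ^ 6) ≠ g ^ 6 := by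
    by_contra h; push Not at h
    have := card_le_of_pow hF (S := univ.erase 0) (k := 6) (by norm_num) (by simp)
      fun a ha b hb => h _ (div_ne_zero (ne_of_mem_erase ha) (ne_of_mem_erase hb))
    rw [card_erase_of_mem (mem_univ _), card_univ, hF, hr,
      show (2 * r + 1) ^ 2 - 1 = 4 * r * (r + 1) from Nat.sub_eq_of_eq_add (by ring),
      Nat.add_sub_cancel] at this
    nlinarith
  have hg3 : frobq hF (g ^ 3) ≠ g ^ 3 := fun h => hg (by
    rw [show g ^ 6 = g ^ 3 * g ^ 3 by ring, map_mul, h])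
  have h1 := key g hg3
  have h2 := key (g ^ 2) (by rwa [← pow_mul])
  have h3 := card_le_card (union_subset (sub (δ * g ^ 3 / l₀ ^ 3)) (sub (δ * (g ^ 2) ^ 3 / l₀ ^ 3)))
  rw [card_union_of_disjoint (disjoint_left.2 fun ω h4 h5 => hg3 ?_)] at h3
  · omega
  obtain ⟨h6, h7, -⟩ := mem_Zs.1 (mem_filter.1 h4).1
  have := A.unique h6 h7 (mem_Zs.1 (mem_filter.1 h5).1).2.1 (by simp [δ0, g0, l0])
  rwa [show δ * (g ^ 2) ^ 3 / l₀ ^ 3 / (δ * g ^ 3 / l₀ ^ 3) = g ^ 3 by field_simp] at this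

end Sm

theorem su3_index_ge (hf : f.Nondeg) (h3 : finrank F V = 3) (hq : 3 ≤ q) (h5 : q ≠ 5)
    (H : Subgroup f.SIsom) (hH : H ≠ ⊤) : q ^ 3 + 1 ≤ H.index := by
  obtain ⟨Y, S, hY⟩ := exists_sys hf (big_of_lam0 (exists_lam0 hF)) isE_mem_SIsom
    (su_gen hf (by omega)) H hH
  obtain ⟨u, hu0, hu⟩ := hf.unit_exists_singular (by omega)
  obtain ⟨e, he⟩ := hf.exists_hypPair hu hu0
  obtain ⟨x, T⟩ := exists_tri hf h3 he
  by_contra h
  exact Sm.false ⟨S, h3, hq, by omega, T⟩ h5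

theorem su3_index_sing (hf : f.Nondeg) (h3 : finrank F V = 3) :
    ∃ H : Subgroup f.SIsom, Subgroup.center f.SIsom ≤ H ∧ H.index = q ^ 3 + 1 := by
  obtain ⟨H, h1, h2⟩ := su_index_sing hf (k := 1) h3 le_rfl
  have : (2 : ℤ) ≤ q := by exact_mod_cast two_le_q hF
  refine ⟨H, h1, ?_⟩
  zify
  exact mul_right_cancel₀ (b := (q : ℤ) ^ 2 - 1) (by nlinarith) (by rw [h2]; ring)

end Cfsg.Agent.MI
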